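import Groth.Agent.Lib.helper5.RegLoc2

set_option autoImplicit false

namespace Groth.Agent.H5.RegLoc

open IsLocalRing

universe u

lemma exists_fin_generators (R : Type u) [CommRing R] [IsLocalRing R] [IsNoetherianRing R] (n : ℕ)
    (h : (maximalIdeal R).spanFinrank = n) :
    ∃ x : Fin n → R, Ideal.span (Set.range x) = maximalIdeal R := by
  classical
  obtain ⟨s, hs1, hs2⟩ := Submodule.FG.exists_span_finset_card_eq_spanFinrank
    (maximalIdeal R).fg_of_isNoetherianRing
  have hc : Fintype.card s = n := by simp [hs1, h]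
  let e := Fintype.equivFinOfCardEq hc
  refine ⟨fun i => (e.symm i : R), ?_⟩
  have : Set.range (fun i => (e.symm i : R)) = (s : Set R) := by
    ext y
    constructor
    · rintro ⟨i, rfl⟩; exact (e.symm i).2
    · intro hy; exact ⟨e ⟨y, hy⟩, by simp⟩
  rw [this]
  exact hs2

/-- the ideal `I` is zero if `I ≤ m²` and `R/I` is regular. -/
lemma eq_bot_of_le_sq {R : Type u} [CommRing R] [IsRegularLocalRing R] (I : Ideal R)
    [IsRegularLocalRing (R ⧸ I)] (hI : I ≤ maximalIdeal R ^ 2) : I = ⊥ := by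
  by_contra hne
  obtain ⟨y, hyI, hy0⟩ := Submodule.exists_mem_ne_zero_of_ne_bot hne
  haveI := isDomain R
  have hf : Function.Surjective (Ideal.Quotient.mk I) := Ideal.Quotient.mk_surjective
  have h1 : ringKrullDim (R ⧸ I) + 1 ≤ ringKrullDim R :=
    ringKrullDim_succ_le_of_surjective (Ideal.Quotient.mk I) hf
      (mem_nonZeroDivisors_of_ne_zero hy0) (Ideal.Quotient.eq_zero_iff_mem.mpr hyI)
  have h2 := spanFinrank_le_of_ker_le_sq (Ideal.Quotient.mk I) hf (by rw [Ideal.mk_ker]; exact hI)
  obtain ⟨n, hn⟩ := exists_nat_dim R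
  obtain ⟨e, he⟩ := exists_nat_dim (R ⧸ I)
  have h3 := spanFinrank_eq_of_dim hn
  have h4 := spanFinrank_eq_of_dim he
  rw [hn, he] at h1
  have : e + 1 ≤ n := by exact_mod_cast h1
  omega

lemma le_maximalIdeal_of_quotient_local {R : Type u} [CommRing R] [IsLocalRing R] (I : Ideal R)
    [IsLocalRing (R ⧸ I)] : I ≤ maximalIdeal R := by
  apply IsLocalRing.le_maximalIdeal
  intro h
  have : Subsingleton (R ⧸ I) := Ideal.Quotient.subsingleton_iff.mpr h
  exact not_subsingleton (R ⧸ I) this

/-- (R5) -/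
theorem exists_generators : ∀ (d : ℕ) (R : Type u) [CommRing R] [IsRegularLocalRing R],
    ringKrullDim R = d → ∀ (I : Ideal R) [IsRegularLocalRing (R ⧸ I)],
    ∃ (x : Fin d → R) (c : ℕ) (hc : c ≤ d), Ideal.span (Set.range x) = maximalIdeal R ∧
      I = Ideal.span (Set.range (fun i : Fin c => x (Fin.castLE hc i))) := by
  intro d
  induction d with
  | zero =>
    intro R _ _ hd I _
    have h5 : maximalIdeal R = ⊥ :=
      (Submodule.spanFinrank_eq_zero_iff_eq_bot (maximalIdeal R).fg_of_isNoetherianRing).mp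
        (spanFinrank_eq_of_dim hd)
    have hI : I = ⊥ := le_bot_iff.mp (h5 ▸ le_maximalIdeal_of_quotient_local I)
    refine ⟨Fin.elim0, 0, le_rfl, ?_, ?_⟩
    · rw [h5]; simp
    · rw [hI]; simp
  | succ d ih =>
    intro R _ _ hd I _
    by_cases hI : I ≤ maximalIdeal R ^ 2
    · have h0 := eq_bot_of_le_sq I hI
      obtain ⟨x, hx⟩ := exists_fin_generators R (d + 1) (spanFinrank_eq_of_dim hd)
      refine ⟨x, 0, Nat.zero_le _, hx, ?_⟩
      rw [h0]; simp
    · obtain ⟨x0, hx0I, hx02⟩ := Set.not_subset.mp hI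
      have hIm := le_maximalIdeal_of_quotient_local I
      have hx0m : x0 ∈ maximalIdeal R := hIm hx0I
      obtain ⟨hreg, hdS⟩ := quotient_regular hd hx0m hx02
      have hle : Ideal.span {x0} ≤ I := (Ideal.span_singleton_le_iff_mem _).mpr hx0I
      set mk' := Ideal.Quotient.mk (Ideal.span {x0}) with hmk
      have hsurj : Function.Surjective mk' := Ideal.Quotient.mk_surjective
      haveI : IsRegularLocalRing ((R ⧸ Ideal.span {x0}) ⧸ I.map mk') :=
        IsRegularLocalRing.of_ringEquiv (DoubleQuot.quotQuotEquivQuotOfLE hle).symm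
      obtain ⟨x', c', hc', hx'1, hx'2⟩ := ih (R ⧸ Ideal.span {x0}) hdS (I.map mk')
      let g : (R ⧸ Ideal.span {x0}) → R := fun b => (hsurj b).choose
      have hg : ∀ b, mk' (g b) = b := fun b => (hsurj b).choose_spec
      have key : ∀ {n : ℕ} (y : Fin n → R ⧸ Ideal.span {x0}),
          (Ideal.span (Set.range y)).comap mk' =
            Ideal.span (Set.range (Fin.cons x0 (fun i => g (y i)) : Fin (n + 1) → R)) := by
        intro n y
        have h1 : Ideal.span (Set.range y) =
            (Ideal.span (Set.range (fun i => g (y i)))).map mk' := by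
          rw [Ideal.map_span]
          congr 1
          ext b
          constructor
          · rintro ⟨i, rfl⟩; exact ⟨g (y i), ⟨i, rfl⟩, hg _⟩
          · rintro ⟨_, ⟨i, rfl⟩, rfl⟩; exact ⟨i, (hg _).symm⟩
        rw [h1, Ideal.comap_map_of_surjective mk' hsurj, ← RingHom.ker, hmk, Ideal.mk_ker,
          Fin.range_cons, Ideal.span_insert, sup_comm]
      refine ⟨Fin.cons x0 (fun i => g (x' i)), c' + 1, Nat.succ_le_succ hc', ?_, ?_⟩
      · rw [← key x', hx'1]
        exact comap_maximalIdeal mk' hsurj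
      · have h2 : I = (I.map mk').comap mk' := by
          rw [Ideal.comap_map_of_surjective mk' hsurj, ← RingHom.ker, hmk, Ideal.mk_ker]
          exact (sup_eq_left.mpr hle).symm
        have h3 : (fun i : Fin (c' + 1) => (Fin.cons x0 (fun i => g (x' i)) : Fin (d + 1) → R)
            (Fin.castLE (Nat.succ_le_succ hc') i)) =
            Fin.cons x0 (fun j : Fin c' => g (x' (Fin.castLE hc' j))) := by
          funext i
          refine Fin.cases ?_ (fun j => ?_) i
          · rfl
          · simp [Fin.castLE_succ]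
        rw [h3, ← key (fun j : Fin c' => x' (Fin.castLE hc' j)), ← hx'2]
        exact h2

/-- minimal generators of `m` are independent modulo `m²`. -/
lemma coeff_mem_of_sum_mem_sq {R : Type u} [CommRing R] [IsLocalRing R] [IsNoetherianRing R]
    {d : ℕ} (hd : (maximalIdeal R).spanFinrank = d) (x : Fin d → R)
    (hx : Ideal.span (Set.range x) = maximalIdeal R) {c : ℕ} (hc : c ≤ d) (a : Fin c → R)
    (hsum : ∑ i, a i * x (Fin.castLE hc i) ∈ maximalIdeal R ^ 2) :
    ∀ i, a i ∈ maximalIdeal R := by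
  classical
  intro j
  by_contra hj
  have hu : IsUnit (a j) := by
    by_contra h; exact hj ((IsLocalRing.mem_maximalIdeal _).mpr h)
  set j' := Fin.castLE hc j with hj'
  set T : Set R := x '' ({j'}ᶜ : Set (Fin d)) with hT
  have hxj : x j' ∈ Ideal.span T ⊔ maximalIdeal R ^ 2 := by
    obtain ⟨u, hu'⟩ := hu
    have h1 : x j' = (↑u⁻¹ : R) * (∑ i, a i * x (Fin.castLE hc i)) -
        (↑u⁻¹ : R) * ∑ i ∈ Finset.univ.erase j, a i * x (Fin.castLE hc i) := by
      rw [← Finset.add_sum_erase Finset.univ _ (Finset.mem_univ j), ← hu']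
      have : (↑u⁻¹ : R) * (u : R) = 1 := by simp
      linear_combination (-(x (Fin.castLE hc j))) * this
    rw [h1]
    refine Ideal.sub_mem _ (Submodule.mem_sup_right (Ideal.mul_mem_left _ _ hsum))
      (Submodule.mem_sup_left (Ideal.mul_mem_left _ _ (Ideal.sum_mem _ (fun i hi => ?_))))
    refine Ideal.mul_mem_left _ _ (Ideal.subset_span ⟨Fin.castLE hc i, ?_, rfl⟩)
    simp only [Set.mem_compl_iff, Set.mem_singleton_iff, hj']
    intro h
    exact (Finset.mem_erase.mp hi).1 (Fin.castLE_injective hc h)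
  have h1 : maximalIdeal R ≤ Ideal.span T := by
    apply Submodule.le_of_le_smul_of_le_jacobson_bot (maximalIdeal R).fg_of_isNoetherianRing
      (IsLocalRing.jacobson_eq_maximalIdeal _ bot_ne_top).ge
    rw [smul_eq_mul, ← pow_two]
    conv_lhs => rw [← hx]
    rw [Ideal.span_le]
    rintro _ ⟨i, rfl⟩
    by_cases hi : i = j'
    · rw [hi]; exact hxj
    · exact Submodule.mem_sup_left (Ideal.subset_span ⟨i, hi, rfl⟩)
  have h2 : Ideal.span T ≤ maximalIdeal R := by
    rw [← hx]; apply Ideal.span_mono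
    rintro _ ⟨i, _, rfl⟩; exact ⟨i, rfl⟩
  have h3 := le_antisymm h1 h2
  have hTfin : T.Finite := (Set.toFinite _).image x
  have h4 : (maximalIdeal R).spanFinrank ≤ d - 1 := by
    rw [h3]
    refine le_trans (Submodule.spanFinrank_span_le_ncard_of_finite hTfin) ?_
    refine le_trans (Set.ncard_image_le (Set.toFinite _)) ?_
    rw [Set.ncard_compl, Set.ncard_singleton]
    simp
  have hdpos : 0 < d := lt_of_lt_of_le (Fin.pos j) hc
  omega

/-- (R6) -/
theorem inf_sq_eq_mul {R : Type u} [CommRing R] [IsRegularLocalRing R] (n : Ideal R)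
    [IsRegularLocalRing (R ⧸ n)] :
    n ⊓ maximalIdeal R ^ 2 = maximalIdeal R * n := by
  have hnm := le_maximalIdeal_of_quotient_local n
  apply le_antisymm
  · obtain ⟨d, hd⟩ := exists_nat_dim R
    obtain ⟨x, c, hc, hx1, hx2⟩ := exists_generators d R hd n
    rintro y ⟨hyn, hy2⟩
    rw [hx2] at hyn
    obtain ⟨a, rfl⟩ := (Ideal.mem_span_range_iff_exists_fun).mp hyn
    have ha := coeff_mem_of_sum_mem_sq (spanFinrank_eq_of_dim hd) x hx1 hc a hy2
    refine Ideal.sum_mem _ (fun i _ => Ideal.mul_mem_mul (ha i) ?_)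
    rw [hx2]
    exact Ideal.subset_span ⟨i, rfl⟩
  · refine le_inf Ideal.mul_le_right ?_
    rw [pow_two]
    exact Ideal.mul_mono_right hnm

end Groth.Agent.H5.RegLoc
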