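import Mathlib

/-!
Regular local rings: basic theory (helper5).
-/

set_option autoImplicit false

namespace Groth.Agent.H5.RegLoc

open IsLocalRing

universe u

section gens
variable {R S : Type u} [CommRing R] [CommRing S] [IsLocalRing R] [IsNoetherianRing R]
  [IsLocalRing S] (f : R →+* S) (hf : Function.Surjective f)

include hf

lemma isNoetherianRing_of_surj : IsNoetherianRing S := isNoetherianRing_of_surjective R S f hf

lemma comap_maximalIdeal : (maximalIdeal S).comap f = maximalIdeal R := by
  haveI := IsLocalHom.of_surjective f hf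
  exact IsLocalRing.maximalIdeal_comap f

lemma map_maximalIdeal : (maximalIdeal R).map f = maximalIdeal S :=
  IsLocalRing.map_maximalIdeal_of_surjective f hf

/-- Lift a generating set of `m_S`. -/
lemma exists_lift_gens : ∃ t : Finset R, t.card ≤ (maximalIdeal S).spanFinrank ∧
    maximalIdeal R = Ideal.span (t : Set R) ⊔ RingHom.ker f := by
  classical
  haveI := isNoetherianRing_of_surj f hf
  obtain ⟨s, hs1, hs2⟩ := Submodule.FG.exists_span_finset_card_eq_spanFinrank
    (maximalIdeal S).fg_of_isNoetherianRing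
  let g : S → R := fun b => (hf b).choose
  have hg : ∀ b, f (g b) = b := fun b => (hf b).choose_spec
  refine ⟨s.image g, le_trans Finset.card_image_le hs1.le, ?_⟩
  have h1 : (Ideal.span ((s.image g : Finset R) : Set R)).map f = maximalIdeal S := by
    rw [Ideal.map_span, ← hs2]
    congr 1
    ext b
    simp only [Finset.coe_image, Set.mem_image, Finset.mem_coe, exists_exists_and_eq_and, hg,
      exists_eq_right]
  rw [← comap_maximalIdeal f hf, ← h1, Ideal.comap_map_of_surjective f hf, RingHom.ker]

/-- (A3) -/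
lemma spanFinrank_le_succ (x : R) (hk : RingHom.ker f = Ideal.span {x}) :
    (maximalIdeal R).spanFinrank ≤ (maximalIdeal S).spanFinrank + 1 := by
  classical
  obtain ⟨t, ht1, ht2⟩ := exists_lift_gens f hf
  rw [hk, ← Ideal.span_union] at ht2
  rw [ht2]
  have hfin : ((t : Set R) ∪ {x}).Finite := t.finite_toSet.union (Set.finite_singleton x)
  refine le_trans (Submodule.spanFinrank_span_le_ncard_of_finite hfin) ?_
  refine le_trans (Set.ncard_union_le _ _) ?_
  rw [Set.ncard_singleton, Set.ncard_coe_finset]
  omega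

/-- (A4) -/
lemma spanFinrank_le_of_ker_le_sq (hk : RingHom.ker f ≤ maximalIdeal R ^ 2) :
    (maximalIdeal R).spanFinrank ≤ (maximalIdeal S).spanFinrank := by
  classical
  obtain ⟨t, ht1, ht2⟩ := exists_lift_gens f hf
  have h1 : maximalIdeal R ≤ Ideal.span (t : Set R) := by
    apply Submodule.le_of_le_smul_of_le_jacobson_bot (maximalIdeal R).fg_of_isNoetherianRing
      (IsLocalRing.jacobson_eq_maximalIdeal _ bot_ne_top).ge
    rw [smul_eq_mul, ← pow_two]
    conv_lhs => rw [ht2]
    exact sup_le_sup le_rfl hk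
  have h2 : Ideal.span (t : Set R) ≤ maximalIdeal R := by
    rw [ht2]; exact le_sup_left
  rw [le_antisymm h1 h2]
  refine le_trans (Submodule.spanFinrank_span_le_ncard_of_finite t.finite_toSet) ?_
  rw [Set.ncard_coe_finset]
  exact ht1

/-- (A2) -/
lemma spanFinrank_succ_le (x : R) (hx0 : f x = 0) (hx2 : x ∉ maximalIdeal R ^ 2) :
    (maximalIdeal S).spanFinrank + 1 ≤ (maximalIdeal R).spanFinrank := by
  classical
  obtain ⟨s, hs1, hs2⟩ := Submodule.FG.exists_span_finset_card_eq_spanFinrank
    (maximalIdeal R).fg_of_isNoetherianRing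
  have hsm : ∀ i ∈ s, i ∈ maximalIdeal R := fun i hi => by
    rw [← hs2]; exact Submodule.subset_span hi
  have hx : x ∈ maximalIdeal R := by
    have : x ∈ RingHom.ker f := hx0
    have h2 : RingHom.ker f ≤ maximalIdeal R := by
      rw [← comap_maximalIdeal f hf]
      exact Ideal.comap_mono bot_le
    exact h2 this
  rw [← hs2] at hx
  obtain ⟨a, ha⟩ := Submodule.mem_span_finset.mp hx
  -- some coefficient is a unit
  have hu : ∃ j ∈ s, IsUnit (a j) := by
    by_contra hcon
    push Not at hcon
    apply hx2
    rw [← ha.2, pow_two]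
    refine Ideal.sum_mem _ (fun i hi => ?_)
    rw [smul_eq_mul]
    exact Ideal.mul_mem_mul ((IsLocalRing.mem_maximalIdeal _).mpr (hcon i hi)) (hsm i hi)
  obtain ⟨j, hj, hju⟩ := hu
  -- `m_S` is generated by the image of `s.erase j`
  have h1 : maximalIdeal S = Ideal.span (f '' (s : Set R)) := by
    rw [← map_maximalIdeal f hf, ← Ideal.map_span]
    congr 1
    exact hs2.symm
  have h2 : f j ∈ Ideal.span (f '' ((s.erase j : Finset R) : Set R)) := by
    have h3 : (0 : S) = ∑ i ∈ s, f (a i) * f i := by
      rw [← hx0, ← ha.2, map_sum]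
      simp
    rw [← Finset.add_sum_erase s _ hj] at h3
    have h4 : f j = - (↑(hju.map f).unit⁻¹ : S) * ∑ i ∈ s.erase j, f (a i) * f i := by
      have h5 : f (a j) * f j = - ∑ i ∈ s.erase j, f (a i) * f i := by
        rw [eq_neg_iff_add_eq_zero]; exact h3.symm
      have h6 : (↑(hju.map f).unit⁻¹ : S) * f (a j) = 1 := by
        have := (hju.map f).unit.inv_mul
        simpa using this
      calc f j = (↑(hju.map f).unit⁻¹ : S) * f (a j) * f j := by rw [h6, one_mul]
        _ = (↑(hju.map f).unit⁻¹ : S) * (f (a j) * f j) := by ring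
        _ = _ := by rw [h5]; ring
    rw [h4]
    refine Ideal.mul_mem_left _ _ (Ideal.sum_mem _ (fun i hi => ?_))
    exact Ideal.mul_mem_left _ _ (Ideal.subset_span ⟨i, hi, rfl⟩)
  have h7 : maximalIdeal S = Ideal.span (f '' ((s.erase j : Finset R) : Set R)) := by
    apply le_antisymm
    · rw [h1, Ideal.span_le]
      rintro _ ⟨i, hi, rfl⟩
      by_cases hij : i = j
      · subst hij; exact h2
      · exact Ideal.subset_span ⟨i, Finset.mem_coe.mpr (Finset.mem_erase.mpr ⟨hij, hi⟩), rfl⟩
    · rw [h1]
      apply Ideal.span_mono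
      apply Set.image_mono
      exact Finset.coe_subset.mpr (Finset.erase_subset _ _)
  have h8 : (maximalIdeal S).spanFinrank ≤ (s.erase j).card := by
    rw [h7]
    have hfin : (f '' ((s.erase j : Finset R) : Set R)).Finite := (Finset.finite_toSet _).image f
    refine le_trans (Submodule.spanFinrank_span_le_ncard_of_finite hfin) ?_
    refine le_trans (Set.ncard_image_le (Finset.finite_toSet _)) ?_
    rw [Set.ncard_coe_finset]
  rw [Finset.card_erase_of_mem hj] at h8
  have h9 : 0 < s.card := Finset.card_pos.mpr ⟨j, hj⟩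
  omega

end gens

section dim

lemma exists_nat_dim (R : Type u) [CommRing R] [IsLocalRing R] [IsNoetherianRing R] :
    ∃ n : ℕ, ringKrullDim R = n := by
  have h1 := ringKrullDim_le_spanFinrank_maximalIdeal R
  have h0 : ringKrullDim R ≠ ⊥ := ringKrullDim_ne_bot
  obtain ⟨e, he⟩ := WithBot.ne_bot_iff_exists.mp h0
  rw [← he] at h1
  have h2 : e ≤ ((maximalIdeal R).spanFinrank : ℕ∞) := by exact_mod_cast h1
  have h3 : e ≠ ⊤ := ne_top_of_le_ne_top (ENat.natCast_ne_top _) h2
  lift e to ℕ using h3
  exact ⟨e, he.symm⟩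

variable {R S : Type u} [CommRing R] [CommRing S] [IsLocalRing R] [IsNoetherianRing R]
  [IsLocalRing S] (f : R →+* S) (hf : Function.Surjective f)

include hf

/-- (D1) -/
lemma dim_le_succ (x : R) (hk : RingHom.ker f = Ideal.span {x}) :
    ringKrullDim R ≤ ringKrullDim S + 1 := by
  have hx : x ∈ maximalIdeal R := by
    have h2 : RingHom.ker f ≤ maximalIdeal R := by
      rw [← comap_maximalIdeal f hf]
      exact Ideal.comap_mono bot_le
    exact h2 (hk ▸ Ideal.mem_span_singleton_self x)
  have h1 := ringKrullDim_le_ringKrullDim_quotient_add_card ({x} : Finset R)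
    (by
      intro y hy
      simp only [Finset.coe_singleton, Set.mem_singleton_iff] at hy
      subst hy
      rw [← Ideal.jacobson_bot]
      exact (IsLocalRing.maximalIdeal_le_jacobson ⊥) hx)
  have e : (R ⧸ Ideal.span (({x} : Finset R) : Set R)) ≃+* S :=
    (Ideal.quotEquivOfEq (by rw [hk]; simp)).trans (RingHom.quotientKerEquivOfSurjective hf)
  rw [ringKrullDim_eq_of_ringEquiv e] at h1
  simpa using h1

end dim

section regular

variable {R S : Type u} [CommRing R] [CommRing S] [IsRegularLocalRing R]
  [IsLocalRing S] (f : R →+* S) (hf : Function.Surjective f)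

include hf

/-- (R1): the quotient of a regular local ring by `x ∈ m \ m²` is regular of dimension one less. -/
theorem regular_of_quotient (x : R) (hk : RingHom.ker f = Ideal.span {x})
    (hx2 : x ∉ maximalIdeal R ^ 2) :
    IsRegularLocalRing S ∧ ringKrullDim S + 1 = ringKrullDim R := by
  haveI := isNoetherianRing_of_surj f hf
  have hx0 : f x = 0 := by
    have : x ∈ RingHom.ker f := hk ▸ Ideal.mem_span_singleton_self x
    exact this
  have h1 := spanFinrank_succ_le f hf x hx0 hx2
  have h2 := dim_le_succ f hf x hk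
  have h3 : ((maximalIdeal R).spanFinrank : WithBot ℕ∞) = ringKrullDim R :=
    IsRegularLocalRing.spanFinrank_maximalIdeal
  have h4 := ringKrullDim_le_spanFinrank_maximalIdeal S
  obtain ⟨n, hn⟩ := exists_nat_dim R
  obtain ⟨e, he⟩ := exists_nat_dim S
  rw [hn] at h2 h3
  rw [he] at h2 h4
  have h3' : (maximalIdeal R).spanFinrank = n := by exact_mod_cast h3
  have h2' : n ≤ e + 1 := by exact_mod_cast h2
  have h4' : e ≤ (maximalIdeal S).spanFinrank := by exact_mod_cast h4
  constructor
  · apply IsRegularLocalRing.of_spanFinrank_maximalIdeal_le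
    rw [he]
    have : (maximalIdeal S).spanFinrank ≤ e := by omega
    exact_mod_cast this
  · rw [he, hn]
    have : e + 1 = n := by omega
    exact_mod_cast this

end regular

section domain

/-- prime avoidance: an element of `m` outside `m²` and all minimal primes. -/
lemma exists_good_element (R : Type u) [CommRing R] [IsLocalRing R] [IsNoetherianRing R]
    (hdim : ringKrullDim R ≠ 0) :
    ∃ x ∈ maximalIdeal R, x ∉ maximalIdeal R ^ 2 ∧ ∀ p ∈ minimalPrimes R, x ∉ p := by
  classical
  by_contra hcon
  push Not at hcon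
  have hfin : (minimalPrimes R).Finite := minimalPrimes.finite_of_isNoetherianRing R
  let P : Finset (Ideal R) := insert (maximalIdeal R ^ 2) hfin.toFinset
  have hsub : ((maximalIdeal R : Ideal R) : Set R) ⊆ ⋃ i ∈ (P : Set (Ideal R)), (id i : Ideal R) := by
    intro x hx
    by_cases hx2 : x ∈ maximalIdeal R ^ 2
    · simp only [Set.mem_iUnion]
      exact ⟨maximalIdeal R ^ 2, by simp [P], hx2⟩
    · obtain ⟨p, hp, hxp⟩ := hcon x hx hx2
      simp only [Set.mem_iUnion]
      exact ⟨p, by simp [P, hp], hxp⟩
  rw [Ideal.subset_union_prime (maximalIdeal R ^ 2) (maximalIdeal R ^ 2)] at hsub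
  · obtain ⟨i, hi, hle⟩ := hsub
    simp only [Finset.mem_insert, Set.Finite.mem_toFinset, P] at hi
    rcases hi with rfl | hi
    · -- m ≤ m²
      have h1 : maximalIdeal R = ⊥ := by
        apply Submodule.eq_bot_of_le_smul_of_le_jacobson_bot (maximalIdeal R) (maximalIdeal R)
          (maximalIdeal R).fg_of_isNoetherianRing
        · rw [smul_eq_mul, ← pow_two]; exact hle
        · exact (IsLocalRing.jacobson_eq_maximalIdeal _ bot_ne_top).ge
      apply hdim
      have h2 := ringKrullDim_le_spanFinrank_maximalIdeal R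
      rw [h1, Submodule.spanFinrank_bot] at h2
      exact le_antisymm (by exact_mod_cast h2) ringKrullDim_nonneg_of_nontrivial
    · -- m ≤ p minimal
      have hp : i.IsPrime := hi.1.1
      have h1 : maximalIdeal R = i :=
        (maximalIdeal.isMaximal R).eq_of_le hp.ne_top hle
      apply hdim
      rw [← IsLocalRing.maximalIdeal_height_eq_ringKrullDim]
      have : (maximalIdeal R).height = 0 := by
        rw [Ideal.height_eq_zero_iff, h1]; exact hi
      rw [this]; rfl
  · intro i hi h1 _
    simp only [Finset.mem_insert, Set.Finite.mem_toFinset, P] at hi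
    rcases hi with rfl | hi
    · exact absurd rfl h1
    · exact hi.1.1

/-- (R2) A regular local ring is a domain. -/
theorem isDomain_of_dim : ∀ (d : ℕ) (R : Type u) [CommRing R] [IsRegularLocalRing R],
    ringKrullDim R = d → IsDomain R := by
  intro d
  induction d with
  | zero =>
    intro R _ _ hd
    have h3 : ((maximalIdeal R).spanFinrank : WithBot ℕ∞) = ringKrullDim R :=
      IsRegularLocalRing.spanFinrank_maximalIdeal
    rw [hd] at h3
    have h4 : (maximalIdeal R).spanFinrank = 0 := by exact_mod_cast h3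
    have h5 : maximalIdeal R = ⊥ :=
      (Submodule.spanFinrank_eq_zero_iff_eq_bot (maximalIdeal R).fg_of_isNoetherianRing).mp h4
    exact (IsLocalRing.isField_iff_maximalIdeal_eq.mpr h5).isDomain
  | succ d ih =>
    intro R _ _ hd
    have hne : ringKrullDim R ≠ 0 := by
      rw [hd]
      intro h
      have : ((d + 1 : ℕ) : WithBot ℕ∞) = ((0 : ℕ) : WithBot ℕ∞) := by exact_mod_cast h
      have : d + 1 = 0 := by exact_mod_cast this
      omega
    obtain ⟨x, hx, hx2, hxp⟩ := exists_good_element R hne
    have hxtop : Ideal.span {x} ≠ (⊤ : Ideal R) := by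
      intro h
      have : (1 : R) ∈ maximalIdeal R :=
        ((Ideal.span_singleton_le_iff_mem _).mpr hx) (h ▸ Submodule.mem_top)
      exact (maximalIdeal.isMaximal R).ne_top ((Ideal.eq_top_iff_one _).mpr this)
    haveI : Nontrivial (R ⧸ Ideal.span {x}) := Ideal.Quotient.nontrivial_iff.mpr hxtop
    haveI : IsLocalRing (R ⧸ Ideal.span {x}) :=
      IsLocalRing.of_surjective' (Ideal.Quotient.mk (Ideal.span {x})) Ideal.Quotient.mk_surjective
    obtain ⟨hreg, hdim⟩ := regular_of_quotient (Ideal.Quotient.mk (Ideal.span {x}))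
      Ideal.Quotient.mk_surjective x Ideal.mk_ker hx2
    have hdS : ringKrullDim (R ⧸ Ideal.span {x}) = d := by
      obtain ⟨e, he⟩ := exists_nat_dim (R ⧸ Ideal.span {x})
      rw [he, hd] at hdim
      have : e + 1 = d + 1 := by exact_mod_cast hdim
      rw [he]
      have : e = d := by omega
      exact_mod_cast this
    have hdom : IsDomain (R ⧸ Ideal.span {x}) := ih _ hdS
    have hprime : (Ideal.span {x} : Ideal R).IsPrime := (Ideal.Quotient.isDomain_iff_prime (I := Ideal.span {x})).mp hdom
    obtain ⟨p, hp, hple⟩ := Ideal.exists_minimalPrimes_le (J := Ideal.span {x}) (I := ⊥) bot_le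
    have hpp : p.IsPrime := hp.1.1
    have hxnp : x ∉ p := hxp p hp
    have h1 : p ≤ maximalIdeal R • p := by
      intro y hy
      obtain ⟨a, rfl⟩ := Ideal.mem_span_singleton'.mp (hple hy)
      have ha : a ∈ p := (hpp.mem_or_mem hy).resolve_right hxnp
      rw [mul_comm, smul_eq_mul]
      exact Ideal.mul_mem_mul hx ha
    have h2 : p = ⊥ := Submodule.eq_bot_of_le_smul_of_le_jacobson_bot (maximalIdeal R) p
      p.fg_of_isNoetherianRing h1 (IsLocalRing.jacobson_eq_maximalIdeal _ bot_ne_top).ge
    haveI : (⊥ : Ideal R).IsPrime := h2 ▸ hpp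
    exact IsDomain.of_bot_isPrime R

theorem isDomain (R : Type u) [CommRing R] [IsRegularLocalRing R] : IsDomain R := by
  obtain ⟨n, hn⟩ := exists_nat_dim R
  exact isDomain_of_dim n R hn

end domain

end Groth.Agent.H5.RegLoc
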