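import Mathlib
import Groth.Agent.Lib.helper5.Gamma

/-! More helper lemmas on γ-operations (helper5): the identity
`Σ γ^i(e - m) t^(m-i) = Σ λ^i(e) (t-1)^(m-i)`. -/

namespace Groth.Agent.H5.Gamma

open Finset PowerSeries LambdaRing

section PS

variable {K : Type*} [CommRing K]

theorem one_add_U : (1 : PowerSeries K) + U K = PowerSeries.mk 1 := by
  ext n
  rcases n with _ | n
  · simp [U]
  · simp [U, coeff_one]

theorem U_eq : U K = X * PowerSeries.mk 1 := by
  ext n
  rcases n with _ | n
  · simp [U]
  · rw [coeff_succ_X_mul]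
    simp [U]

theorem one_add_U_mul : ((1 : PowerSeries K) + U K) * (1 - X) = 1 := by
  rw [one_add_U, mk_one_mul_one_sub_eq_one]

theorem U_mul : U K * (1 - X) = X := by
  rw [U_eq, mul_assoc, mk_one_mul_one_sub_eq_one, mul_one]

end PS

section Poly

variable {K : Type*} [CommRing K]

theorem reflect_sum {ι : Type*} (s : Finset ι) (f : ι → Polynomial K) (N : ℕ) :
    Polynomial.reflect N (∑ i ∈ s, f i) = ∑ i ∈ s, Polynomial.reflect N (f i) := by
  classical
  induction s using Finset.induction_on with
  | empty => simp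
  | insert a s ha ih => rw [sum_insert ha, sum_insert ha, Polynomial.reflect_add, ih]

theorem natDegree_one_sub_X_le : (1 - Polynomial.X : Polynomial K).natDegree ≤ 1 := by
  refine (Polynomial.natDegree_sub_le _ _).trans ?_
  simp only [Polynomial.natDegree_one, zero_le, sup_of_le_right]
  exact Polynomial.natDegree_X_le

theorem natDegree_one_sub_X_pow_le (n : ℕ) :
    ((1 - Polynomial.X : Polynomial K) ^ n).natDegree ≤ n := by
  refine (Polynomial.natDegree_pow_le).trans ?_
  calc n * (1 - Polynomial.X : Polynomial K).natDegree ≤ n * 1 :=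
        Nat.mul_le_mul_left _ natDegree_one_sub_X_le
    _ = n := mul_one n

theorem reflect_one_sub_X_pow (n : ℕ) :
    Polynomial.reflect n ((1 - Polynomial.X : Polynomial K) ^ n) = (Polynomial.X - 1) ^ n := by
  induction n with
  | zero => simp [Polynomial.reflect_one]
  | succ n ih =>
    rw [pow_succ, Polynomial.reflect_mul _ _ (natDegree_one_sub_X_pow_le n)
      natDegree_one_sub_X_le, ih, pow_succ]
    congr 1
    rw [Polynomial.reflect_sub, Polynomial.reflect_one, Polynomial.reflect_one_X, pow_one]

end Poly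

variable {K : Type*} [CommRing K] [LambdaOps K]

theorem lamSeries_zero : lamSeries (0 : K) = 1 := by
  have h := lamSeries_add (0 : K) 0
  rw [add_zero] at h
  have hu : IsUnit (lamSeries (0 : K)) := by
    rw [PowerSeries.isUnit_iff_constantCoeff]
    simp [lamSeries, LambdaOps.lam_zero]
  obtain ⟨u, hu⟩ := hu
  rw [← hu] at h ⊢
  have : (u : PowerSeries K) * 1 = u * u := by rw [mul_one]; exact h
  exact (u.isUnit.mul_left_cancel this).symm

theorem lamSeries_one (h1 : ∀ i : ℕ, 2 ≤ i → LambdaOps.lam i (1 : K) = 0) :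
    lamSeries (1 : K) = 1 + X := by
  ext n
  rw [lamSeries, coeff_mk, map_add, coeff_one, coeff_X]
  rcases n with _ | _ | n
  · simp [LambdaOps.lam_zero]
  · simp [LambdaOps.lam_one]
  · rw [h1 (n + 2) (by omega)]
    simp

theorem lamSeries_natCast (h1 : ∀ i : ℕ, 2 ≤ i → LambdaOps.lam i (1 : K) = 0) (n : ℕ) :
    lamSeries ((n : ℕ) : K) = (1 + X) ^ n := by
  induction n with
  | zero => rw [Nat.cast_zero, lamSeries_zero, pow_zero]
  | succ n ih => rw [Nat.cast_succ, lamSeries_add, ih, lamSeries_one h1, pow_succ]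

/-- The polynomial `Σ_{i ≤ m} λ^i(e) X^i (1-X)^(m-i)`. -/
noncomputable def Rpoly (m : ℕ) (e : K) : Polynomial K :=
  ∑ i ∈ range (m + 1), Polynomial.C (LambdaOps.lam i e) *
    (Polynomial.X ^ i * (1 - Polynomial.X) ^ (m - i))

theorem natDegree_Rpoly_le (m : ℕ) (e : K) : (Rpoly m e).natDegree ≤ m := by
  refine Polynomial.natDegree_sum_le_of_forall_le _ _ fun i hi => ?_
  have him : i ≤ m := by have := mem_range.mp hi; omega
  refine (Polynomial.natDegree_C_mul_le _ _).trans ?_
  refine (Polynomial.natDegree_mul_le).trans ?_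
  have h1 : (Polynomial.X ^ i : Polynomial K).natDegree ≤ i := Polynomial.natDegree_X_pow_le i
  have h2 := natDegree_one_sub_X_pow_le (K := K) (m - i)
  omega

theorem reflect_Rpoly (m : ℕ) (e : K) :
    Polynomial.reflect m (Rpoly m e) =
      ∑ i ∈ range (m + 1), Polynomial.C (LambdaOps.lam i e) * (Polynomial.X - 1) ^ (m - i) := by
  rw [Rpoly, reflect_sum]
  refine sum_congr rfl fun i hi => ?_
  have him : i ≤ m := by have := mem_range.mp hi; omega
  rw [Polynomial.reflect_C_mul]
  congr 1
  have hm : i + (m - i) = m := by omega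
  have h := Polynomial.reflect_mul (Polynomial.X ^ i : Polynomial K)
    ((1 - Polynomial.X : Polynomial K) ^ (m - i)) (Polynomial.natDegree_X_pow_le i)
    (natDegree_one_sub_X_pow_le (m - i))
  rw [hm] at h
  rw [h, reflect_one_sub_X_pow, Polynomial.reflect_monomial,
    Polynomial.revAt_le le_rfl, Nat.sub_self, pow_zero, one_mul]

/-- Key power series identity: `γ_t(e - m) = Σ_{i ≤ m} λ^i(e) t^i (1-t)^(m-i)`. -/
theorem subst_lamSeries_sub (h1 : ∀ i : ℕ, 2 ≤ i → LambdaOps.lam i (1 : K) = 0) (m : ℕ) (e : K)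
    (he : ∀ i : ℕ, m < i → LambdaOps.lam i e = 0) :
    (lamSeries (e - (m : K))).subst (U K) = ((Rpoly m e : Polynomial K) : PowerSeries K) := by
  set z := e - (m : K) with hz
  -- the λ-series of `e` is a polynomial
  have hpoly : lamSeries e = ((∑ i ∈ range (m + 1),
      Polynomial.C (LambdaOps.lam i e) * Polynomial.X ^ i : Polynomial K) : PowerSeries K) := by
    ext k
    rw [Polynomial.coeff_coe, Polynomial.finsetSum_coeff, lamSeries, coeff_mk]
    simp only [Polynomial.coeff_C_mul, Polynomial.coeff_X_pow]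
    by_cases hk : k < m + 1
    · rw [Finset.sum_eq_single k]
      · simp
      · intro b _ hb
        simp [hb.symm]
      · intro hk'
        exact absurd (mem_range.mpr hk) hk'
    · rw [he k (by omega)]
      symm
      apply Finset.sum_eq_zero
      intro b hb
      have : b < m + 1 := mem_range.mp hb
      have hne : k ≠ b := by omega
      simp [hne]
  have hadd : lamSeries z * (1 + X) ^ m = lamSeries e := by
    rw [← lamSeries_natCast h1, ← lamSeries_add, hz, sub_add_cancel]
  have hsub := congrArg (PowerSeries.subst (U K)) hadd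
  have hone : PowerSeries.subst (U K) (1 : PowerSeries K) = 1 := by
    rw [← coe_substAlgHom hasSubst_U, map_one]
  rw [subst_mul hasSubst_U, subst_pow hasSubst_U, subst_add hasSubst_U, subst_X hasSubst_U,
    hone, hpoly, subst_coe hasSubst_U] at hsub
  have hsub' : (lamSeries z).subst (U K) * (1 + U K) ^ m =
      ∑ i ∈ range (m + 1), PowerSeries.C (LambdaOps.lam i e) * (U K) ^ i := by
    rw [hsub]
    simp [map_sum, PowerSeries.algebraMap_eq]
  calc (lamSeries z).subst (U K)
      = (lamSeries z).subst (U K) * (((1 : PowerSeries K) + U K) * (1 - X)) ^ m := by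
        rw [one_add_U_mul, one_pow, mul_one]
    _ = ((lamSeries z).subst (U K) * (1 + U K) ^ m) * (1 - X) ^ m := by rw [mul_pow, mul_assoc]
    _ = ∑ i ∈ range (m + 1), PowerSeries.C (LambdaOps.lam i e) * (U K) ^ i * (1 - X) ^ m := by
        rw [hsub', Finset.sum_mul]
    _ = ∑ i ∈ range (m + 1), PowerSeries.C (LambdaOps.lam i e) * (X ^ i * (1 - X) ^ (m - i)) := by
        refine sum_congr rfl fun i hi => ?_
        have him : i ≤ m := by have := mem_range.mp hi; omega
        have hm : (1 - X : PowerSeries K) ^ m = (1 - X) ^ i * (1 - X) ^ (m - i) := by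
          rw [← pow_add]; congr 1; omega
        have hX : (X : PowerSeries K) ^ i = (U K) ^ i * (1 - X) ^ i := by
          rw [← mul_pow, U_mul]
        rw [hm, hX]
        ring
    _ = ((Rpoly m e : Polynomial K) : PowerSeries K) := by
        rw [Rpoly, ← Polynomial.coeToPowerSeries.ringHom_apply, map_sum]
        refine sum_congr rfl fun i _ => ?_
        simp

theorem gamma_sub_eq_coeff (h1 : ∀ i : ℕ, 2 ≤ i → LambdaOps.lam i (1 : K) = 0) (m : ℕ) (e : K)
    (he : ∀ i : ℕ, m < i → LambdaOps.lam i e = 0) (k : ℕ) :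
    gamma k (e - (m : K)) = (Rpoly m e).coeff k := by
  rw [← coeff_subst_lamSeries, subst_lamSeries_sub h1 m e he, Polynomial.coeff_coe]

theorem gamma_sub_identity (h1 : ∀ i : ℕ, 2 ≤ i → LambdaOps.lam i (1 : K) = 0) (m : ℕ) (e : K)
    (he : ∀ i : ℕ, m < i → LambdaOps.lam i e = 0) :
    (∑ i ∈ range (m + 1), Polynomial.C (gamma i (e - (m : K))) * Polynomial.X ^ (m - i)) =
      ∑ i ∈ range (m + 1), Polynomial.C (LambdaOps.lam i e) * (Polynomial.X - 1) ^ (m - i) := by
  rw [← reflect_Rpoly]
  ext j
  rw [Polynomial.finsetSum_coeff, Polynomial.coeff_reflect]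
  simp only [Polynomial.coeff_C_mul, Polynomial.coeff_X_pow, gamma_sub_eq_coeff h1 m e he]
  by_cases hj : j ≤ m
  · rw [Polynomial.revAt_le hj, Finset.sum_eq_single (m - j)]
    · have hjj : j = m - (m - j) := by omega
      simp [← hjj]
    · intro b hb hbne
      have : b < m + 1 := mem_range.mp hb
      have hne : j ≠ m - b := by omega
      simp [hne]
    · intro h
      exact absurd (mem_range.mpr (by omega)) h
  · have hrev : Polynomial.revAt m j = j := by
      simp [Polynomial.revAt, hj]
    rw [hrev, Polynomial.coeff_eq_zero_of_natDegree_lt (lt_of_le_of_lt (natDegree_Rpoly_le m e)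
      (by omega))]
    apply Finset.sum_eq_zero
    intro b hb
    have hne : j ≠ m - b := by omega
    simp [hne]

end Groth.Agent.H5.Gamma
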