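import Mathlib
import Groth.Agent.Lib.helper5.Gamma2

/-! Helper lemmas on λ-rings with positive structure (helper5): sums of line elements. -/

namespace Groth.Agent.H5.Lambda

open Finset LambdaRing Groth.Agent.H5.Gamma

variable {K : Type*} [CommRing K] [LambdaOps K]

theorem lam_zero_elt (i : ℕ) : LambdaOps.lam i (0 : K) = if i = 0 then 1 else 0 := by
  have h := congrArg (PowerSeries.coeff i) (lamSeries_zero (K := K))
  rw [lamSeries, PowerSeries.coeff_mk, PowerSeries.coeff_one] at h
  exact h

theorem lam_line (P : PosStructure K) {u : K} (hu : P.IsLine u) (i : ℕ) (hi : 2 ≤ i) :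
    LambdaOps.lam i u = 0 := by
  apply P.lam_eq_zero u hu.1 i
  rw [hu.2]
  exact_mod_cast hi

theorem lam_line_add (P : PosStructure K) {u : K} (hu : P.IsLine u) (T : K) (i : ℕ) :
    LambdaOps.lam (i + 1) (u + T) = LambdaOps.lam (i + 1) T + u * LambdaOps.lam i T := by
  rw [LambdaOps.lam_add, sum_range_succ', sum_range_succ']
  rw [Finset.sum_eq_zero, zero_add]
  · simp [LambdaOps.lam_zero, LambdaOps.lam_one, add_comm]
  · intro j _
    rw [lam_line P hu (j + 1 + 1) (by omega), zero_mul]

theorem aug_lam_sum_lines (P : PosStructure K) (s : Multiset K) (hs : ∀ u ∈ s, P.IsLine u) (i : ℕ) :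
    P.aug (LambdaOps.lam i s.sum) = ((Multiset.card s).choose i : ℤ) := by
  induction s using Multiset.induction_on generalizing i with
  | empty =>
    rw [Multiset.sum_zero, lam_zero_elt, Multiset.card_zero]
    rcases i with _ | i
    · simp
    · simp
  | cons u t ih =>
    have hu : P.IsLine u := hs u (Multiset.mem_cons_self u t)
    have ht : ∀ v ∈ t, P.IsLine v := fun v hv => hs v (Multiset.mem_cons_of_mem hv)
    rw [Multiset.sum_cons, Multiset.card_cons]
    rcases i with _ | i
    · simp [LambdaOps.lam_zero]
    · rw [lam_line_add P hu, map_add, map_mul, ih ht, ih ht, hu.2, one_mul, Nat.choose_succ_succ]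
      push_cast
      ring

theorem aug_sum_lines (P : PosStructure K) (s : Multiset K) (hs : ∀ u ∈ s, P.IsLine u) :
    P.aug s.sum = (Multiset.card s : ℤ) := by
  have h := aug_lam_sum_lines P s hs 1
  rwa [LambdaOps.lam_one, Nat.choose_one_right] at h

end Groth.Agent.H5.Lambda
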