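import Mathlib
import Groth.Agent.Lib.helper5.Lambda

/-! Adams operations on λ-rings with positive structure and the splitting principle (helper5). -/

namespace Groth.Agent.H5.Adams

open Finset LambdaRing Groth.Agent.H5.Gamma Groth.Agent.H5.Lambda

universe u

section Basic

variable {K : Type u} [CommRing K] [LambdaOps K]

/-- The series `λ_{-t}(x)`. -/
noncomputable def Lm (x : K) : PowerSeries K := PowerSeries.rescale (-1 : K) (lamSeries x)

theorem constantCoeff_Lm (x : K) : PowerSeries.constantCoeff (Lm x) = ((1 : Kˣ) : K) := by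
  rw [Lm, ← PowerSeries.coeff_zero_eq_constantCoeff_apply, PowerSeries.coeff_rescale, lamSeries,
    PowerSeries.coeff_mk, LambdaOps.lam_zero]
  simp

theorem Lm_add (x y : K) : Lm (x + y) = Lm x * Lm y := by
  rw [Lm, lamSeries_add, map_mul]
  rfl

/-- The inverse of `λ_{-t}(x)`. -/
noncomputable def Li (x : K) : PowerSeries K := (Lm x).invOfUnit 1

theorem Lm_mul_Li (x : K) : Lm x * Li x = 1 := PowerSeries.mul_invOfUnit _ 1 (constantCoeff_Lm x)

theorem eq_Li_of_mul_eq_one {x : K} {g : PowerSeries K} (h : Lm x * g = 1) : g = Li x := by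
  calc g = g * (Lm x * Li x) := by rw [Lm_mul_Li, mul_one]
    _ = (Lm x * g) * Li x := by ring
    _ = Li x := by rw [h, one_mul]

theorem Li_add (x y : K) : Li (x + y) = Li x * Li y := by
  symm
  apply eq_Li_of_mul_eq_one
  rw [Lm_add]
  calc Lm x * Lm y * (Li x * Li y) = (Lm x * Li x) * (Lm y * Li y) := by ring
    _ = 1 := by rw [Lm_mul_Li, Lm_mul_Li, one_mul]

theorem adamsSeries_eq (P : PosStructure K) (x : K) :
    adamsSeries P x = PowerSeries.C (P.aug x : K) -
      PowerSeries.X * (PowerSeries.derivative K (Lm x)) * Li x := rfl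

theorem adamsSeries_add (P : PosStructure K) (x y : K) :
    adamsSeries P (x + y) = adamsSeries P x + adamsSeries P y := by
  rw [adamsSeries_eq, adamsSeries_eq, adamsSeries_eq, Lm_add, Li_add, Derivation.leibniz, map_add,
    Int.cast_add, map_add]
  have h2 := Lm_mul_Li x
  have h3 := Lm_mul_Li y
  simp only [smul_eq_mul]
  linear_combination (-(PowerSeries.X * PowerSeries.derivative K (Lm y) * Li y)) * h2 -
    (PowerSeries.X * PowerSeries.derivative K (Lm x) * Li x) * h3

theorem adams_add (P : PosStructure K) (j : ℕ) (x y : K) :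
    adams P j (x + y) = adams P j x + adams P j y := by
  rw [adams, adams, adams, adamsSeries_add, map_add]

/-- The Adams operation as an additive map. -/
noncomputable def adamsAddHom (P : PosStructure K) (j : ℕ) : K →+ K :=
  AddMonoidHom.mk' (adams P j) (adams_add P j)

@[simp] theorem adamsAddHom_apply (P : PosStructure K) (j : ℕ) (x : K) :
    adamsAddHom P j x = adams P j x := rfl

theorem adams_zero (P : PosStructure K) (j : ℕ) : adams P j 0 = 0 :=
  map_zero (adamsAddHom P j)

theorem adams_neg (P : PosStructure K) (j : ℕ) (x : K) : adams P j (-x) = -adams P j x :=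
  map_neg (adamsAddHom P j) x

theorem adams_sub (P : PosStructure K) (j : ℕ) (x y : K) :
    adams P j (x - y) = adams P j x - adams P j y :=
  map_sub (adamsAddHom P j) x y

theorem adams_multiset_sum (P : PosStructure K) (j : ℕ) (s : Multiset K) :
    adams P j s.sum = (s.map (adams P j)).sum :=
  map_multiset_sum (adamsAddHom P j) s

theorem adams_of_isLine (P : PosStructure K) (u : K) (hu : P.IsLine u) (j : ℕ) :
    adams P j u = u ^ j := by
  obtain ⟨hpos, haug⟩ := hu
  have hlam : ∀ i : ℕ, 2 ≤ i → LambdaOps.lam i u = 0 := fun i hi => lam_line P ⟨hpos, haug⟩ i hi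
  have hL : Lm u = 1 - PowerSeries.C u * PowerSeries.X := by
    ext n
    rw [Lm, PowerSeries.coeff_rescale, lamSeries, PowerSeries.coeff_mk, map_sub,
      PowerSeries.coeff_one, PowerSeries.coeff_C_mul, PowerSeries.coeff_X]
    rcases n with _ | _ | n
    · simp [LambdaOps.lam_zero]
    · simp [LambdaOps.lam_one]
    · rw [hlam (n + 2) (by omega)]
      simp
  set G : PowerSeries K := PowerSeries.mk fun n => u ^ n with hG
  have hXG : G = 1 + PowerSeries.X * PowerSeries.C u * G := by
    ext n
    rcases n with _ | n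
    · simp [hG, mul_assoc]
    · rw [map_add, mul_assoc, PowerSeries.coeff_succ_X_mul, PowerSeries.coeff_C_mul, hG,
        PowerSeries.coeff_mk, PowerSeries.coeff_mk, PowerSeries.coeff_one]
      simp [pow_succ']
  have hLG : Lm u * G = 1 := by
    rw [hL]
    calc (1 - PowerSeries.C u * PowerSeries.X) * G
        = G - PowerSeries.X * PowerSeries.C u * G := by ring
      _ = 1 := by
        conv_lhs => lhs; rw [hXG]
        ring
  have hinv : Li u = G := (eq_Li_of_mul_eq_one hLG).symm
  have hder : PowerSeries.derivative K (Lm u) = -PowerSeries.C u := by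
    rw [hL]
    simp
  have hser : adamsSeries P u = G := by
    rw [adamsSeries_eq, hder, hinv, haug]
    conv_rhs => rw [hXG]
    simp only [Int.cast_one, map_one]
    ring
  rw [adams, hser, hG, PowerSeries.coeff_mk]

theorem isLine_one (P : PosStructure K) : P.IsLine (1 : K) := by
  refine ⟨?_, map_one _⟩
  have := P.natCast_mem 1 Nat.one_pos
  simpa using this

theorem isLine_mul (P : PosStructure K) {u v : K} (hu : P.IsLine u) (hv : P.IsLine v) :
    P.IsLine (u * v) :=
  ⟨P.mul_mem u v hu.1 hv.1, by rw [map_mul, hu.2, hv.2, mul_one]⟩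

theorem isLine_pow (P : PosStructure K) {u : K} (hu : P.IsLine u) (n : ℕ) : P.IsLine (u ^ n) := by
  induction n with
  | zero => rw [pow_zero]; exact isLine_one P
  | succ n ih => rw [pow_succ]; exact isLine_mul P ih hu

theorem adams_one (P : PosStructure K) (j : ℕ) : adams P j 1 = 1 := by
  rw [adams_of_isLine P 1 (isLine_one P), one_pow]

theorem adams_sum_lines (P : PosStructure K) (j : ℕ) (s : Multiset K) (hs : ∀ u ∈ s, P.IsLine u) :
    adams P j s.sum = (s.map (fun u => u ^ j)).sum := by
  rw [adams_multiset_sum]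
  congr 1
  exact Multiset.map_congr rfl fun u hu => adams_of_isLine P u (hs u hu) j

end Basic

section Naturality

variable {K : Type u} [CommRing K] [LambdaOps K] {K' : Type u} [CommRing K'] [LambdaOps K']

theorem map_lamSeries {f : K →+* K'} (hf : IsLambdaHom f) (x : K) :
    PowerSeries.map f (lamSeries x) = lamSeries (f x) := by
  ext n
  simp [lamSeries, hf n x]

theorem map_Lm {f : K →+* K'} (hf : IsLambdaHom f) (x : K) :
    PowerSeries.map f (Lm x) = Lm (f x) := by
  ext n
  rw [PowerSeries.coeff_map, Lm, Lm, PowerSeries.coeff_rescale, PowerSeries.coeff_rescale,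
    ← map_lamSeries hf, PowerSeries.coeff_map]
  simp

omit [LambdaOps K] [LambdaOps K'] in
theorem map_derivative (f : K →+* K') (g : PowerSeries K) :
    PowerSeries.map f (PowerSeries.derivative K g) =
      PowerSeries.derivative K' (PowerSeries.map f g) := by
  ext n
  simp [PowerSeries.coeff_derivative]

theorem map_Li {f : K →+* K'} (hf : IsLambdaHom f) (x : K) :
    PowerSeries.map f (Li x) = Li (f x) := by
  apply eq_Li_of_mul_eq_one
  rw [← map_Lm hf, ← map_mul, Lm_mul_Li, map_one]

theorem map_adamsSeries {P : PosStructure K} {P' : PosStructure K'} {f : K →+* K'}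
    (hf : IsExtension P P' f) (x : K) :
    PowerSeries.map f (adamsSeries P x) = adamsSeries P' (f x) := by
  rw [adamsSeries_eq, adamsSeries_eq, map_sub, map_mul, map_mul, PowerSeries.map_C,
    PowerSeries.map_X, map_derivative, map_Lm hf.isLambdaHom, map_Li hf.isLambdaHom, map_intCast,
    hf.aug_comp]

theorem map_adams {P : PosStructure K} {P' : PosStructure K'} {f : K →+* K'}
    (hf : IsExtension P P' f) (j : ℕ) (x : K) : f (adams P j x) = adams P' j (f x) := by
  rw [adams, adams, ← map_adamsSeries hf, PowerSeries.coeff_map]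

theorem IsExtension.isLine {P : PosStructure K} {P' : PosStructure K'} {f : K →+* K'}
    (hf : IsExtension P P' f) {u : K} (hu : P.IsLine u) : P'.IsLine (f u) :=
  ⟨hf.pos_subset u hu.1, by rw [hf.aug_comp, hu.2]⟩

theorem IsExtension.comp {K'' : Type u} [CommRing K''] [LambdaOps K''] {P : PosStructure K}
    {P' : PosStructure K'} {P'' : PosStructure K''} {f : K →+* K'} {g : K' →+* K''}
    (hf : IsExtension P P' f) (hg : IsExtension P' P'' g) : IsExtension P P'' (g.comp f) where
  isLambdaHom i x := by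
    rw [RingHom.comp_apply, hf.isLambdaHom, hg.isLambdaHom, RingHom.comp_apply]
  injective := hg.injective.comp hf.injective
  aug_comp x := by rw [RingHom.comp_apply, hg.aug_comp, hf.aug_comp]
  pos_subset e he := hg.pos_subset _ (hf.pos_subset e he)

end Naturality

section Splitting

/-- The splitting property of a class of λ-rings. -/
def SplitClass (C : Set PosLambdaRing.{u}) : Prop :=
  ∀ L ∈ C, ∀ e ∈ L.posStr.pos, ∃ L' ∈ C, ∃ f : L.carrier →+* L'.carrier,
    IsExtension L.posStr L'.posStr f ∧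
    ∃ s : Multiset L'.carrier, (∀ u ∈ s, L'.posStr.IsLine u) ∧ s.sum = f e

theorem exists_split2 {C : Set PosLambdaRing.{u}} (hC : SplitClass C) (L : PosLambdaRing.{u})
    (hL : L ∈ C) (e₁ e₂ : L.carrier) (h₁ : e₁ ∈ L.posStr.pos) (h₂ : e₂ ∈ L.posStr.pos) :
    ∃ L' ∈ C, ∃ f : L.carrier →+* L'.carrier, IsExtension L.posStr L'.posStr f ∧
      ∃ s₁ s₂ : Multiset L'.carrier, (∀ u ∈ s₁, L'.posStr.IsLine u) ∧
        (∀ u ∈ s₂, L'.posStr.IsLine u) ∧ s₁.sum = f e₁ ∧ s₂.sum = f e₂ := by
  obtain ⟨L₁, hL₁, f, hf, s₁, hs₁, hsum₁⟩ := hC L hL e₁ h₁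
  obtain ⟨L₂, hL₂, g, hg, s₂, hs₂, hsum₂⟩ := hC L₁ hL₁ (f e₂) (hf.pos_subset e₂ h₂)
  refine ⟨L₂, hL₂, g.comp f, IsExtension.comp hf hg, s₁.map g, s₂, ?_, hs₂, ?_, ?_⟩
  · intro u hu
    obtain ⟨v, hv, rfl⟩ := Multiset.mem_map.mp hu
    exact IsExtension.isLine hg (hs₁ v hv)
  · rw [RingHom.comp_apply, ← hsum₁, map_multiset_sum]
  · rw [RingHom.comp_apply, hsum₂]

variable {K : Type u} [CommRing K] [LambdaOps K]

omit [LambdaOps K] in
theorem sum_mul_eq (s : Multiset K) (b : K) : s.sum * b = (s.map fun a => a * b).sum := by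
  rw [Multiset.sum_map_mul_right, Multiset.map_id']

omit [LambdaOps K] in
theorem mul_sum_eq (s : Multiset K) (a : K) : a * s.sum = (s.map fun b => a * b).sum := by
  rw [Multiset.sum_map_mul_left, Multiset.map_id']

theorem adams_mul_of_lines (P : PosStructure K) (j : ℕ) (s₁ s₂ : Multiset K)
    (hs₁ : ∀ u ∈ s₁, P.IsLine u) (hs₂ : ∀ u ∈ s₂, P.IsLine u) :
    adams P j (s₁.sum * s₂.sum) = adams P j s₁.sum * adams P j s₂.sum := by
  have hb : ∀ b ∈ s₂, adams P j (s₁.sum * b) = adams P j s₁.sum * b ^ j := by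
    intro b hb
    rw [sum_mul_eq, adams_multiset_sum, Multiset.map_map,
      adams_sum_lines P j s₁ hs₁, sum_mul_eq, Multiset.map_map]
    congr 1
    refine Multiset.map_congr rfl fun a ha => ?_
    rw [Function.comp_apply, Function.comp_apply,
      adams_of_isLine P _ (isLine_mul P (hs₁ a ha) (hs₂ b hb)), mul_pow]
  rw [mul_sum_eq, adams_multiset_sum, Multiset.map_map,
    adams_sum_lines P j s₂ hs₂, mul_sum_eq, Multiset.map_map]
  congr 1
  refine Multiset.map_congr rfl fun b hb' => ?_
  rw [Function.comp_apply, Function.comp_apply]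
  exact hb b hb'

theorem adams_mul_pos (P : PosStructure K) (hK : HasSplitting K P) (j : ℕ) (e₁ e₂ : K)
    (h₁ : e₁ ∈ P.pos) (h₂ : e₂ ∈ P.pos) :
    adams P j (e₁ * e₂) = adams P j e₁ * adams P j e₂ := by
  obtain ⟨C, hKC, hC⟩ := hK
  obtain ⟨L', -, f, hf, s₁, s₂, hs₁, hs₂, hsum₁, hsum₂⟩ :=
    exists_split2 (C := C) hC ⟨K, P⟩ hKC e₁ e₂ h₁ h₂
  apply hf.injective
  have h := adams_mul_of_lines L'.posStr j s₁ s₂ hs₁ hs₂
  rw [hsum₁, hsum₂] at h
  rw [map_mul, map_adams hf, map_adams hf, map_adams hf, map_mul]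
  exact h

theorem adams_mul (P : PosStructure K) (hK : HasSplitting K P) (j : ℕ) (x y : K) :
    adams P j (x * y) = adams P j x * adams P j y := by
  obtain ⟨e₁, e₂, h₁, h₂, rfl⟩ := P.exists_sub x
  obtain ⟨e₃, e₄, h₃, h₄, rfl⟩ := P.exists_sub y
  have : (e₁ - e₂) * (e₃ - e₄) = e₁ * e₃ - e₁ * e₄ - (e₂ * e₃ - e₂ * e₄) := by ring
  rw [this, adams_sub, adams_sub, adams_sub, adams_sub, adams_sub, adams_mul_pos P hK j _ _ h₁ h₃,
    adams_mul_pos P hK j _ _ h₁ h₄, adams_mul_pos P hK j _ _ h₂ h₃, adams_mul_pos P hK j _ _ h₂ h₄]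
  ring

/-- The Adams operation as a ring homomorphism. -/
noncomputable def adamsRingHom (P : PosStructure K) (hK : HasSplitting K P) (j : ℕ) : K →+* K where
  toFun := adams P j
  map_one' := adams_one P j
  map_mul' := adams_mul P hK j
  map_zero' := adams_zero P j
  map_add' := adams_add P j

theorem adams_adams_pos (P : PosStructure K) (hK : HasSplitting K P) (i j : ℕ) (e : K)
    (he : e ∈ P.pos) : adams P i (adams P j e) = adams P (i * j) e := by
  obtain ⟨C, hKC, hC⟩ := hK
  obtain ⟨L', -, f, hf, s, hs, hsum⟩ := hC ⟨K, P⟩ hKC e he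
  apply hf.injective
  rw [map_adams hf, map_adams hf, map_adams hf]
  rw [← hsum, adams_sum_lines _ j s hs, adams_sum_lines _ (i * j) s hs, adams_multiset_sum,
    Multiset.map_map]
  congr 1
  refine Multiset.map_congr rfl fun u hu => ?_
  rw [Function.comp_apply, adams_of_isLine _ _ (isLine_pow _ (hs u hu) j), ← pow_mul, mul_comm]

theorem adams_adams (P : PosStructure K) (hK : HasSplitting K P) (i j : ℕ) (x : K) :
    adams P i (adams P j x) = adams P (i * j) x := by
  obtain ⟨e₁, e₂, h₁, h₂, rfl⟩ := P.exists_sub x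
  rw [adams_sub, adams_sub, adams_sub, adams_adams_pos P hK i j e₁ h₁,
    adams_adams_pos P hK i j e₂ h₂]

end Splitting

end Groth.Agent.H5.Adams
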