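import Groth.Agent.Lib.helper5.RegLoc

set_option autoImplicit false

namespace Groth.Agent.H5.RegLoc

open IsLocalRing RingTheory.Sequence Pointwise

universe u

/-- `IsRegular` of `R/(x)` as a ring vs `QuotSMulTop x R`. -/
lemma isRegular_quotSMulTop_iff {R : Type u} [CommRing R] (x : R)
    (rs : List (R ⧸ Ideal.span {x})) :
    IsRegular (QuotSMulTop x R) rs ↔ IsRegular (R ⧸ Ideal.span {x}) rs := by
  have h : x • (⊤ : Submodule R R) = Ideal.span {x} := by
    simp [← Submodule.ideal_span_singleton_smul]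
  let e0 : QuotSMulTop x R ≃ₗ[R] (R ⧸ Ideal.span {x}) := Submodule.quotEquivOfEq _ _ h
  let e : QuotSMulTop x R ≃ₗ[R ⧸ Ideal.span {x}] (R ⧸ Ideal.span {x}) :=
    e0.extendScalarsOfSurjective Ideal.Quotient.mk_surjective
  exact e.isRegular_congr rs

/-- the first of `d+1` generators of `m` (with `d + 1 = spanFinrank m`) is not in `m²`. -/
lemma head_not_mem_sq {R : Type u} [CommRing R] [IsLocalRing R] [IsNoetherianRing R] {d : ℕ}
    (hd : (maximalIdeal R).spanFinrank = d + 1) (x : Fin (d + 1) → R)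
    (hx : Ideal.span (Set.range x) = maximalIdeal R) : x 0 ∉ maximalIdeal R ^ 2 := by
  intro h0
  have h1 : maximalIdeal R ≤ Ideal.span (Set.range (fun i : Fin d => x i.succ)) := by
    apply Submodule.le_of_le_smul_of_le_jacobson_bot (maximalIdeal R).fg_of_isNoetherianRing
      (IsLocalRing.jacobson_eq_maximalIdeal _ bot_ne_top).ge
    rw [smul_eq_mul, ← pow_two]
    conv_lhs => rw [← hx]
    rw [Ideal.span_le]
    rintro _ ⟨i, rfl⟩
    refine Fin.cases ?_ (fun j => ?_) i
    · exact Submodule.mem_sup_right h0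
    · exact Submodule.mem_sup_left (Ideal.subset_span ⟨j, rfl⟩)
  have h2 : Ideal.span (Set.range (fun i : Fin d => x i.succ)) ≤ maximalIdeal R := by
    rw [← hx]; apply Ideal.span_mono
    rintro _ ⟨j, rfl⟩; exact ⟨j.succ, rfl⟩
  have h3 := le_antisymm h1 h2
  have h4 : (maximalIdeal R).spanFinrank ≤ d := by
    rw [h3]
    refine le_trans (Submodule.spanFinrank_span_le_ncard_of_finite (Set.finite_range _)) ?_
    rw [← Set.image_univ]
    refine le_trans (Set.ncard_image_le Set.finite_univ) ?_
    simp [Set.ncard_univ]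
  omega

lemma spanFinrank_eq_of_dim {R : Type u} [CommRing R] [IsRegularLocalRing R] {d : ℕ}
    (hd : ringKrullDim R = d) : (maximalIdeal R).spanFinrank = d := by
  have h3 : ((maximalIdeal R).spanFinrank : WithBot ℕ∞) = ringKrullDim R :=
    IsRegularLocalRing.spanFinrank_maximalIdeal
  rw [hd] at h3
  exact_mod_cast h3

lemma span_singleton_ne_top {R : Type u} [CommRing R] [IsLocalRing R] {x : R}
    (hx : x ∈ maximalIdeal R) : Ideal.span {x} ≠ (⊤ : Ideal R) := by
  intro h
  have : (1 : R) ∈ maximalIdeal R :=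
    ((Ideal.span_singleton_le_iff_mem _).mpr hx) (h ▸ Submodule.mem_top)
  exact (maximalIdeal.isMaximal R).ne_top ((Ideal.eq_top_iff_one _).mpr this)

/-- quotient of a regular local ring of dimension `d+1` by `x ∈ m \ m²`: packaged. -/
lemma quotient_regular {R : Type u} [CommRing R] [IsRegularLocalRing R] {d : ℕ}
    (hd : ringKrullDim R = (d + 1 : ℕ)) {x : R} (hx : x ∈ maximalIdeal R)
    (hx2 : x ∉ maximalIdeal R ^ 2) :
    ∃ (_ : IsRegularLocalRing (R ⧸ Ideal.span {x})), ringKrullDim (R ⧸ Ideal.span {x}) = d := by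
  haveI : Nontrivial (R ⧸ Ideal.span {x}) :=
    Ideal.Quotient.nontrivial_iff.mpr (span_singleton_ne_top hx)
  haveI : IsLocalRing (R ⧸ Ideal.span {x}) :=
    IsLocalRing.of_surjective' (Ideal.Quotient.mk (Ideal.span {x})) Ideal.Quotient.mk_surjective
  obtain ⟨hreg, hdim⟩ := regular_of_quotient (Ideal.Quotient.mk (Ideal.span {x}))
    Ideal.Quotient.mk_surjective x Ideal.mk_ker hx2
  refine ⟨hreg, ?_⟩
  obtain ⟨e, he⟩ := exists_nat_dim (R ⧸ Ideal.span {x})
  rw [he, hd] at hdim
  have : e + 1 = d + 1 := by exact_mod_cast hdim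
  rw [he]
  have : e = d := by omega
  exact_mod_cast this

/-- (R3) generators of the maximal ideal of a regular local ring form a regular sequence. -/
theorem isRegular_of_generators : ∀ (d : ℕ) (R : Type u) [CommRing R] [IsRegularLocalRing R],
    ringKrullDim R = d → ∀ x : Fin d → R, Ideal.span (Set.range x) = maximalIdeal R →
      IsRegular R (List.ofFn x) := by
  intro d
  induction d with
  | zero =>
    intro R _ _ _ x _
    rw [List.ofFn_zero]
    exact IsRegular.nil R R
  | succ d ih =>
    intro R _ _ hd x hx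
    have hsf := spanFinrank_eq_of_dim hd
    have hx2 := head_not_mem_sq hsf x hx
    have hx0 : x 0 ∈ maximalIdeal R := by
      rw [← hx]; exact Ideal.subset_span ⟨0, rfl⟩
    obtain ⟨hreg, hdS⟩ := quotient_regular hd hx0 hx2
    haveI := isDomain R
    have hne : x 0 ≠ 0 := fun h => hx2 (h ▸ Ideal.zero_mem _)
    -- generators of the quotient
    have hgen : Ideal.span (Set.range (fun i : Fin d => Ideal.Quotient.mk (Ideal.span {x 0})
        (x i.succ))) = maximalIdeal (R ⧸ Ideal.span {x 0}) := by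
      rw [← map_maximalIdeal (Ideal.Quotient.mk (Ideal.span {x 0})) Ideal.Quotient.mk_surjective,
        ← hx, Ideal.map_span]
      apply le_antisymm
      · apply Ideal.span_mono
        rintro _ ⟨j, rfl⟩
        exact ⟨x j.succ, ⟨j.succ, rfl⟩, rfl⟩
      · rw [Ideal.span_le]
        rintro _ ⟨_, ⟨i, rfl⟩, rfl⟩
        refine Fin.cases ?_ (fun j => ?_) i
        · have : Ideal.Quotient.mk (Ideal.span {x 0}) (x 0) = 0 :=
            Ideal.Quotient.eq_zero_iff_mem.mpr (Ideal.mem_span_singleton_self _)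
          rw [this]; exact Ideal.zero_mem _
        · exact Ideal.subset_span ⟨j, rfl⟩
    have hIH := ih (R ⧸ Ideal.span {x 0}) hdS _ hgen
    rw [List.ofFn_succ, isRegular_cons_iff']
    refine ⟨(IsRegular.of_ne_zero hne).left.isSMulRegular, ?_⟩
    rw [isRegular_quotSMulTop_iff, List.map_ofFn]
    exact hIH

end Groth.Agent.H5.RegLoc
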