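import Mathlib

/-! # `s(M) = dim M` for finitely generated modules over semilocal Noetherian rings -/

namespace Groth.Agent.H5.SDim

open Module PrimeSpectrum

universe u v

variable {A : Type u} [CommRing A]

section basics

variable {M : Type v} [AddCommGroup M] [Module A M]

lemma supportDim_le_zero_iff :
    Module.supportDim A M ≤ 0 ↔ ∀ p ∈ Module.support A M, p.asIdeal.IsMaximal := by
  unfold Module.supportDim
  rw [Order.krullDim_nonpos_iff_forall_isMax]
  constructor
  · intro h p hp
    obtain ⟨m, hm, hpm⟩ := Ideal.exists_le_maximal p.asIdeal p.2.ne_top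
    have hm' : (⟨m, hm.isPrime⟩ : PrimeSpectrum A) ∈ Module.support A M :=
      Module.mem_support_mono (p := p) (q := ⟨m, hm.isPrime⟩) hpm hp
    have h1 : (⟨⟨m, hm.isPrime⟩, hm'⟩ : Module.support A M) ≤ ⟨p, hp⟩ :=
      h ⟨p, hp⟩ (b := ⟨⟨m, hm.isPrime⟩, hm'⟩) hpm
    have h2 : p.asIdeal = m := le_antisymm hpm h1
    rw [h2]; exact hm
  · rintro h ⟨p, hp⟩ ⟨q, hq⟩ hpq
    have hpmax := h p hp
    have h2 : p.asIdeal = q.asIdeal := hpmax.eq_of_le q.2.ne_top hpq
    exact h2.ge

lemma allMax_of_isFiniteLength (h : IsFiniteLength A M) :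
    ∀ p ∈ Module.support A M, p.asIdeal.IsMaximal := by
  induction h with
  | of_subsingleton => intro p hp; simp [Module.support_eq_empty] at hp
  | @of_simple_quotient M _ _ N hs _ ih =>
    intro p hp
    have hex : Function.Exact N.subtype N.mkQ := by
      intro x
      simp [Submodule.Quotient.mk_eq_zero]
    rw [Module.support_of_exact hex N.injective_subtype N.mkQ_surjective] at hp
    rcases hp with hp | hp
    · exact ih p hp
    · obtain ⟨m, hm, ⟨e⟩⟩ := isSimpleModule_iff_quot_maximal.mp hs
      rw [e.support_eq, Module.support_eq_zeroLocus, Ideal.annihilator_quotient] at hp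
      have hle : m ≤ p.asIdeal := hp
      have : m = p.asIdeal := hm.eq_of_le p.2.ne_top hle
      rw [← this]; exact hm

end basics

section finlen

variable [IsNoetherianRing A]

lemma isFiniteLength_of_allMax (M : Type v) [AddCommGroup M] [Module A M] [hfin : Module.Finite A M]
    (h : ∀ p ∈ Module.support A M, p.asIdeal.IsMaximal) : IsFiniteLength A M := by
  induction hfin using IsNoetherianRing.induction_on_isQuotientEquivQuotientPrime A with
  | subsingleton N => exact .of_subsingleton
  | quotient N p f =>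
    have hp : p ∈ Module.support A N := by
      rw [f.support_eq, Module.support_eq_zeroLocus, Ideal.annihilator_quotient,
        PrimeSpectrum.mem_zeroLocus]
    have hmax : p.asIdeal.IsMaximal := h p hp
    have : IsSimpleModule A (A ⧸ p.asIdeal) := by
      rw [isSimpleModule_iff_isCoatom]
      exact Ideal.isMaximal_def.mp hmax
    have h2 : IsFiniteLength A (A ⧸ p.asIdeal) := by
      rw [isFiniteLength_iff_isNoetherian_isArtinian]
      exact ⟨inferInstance, inferInstance⟩
    exact f.symm.isFiniteLength h2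
  | exact N₁ N₂ N₃ f g hf hg hfg h₁ h₃ =>
    rw [Module.support_of_exact hfg hf hg] at h
    have i1 := h₁ fun p hp => h p (Or.inl hp)
    have i3 := h₃ fun p hp => h p (Or.inr hp)
    rw [isFiniteLength_iff_isNoetherian_isArtinian] at i1 i3 ⊢
    obtain ⟨n1, a1⟩ := i1
    obtain ⟨n3, a3⟩ := i3
    exact ⟨inferInstance, isArtinian_of_range_eq_ker f g hfg.linearMap_ker_eq.symm⟩

end finlen

section quot

open Pointwise

variable (M : Type v) [AddCommGroup M] [Module A M]

/-- `(M/x₀M)/I(M/x₀M) ≃ M/((x₀) + I)M`. -/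
noncomputable def quotEquiv (x0 : A) (I : Ideal A) :
    ((QuotSMulTop x0 M) ⧸ (I • (⊤ : Submodule A (QuotSMulTop x0 M)))) ≃ₗ[A]
      M ⧸ ((Ideal.span {x0} ⊔ I) • (⊤ : Submodule A M)) :=
  Submodule.quotEquivOfEq _ ((I • (⊤ : Submodule A M)).map (x0 • (⊤ : Submodule A M)).mkQ)
      (by rw [Submodule.map_smul'', Submodule.map_top, Submodule.range_mkQ]) ≪≫ₗ
    Submodule.quotientQuotientEquivQuotientSup (x0 • (⊤ : Submodule A M)) (I • ⊤) ≪≫ₗ
    Submodule.quotEquivOfEq _ _
      (by rw [Submodule.sup_smul, Submodule.ideal_span_singleton_smul])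

lemma span_range_cons {n : ℕ} (x0 : A) (x : Fin n → A) :
    Ideal.span (Set.range (Fin.cons x0 x : Fin (n + 1) → A)) =
      Ideal.span {x0} ⊔ Ideal.span (Set.range x) := by
  rw [Fin.range_cons, Ideal.span_insert]

end quot

section main

open Pointwise

variable [IsNoetherianRing A]

omit [IsNoetherianRing A] in
lemma mem_jacobson_annihilator {M : Type v} [AddCommGroup M] [Module A M] {x : A}
    (hx : x ∈ Ring.jacobson A) : x ∈ (Module.annihilator A M).jacobson := by
  rw [Ideal.jacobson, Submodule.mem_sInf]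
  rintro m ⟨-, hm⟩
  exact Ring.jacobson_le_of_isMaximal m hx

/-- If `M/(x₁,…,xₙ)M` has finite length with the `xᵢ` in the radical then `dim M ≤ n`. -/
lemma supportDim_le_of_isFiniteLength : ∀ (n : ℕ) (M : Type v) [AddCommGroup M] [Module A M]
    [Module.Finite A M] [Nontrivial M] (x : Fin n → A), (∀ i, x i ∈ Ring.jacobson A) →
    IsFiniteLength A (M ⧸ (Ideal.span (Set.range x) • (⊤ : Submodule A M))) →
    Module.supportDim A M ≤ n := by
  intro n
  induction n with
  | zero =>
    intro M _ _ _ _ x _ hfl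
    have h0 : Ideal.span (Set.range x) • (⊤ : Submodule A M) = ⊥ := by
      have : Set.range x = ∅ := Set.range_eq_empty x
      rw [this, Ideal.span_empty, Submodule.bot_smul]
    have hM : IsFiniteLength A M := (Submodule.quotEquivOfEqBot _ h0).isFiniteLength hfl
    exact_mod_cast supportDim_le_zero_iff.mpr (allMax_of_isFiniteLength hM)
  | succ n ih =>
    intro M _ _ _ _ x hx hfl
    have hx0 : x 0 ∈ (Module.annihilator A M).jacobson := mem_jacobson_annihilator (hx 0)
    have hnt : Nontrivial (QuotSMulTop (x 0) M) :=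
      Submodule.Quotient.nontrivial_iff.mpr
        (Submodule.top_ne_pointwise_smul_of_mem_jacobson_annihilator hx0).symm
    have hcons : x = Fin.cons (x 0) (Fin.tail x) := (Fin.cons_self_tail x).symm
    have hfl' : IsFiniteLength A ((QuotSMulTop (x 0) M) ⧸
        (Ideal.span (Set.range (Fin.tail x)) • (⊤ : Submodule A (QuotSMulTop (x 0) M)))) := by
      refine (quotEquiv M (x 0) (Ideal.span (Set.range (Fin.tail x)))).symm.isFiniteLength ?_
      rw [← span_range_cons, ← hcons]
      exact hfl
    have h1 := ih (QuotSMulTop (x 0) M) (Fin.tail x) (fun i => hx _) hfl'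
    calc Module.supportDim A M ≤ Module.supportDim A (QuotSMulTop (x 0) M) + 1 :=
          Module.supportDim_le_supportDim_quotSMulTop_succ_of_mem_jacobson hx0
      _ ≤ (n : WithBot ℕ∞) + 1 := by gcongr
      _ = ((n + 1 : ℕ) : WithBot ℕ∞) := by norm_cast

omit [IsNoetherianRing A] in
/-- Cutting by an element avoiding the non-maximal minimal primes drops the dimension. -/
lemma supportDim_quotSMulTop_le (M : Type v) [AddCommGroup M] [Module A M] [Module.Finite A M]
    (x : A) (d : ℕ)
    (hx : ∀ p ∈ (Module.annihilator A M).minimalPrimes, ¬ p.IsMaximal → x ∉ p)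
    (hd : Module.supportDim A M ≤ (d + 1 : ℕ)) :
    Module.supportDim A (QuotSMulTop x M) ≤ d := by
  unfold Module.supportDim Order.krullDim
  refine iSup_le fun l => ?_
  have hp := l.head.2
  simp only [Module.support_quotSMulTop, Set.mem_inter_iff, mem_zeroLocus,
    Set.singleton_subset_iff] at hp
  have le : Module.support A (QuotSMulTop x M) ⊆ Module.support A M := by simp
  let q : LTSeries (Module.support A M) :=
    l.map (Set.MapsTo.restrict id (Module.support A (QuotSMulTop x M)) (Module.support A M) le)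
      (fun _ _ h ↦ h)
  obtain ⟨r, hrm, hr⟩ := Ideal.exists_minimalPrimes_le (Module.mem_support_iff_of_finite.mp q.head.2)
  by_cases hmax : r.IsMaximal
  · -- the head is maximal, so the chain has length zero
    have hhead : r = l.head.1.asIdeal := by
      have : r ≤ l.head.1.asIdeal := by simpa [q] using hr
      exact hmax.eq_of_le l.head.1.2.ne_top this
    have hl0 : l.length = 0 := by
      by_contra hne
      have hpos : 0 < l.length := Nat.pos_of_ne_zero hne
      have hlt : l ⟨0, by omega⟩ < l ⟨1, by omega⟩ := l.strictMono (by simp [Fin.lt_def])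
      have hlt' : (l ⟨0, by omega⟩).1.asIdeal < (l ⟨1, by omega⟩).1.asIdeal := hlt
      have h0 : (l ⟨0, by omega⟩).1.asIdeal = r := hhead.symm
      rw [h0] at hlt'
      have := hmax.eq_of_le (l ⟨1, by omega⟩).1.2.ne_top hlt'.le
      exact hlt'.ne this
    rw [hl0]; exact_mod_cast Nat.zero_le d
  · have hxr : x ∉ r := hx r hrm hmax
    let r' : Module.support A M :=
      ⟨⟨r, hrm.1.1⟩, Module.mem_support_iff_of_finite.mpr hrm.1.2⟩
    have hr' : r' < q.head := lt_of_le_of_ne hr (fun h ↦ hxr (by
      have : r = l.head.1.asIdeal := by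
        have := congrArg (fun z : Module.support A M => z.1.asIdeal) h
        simpa [q, r'] using this
      rw [this]; exact hp.2))
    have h1 : ((q.cons r' hr').length : WithBot ℕ∞) ≤ Module.supportDim A M :=
      Order.LTSeries.length_le_krullDim _
    have h2 : ((l.length + 1 : ℕ) : WithBot ℕ∞) ≤ (d + 1 : ℕ) := by
      refine le_trans ?_ (h1.trans hd)
      simp [q]
    have h3 : l.length + 1 ≤ d + 1 := by exact_mod_cast h2
    exact_mod_cast Nat.le_of_succ_le_succ h3

/-- In a semilocal ring the radical is not contained in a non-maximal prime. -/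
lemma not_jacobson_le_of_not_isMaximal [Finite (MaximalSpectrum A)] (p : Ideal A) [p.IsPrime]
    (hp : ¬ p.IsMaximal) : ¬ Ring.jacobson A ≤ p := by
  intro hle
  have hfin : {I : Ideal A | I.IsMaximal}.Finite :=
    Set.finite_coe_iff.mp ((MaximalSpectrum.equivSubtype A).finite_iff.mp inferInstance)
  rw [Ring.jacobson_eq_sInf_isMaximal, ← hfin.coe_toFinset, ← Finset.inf_id_eq_sInf] at hle
  obtain ⟨m, hm, hmp⟩ := (Ideal.IsPrime.inf_le' ‹p.IsPrime›).mp hle
  have hm' : m.IsMaximal := by simpa using hm
  have : m = p := hm'.eq_of_le (Ideal.IsPrime.ne_top ‹_›) hmp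
  exact hp (this ▸ hm')

/-- Prime avoidance: an element of the radical outside all non-maximal minimal primes. -/
lemma exists_mem_jacobson_avoiding [Finite (MaximalSpectrum A)] (I : Ideal A) :
    ∃ x ∈ Ring.jacobson A, ∀ p ∈ I.minimalPrimes, ¬ p.IsMaximal → x ∉ p := by
  classical
  have hfin : (I.minimalPrimes).Finite := Ideal.finite_minimalPrimes_of_isNoetherianRing A I
  let S : Finset (Ideal A) := hfin.toFinset.filter fun p => ¬ p.IsMaximal
  have hS : ∀ p, p ∈ S ↔ p ∈ I.minimalPrimes ∧ ¬ p.IsMaximal := by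
    intro p; simp [S]
  have hnot : ¬ ((Ring.jacobson A : Set A) ⊆ ⋃ p ∈ (S : Set (Ideal A)), (p : Set A)) := by
    rw [Ideal.subset_union_prime (f := fun p : Ideal A => p) ⊤ ⊤ (fun p hp _ _ => by
      exact ((hS p).mp hp).1.1.1)]
    rintro ⟨p, hp, hle⟩
    have hp' := (hS p).mp hp
    haveI : p.IsPrime := hp'.1.1.1
    exact not_jacobson_le_of_not_isMaximal p hp'.2 hle
  rw [Set.not_subset] at hnot
  obtain ⟨x, hxj, hx⟩ := hnot
  refine ⟨x, hxj, fun p hp hpm hxp => hx ?_⟩
  simp only [Set.mem_iUnion]
  exact ⟨p, (hS p).mpr ⟨hp, hpm⟩, hxp⟩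

/-- If `dim M ≤ d` there are `n ≤ d` elements of the radical with `M/(x)M` of finite length. -/
lemma exists_of_supportDim_le [Finite (MaximalSpectrum A)] : ∀ (d : ℕ) (M : Type v)
    [AddCommGroup M] [Module A M] [Module.Finite A M], Module.supportDim A M ≤ d →
    ∃ (n : ℕ) (x : Fin n → A), n ≤ d ∧ (∀ i, x i ∈ Ring.jacobson A) ∧
      IsFiniteLength A (M ⧸ (Ideal.span (Set.range x) • (⊤ : Submodule A M))) := by
  intro d
  induction d with
  | zero =>
    intro M _ _ _ hM
    refine ⟨0, Fin.elim0, le_refl _, fun i => i.elim0, ?_⟩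
    have h0 : Ideal.span (Set.range (Fin.elim0 : Fin 0 → A)) • (⊤ : Submodule A M) = ⊥ := by
      have : Set.range (Fin.elim0 : Fin 0 → A) = ∅ := Set.range_eq_empty _
      rw [this, Ideal.span_empty, Submodule.bot_smul]
    have hM' : IsFiniteLength A M :=
      isFiniteLength_of_allMax M (supportDim_le_zero_iff.mp (by exact_mod_cast hM))
    exact (Submodule.quotEquivOfEqBot _ h0).symm.isFiniteLength hM'
  | succ d ih =>
    intro M _ _ _ hM
    obtain ⟨x0, hx0j, hx0⟩ := exists_mem_jacobson_avoiding (Module.annihilator A M)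
    have h1 : Module.supportDim A (QuotSMulTop x0 M) ≤ d :=
      supportDim_quotSMulTop_le M x0 d hx0 hM
    obtain ⟨n, x, hn, hxj, hfl⟩ := ih (QuotSMulTop x0 M) h1
    refine ⟨n + 1, Fin.cons x0 x, by omega, ?_, ?_⟩
    · intro i
      refine Fin.cases ?_ (fun j => ?_) i
      · simpa using hx0j
      · simpa using hxj j
    · rw [span_range_cons]
      exact (quotEquiv M x0 (Ideal.span (Set.range x))).isFiniteLength hfl

end main

end Groth.Agent.H5.SDim
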