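import Mathlib

/-!
# Finite modules over a domain: a free submodule `F` with `c • M ≤ F`

* `exists_free_submodule_smul_le`: for a finite module `M` over a domain there are a finite free
  submodule `F` and `c ≠ 0` with `c • M ⊆ F`.
* `dual_eval_sandwich`: the same `c` kills the kernel of `M → M**` and multiplies `M**` into the
  image.
-/

set_option autoImplicit false

universe u v

namespace Groth.Agent.H5.TorsFree

open Module

theorem exists_free_submodule_smul_le (R : Type u) [CommRing R] [IsDomain R] (M : Type v)
    [AddCommGroup M] [Module R M] [Module.Finite R M] :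
    ∃ (F : Submodule R M) (c : R), c ≠ 0 ∧ Module.Free R F ∧ Module.Finite R F ∧
      ∀ m : M, c • m ∈ F := by
  classical
  obtain ⟨s, hs⟩ := (Module.Finite.fg_top : (⊤ : Submodule R M).FG)
  let v : s → M := fun i => i.1
  obtain ⟨S₀, hli, hmax⟩ := exists_maximal_linearIndepOn R v
  let F : Submodule R M := Submodule.span R (v '' S₀)
  -- choose multipliers
  have hex : ∀ i : s, ∃ a : R, a ≠ 0 ∧ a • v i ∈ F := by
    intro i
    by_cases hi : i ∈ S₀
    · exact ⟨1, one_ne_zero, by rw [one_smul]; exact Submodule.subset_span ⟨i, hi, rfl⟩⟩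
    · exact hmax i hi
  choose a ha0 haF using hex
  let c : R := ∏ i : s, a i
  have hc : c ≠ 0 := Finset.prod_ne_zero_iff.mpr (fun i _ => ha0 i)
  have hcv : ∀ i : s, c • v i ∈ F := by
    intro i
    have : c = (∏ j ∈ Finset.univ.erase i, a j) * a i := by
      rw [Finset.prod_erase_mul _ _ (Finset.mem_univ i)]
    rw [this, mul_smul]
    exact F.smul_mem _ (haF i)
  have hcM : ∀ m : M, c • m ∈ F := by
    intro m
    have hm : m ∈ Submodule.span R (s : Set M) := by rw [hs]; trivial
    induction hm using Submodule.span_induction with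
    | mem x hx => exact hcv ⟨x, hx⟩
    | zero => rw [smul_zero]; exact F.zero_mem
    | add x y _ _ hx hy => rw [smul_add]; exact F.add_mem hx hy
    | smul r x _ hx => rw [smul_comm]; exact F.smul_mem _ hx
  -- F is free
  have hli' : LinearIndependent R (fun i : S₀ => v i) := hli
  have hF : F = Submodule.span R (Set.range (fun i : S₀ => v i)) := by
    show Submodule.span R (v '' S₀) = _
    congr 1
    ext x
    simp [Set.mem_image]
  let b : Basis S₀ R F := (Basis.span hli').map (LinearEquiv.ofEq _ _ hF.symm)
  refine ⟨F, c, hc, Module.Free.of_basis b, ?_, hcM⟩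
  exact Module.Finite.of_basis b

theorem dual_eval_sandwich (R : Type u) [CommRing R] [IsDomain R] (M : Type v)
    [AddCommGroup M] [Module R M] [Module.Finite R M] :
    ∃ c : R, c ≠ 0 ∧ (∀ x : M, Module.Dual.eval R M x = 0 → c • x = 0) ∧
      ∀ y : Module.Dual R (Module.Dual R M), c • y ∈ LinearMap.range (Module.Dual.eval R M) := by
  classical
  obtain ⟨F, c, hc, hfree, hfin, hcM⟩ := exists_free_submodule_smul_le R M
  refine ⟨c, hc, ?_, ?_⟩
  · intro x hx
    let μ : M →ₗ[R] F := LinearMap.codRestrict F (c • LinearMap.id) hcM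
    let b := Module.Free.chooseBasis R F
    have h1 : ∀ i, b.coord i (μ x) = 0 := by
      intro i
      have := congrArg (fun y => y ((b.coord i).comp μ)) hx
      simpa using this
    have h2 : μ x = 0 := by
      apply b.repr.injective
      ext i
      simpa using h1 i
    have := congrArg Subtype.val h2
    simpa [μ] using this
  · intro y
    let μ : M →ₗ[R] F := LinearMap.codRestrict F (c • LinearMap.id) hcM
    let ext : Module.Dual R F →ₗ[R] Module.Dual R M := μ.dualMap
    let z : F := (Module.evalEquiv R F).symm (y.comp ext)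
    refine ⟨(z : M), ?_⟩
    ext φ
    have h1 : (φ.comp F.subtype) z = y (ext (φ.comp F.subtype)) :=
      Module.apply_evalEquiv_symm_apply (R := R) (M := F) (φ.comp F.subtype) (y.comp ext)
    have h2 : ext (φ.comp F.subtype) = c • φ := by
      ext m
      simp [ext, μ, LinearMap.dualMap_apply]
    rw [h2] at h1
    simp only [Module.Dual.eval_apply, LinearMap.smul_apply]
    rw [← map_smul y c φ, ← h1]
    rfl

end Groth.Agent.H5.TorsFree
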