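import Mathlib

/-!
# Sharp avoidance lemmas for unions of submodules

* `exists_forall_notMem_of_card_le`: a vector space over `K` is not the union of `N ≤ #K`
  proper subspaces.
* `exists_forall_notMem_of_card_le_residueField`: a module is not the union of `N ≤ #κ(p)`
  proper "`p`-prime" submodules.
-/

set_option autoImplicit false
universe u v w

namespace Groth.Agent.H5.Avoid

open Cardinal

theorem exists_forall_notMem_of_card_le {ι : Type u} {K : Type v} {M : Type w} [Field K]
    [AddCommGroup M] [Module K M] (s : Finset ι) (p : ι → Submodule K M)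
    (h₁ : ∀ i ∈ s, p i ≠ ⊤) (h₂ : (s.card : Cardinal.{v}) ≤ Cardinal.mk K) :
    ∃ x : M, ∀ i ∈ s, x ∉ p i := by
  classical
  induction s using Finset.induction_on with
  | empty => exact ⟨0, by simp⟩
  | insert j s hj ih =>
    rw [Finset.card_insert_of_notMem hj] at h₂
    have hlt : (s.card : Cardinal.{v}) < Cardinal.mk K :=
      lt_of_lt_of_le (by exact_mod_cast Nat.lt_succ_self _) h₂
    obtain ⟨x₀, hx₀⟩ := ih (fun i hi => h₁ i (Finset.mem_insert_of_mem hi)) hlt.le
    by_cases hxj : x₀ ∈ p j
    · obtain ⟨y, hy⟩ : ∃ y, y ∉ p j := by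
        by_contra hcon
        push Not at hcon
        exact h₁ j (Finset.mem_insert_self _ _) (eq_top_iff.mpr fun y _ => hcon y)
      have hgj : ∀ t : K, y + t • x₀ ∉ p j := fun t ht =>
        hy ((Submodule.add_mem_iff_left _ (Submodule.smul_mem _ t hxj)).mp ht)
      by_contra hcon
      push Not at hcon
      have hex : ∀ t : K, ∃ i ∈ s, y + t • x₀ ∈ p i := by
        intro t
        obtain ⟨i, hi, hmem⟩ := hcon (y + t • x₀)
        rcases Finset.mem_insert.mp hi with rfl | hi
        · exact absurd hmem (hgj t)
        · exact ⟨i, hi, hmem⟩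
      choose c hcs hc using hex
      have hinj : Function.Injective (fun t : K => (⟨c t, hcs t⟩ : s)) := by
        intro t₁ t₂ h
        have h' : c t₁ = c t₂ := congrArg Subtype.val h
        by_contra hne
        have h1 := hc t₁
        have h2 := hc t₂
        rw [← h'] at h2
        have h3 : (t₁ - t₂) • x₀ ∈ p (c t₁) := by
          have := Submodule.sub_mem _ h1 h2
          have e : y + t₁ • x₀ - (y + t₂ • x₀) = (t₁ - t₂) • x₀ := by rw [sub_smul]; abel
          rwa [e] at this
        have h4 : x₀ ∈ p (c t₁) :=
          (Submodule.smul_mem_iff _ (sub_ne_zero.mpr hne)).mp h3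
        exact hx₀ _ (hcs t₁) h4
      have hfin : Finite K := Finite.of_injective _ hinj
      have hle := Nat.card_le_card_of_injective _ hinj
      rw [Nat.card_eq_fintype_card (α := s), Fintype.card_coe] at hle
      rw [← Nat.cast_card, Nat.cast_lt] at hlt
      omega
    · by_cases hall : ∀ i ∈ s, x₀ ∉ p i
      · refine ⟨x₀, fun i hi => ?_⟩
        rcases Finset.mem_insert.mp hi with rfl | hi
        · exact hxj
        · exact hall i hi
      · exact absurd hx₀ hall

theorem exists_rep_residueField {R : Type u} [CommRing R] (p : Ideal R) [p.IsPrime]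
    (t : p.ResidueField) :
    ∃ a b : R, b ∉ p ∧ algebraMap R p.ResidueField a = t * algebraMap R p.ResidueField b := by
  obtain ⟨a', b', hb', rfl⟩ := IsFractionRing.div_surjective (A := R ⧸ p) t
  obtain ⟨a, rfl⟩ := Ideal.Quotient.mk_surjective a'
  obtain ⟨b, rfl⟩ := Ideal.Quotient.mk_surjective b'
  refine ⟨a, b, ?_, ?_⟩
  · intro hb
    have : (Ideal.Quotient.mk p b) = 0 := Ideal.Quotient.eq_zero_iff_mem.mpr hb
    rw [this] at hb'
    exact zero_notMem_nonZeroDivisors hb'
  · have hne : algebraMap (R ⧸ p) p.ResidueField (Ideal.Quotient.mk p b) ≠ 0 := by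
      intro h0
      have := (map_eq_zero_iff _ (IsFractionRing.injective (R ⧸ p) p.ResidueField)).mp h0
      rw [this] at hb'
      exact zero_notMem_nonZeroDivisors hb'
    rw [IsScalarTower.algebraMap_apply R (R ⧸ p) p.ResidueField a,
      IsScalarTower.algebraMap_apply R (R ⧸ p) p.ResidueField b, Ideal.Quotient.algebraMap_eq,
      div_mul_cancel₀ _ hne]

theorem exists_forall_notMem_of_card_le_residueField {ι : Type v} {R : Type u} {M : Type w}
    [CommRing R] [AddCommGroup M] [Module R M] (p : Ideal R) [p.IsPrime]
    (s : Finset ι) (q : ι → Submodule R M)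
    (h₁ : ∀ i ∈ s, q i ≠ ⊤)
    (hprime : ∀ i ∈ s, ∀ (r : R) (m : M), r • m ∈ q i → r ∈ p ∨ m ∈ q i)
    (h₂ : (s.card : Cardinal.{u}) ≤ Cardinal.mk p.ResidueField) :
    ∃ x : M, ∀ i ∈ s, x ∉ q i := by
  classical
  induction s using Finset.induction_on with
  | empty => exact ⟨0, by simp⟩
  | insert j s hj ih =>
    rw [Finset.card_insert_of_notMem hj] at h₂
    have hlt : (s.card : Cardinal.{u}) < Cardinal.mk p.ResidueField :=
      lt_of_lt_of_le (by exact_mod_cast Nat.lt_succ_self _) h₂
    obtain ⟨x₀, hx₀⟩ := ih (fun i hi => h₁ i (Finset.mem_insert_of_mem hi))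
      (fun i hi => hprime i (Finset.mem_insert_of_mem hi)) hlt.le
    by_cases hxj : x₀ ∈ q j
    · obtain ⟨y, hy⟩ : ∃ y, y ∉ q j := by
        by_contra hcon
        push Not at hcon
        exact h₁ j (Finset.mem_insert_self _ _) (eq_top_iff.mpr fun y _ => hcon y)
      choose A B hB hAB using exists_rep_residueField p
      have hgj : ∀ t : p.ResidueField, B t • y + A t • x₀ ∉ q j := fun t ht => by
        have h1 := (Submodule.add_mem_iff_left _ (Submodule.smul_mem _ (A t) hxj)).mp ht
        rcases hprime j (Finset.mem_insert_self _ _) _ _ h1 with h | h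
        · exact hB t h
        · exact hy h
      by_contra hcon
      push Not at hcon
      have hex : ∀ t : p.ResidueField, ∃ i ∈ s, B t • y + A t • x₀ ∈ q i := by
        intro t
        obtain ⟨i, hi, hmem⟩ := hcon (B t • y + A t • x₀)
        rcases Finset.mem_insert.mp hi with rfl | hi
        · exact absurd hmem (hgj t)
        · exact ⟨i, hi, hmem⟩
      choose c hcs hc using hex
      have hinj : Function.Injective (fun t : p.ResidueField => (⟨c t, hcs t⟩ : s)) := by
        intro t₁ t₂ h
        have h' : c t₁ = c t₂ := congrArg Subtype.val h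
        by_contra hne
        have h1 := hc t₁
        have h2 := hc t₂
        rw [← h'] at h2
        have h3 : (A t₁ * B t₂ - A t₂ * B t₁) • x₀ ∈ q (c t₁) := by
          have := Submodule.sub_mem _ (Submodule.smul_mem _ (B t₂) h1)
            (Submodule.smul_mem _ (B t₁) h2)
          have e : B t₂ • (B t₁ • y + A t₁ • x₀) - B t₁ • (B t₂ • y + A t₂ • x₀)
              = (A t₁ * B t₂ - A t₂ * B t₁) • x₀ := by
            simp only [smul_add, smul_smul, sub_smul]
            rw [mul_comm (B t₂) (B t₁), mul_comm (B t₂) (A t₁), mul_comm (B t₁) (A t₂)]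
            abel
          rwa [e] at this
        rcases hprime _ (Finset.mem_insert_of_mem (hcs t₁)) _ _ h3 with h4 | h4
        · have h5 := (Ideal.algebraMap_residueField_eq_zero (I := p)).mpr h4
          rw [map_sub, map_mul, map_mul, hAB t₁, hAB t₂] at h5
          have h6 : (t₁ - t₂) * (algebraMap R p.ResidueField (B t₁) *
              algebraMap R p.ResidueField (B t₂)) = 0 := by
            rw [← h5]; ring
          have hb1 : algebraMap R p.ResidueField (B t₁) ≠ 0 := fun h0 =>
            hB t₁ ((Ideal.algebraMap_residueField_eq_zero (I := p)).mp h0)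
          have hb2 : algebraMap R p.ResidueField (B t₂) ≠ 0 := fun h0 =>
            hB t₂ ((Ideal.algebraMap_residueField_eq_zero (I := p)).mp h0)
          rcases mul_eq_zero.mp h6 with h7 | h7
          · exact hne (sub_eq_zero.mp h7)
          · exact (mul_ne_zero hb1 hb2) h7
        · exact hx₀ _ (hcs t₁) h4
      have hfin : Finite p.ResidueField := Finite.of_injective _ hinj
      have hle := Nat.card_le_card_of_injective _ hinj
      rw [Nat.card_eq_fintype_card (α := s), Fintype.card_coe] at hle
      rw [← Nat.cast_card, Nat.cast_lt] at hlt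
      omega
    · exact ⟨x₀, fun i hi => by
        rcases Finset.mem_insert.mp hi with rfl | hi
        · exact hxj
        · exact hx₀ i hi⟩

end Groth.Agent.H5.Avoid
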