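import Mathlib

/-!
# Finitely generated submodules of free modules over a Bézout domain

* `free_of_injective_to_fin`: a finite module over a Bézout domain which embeds into `R^n` is free.
* `free_of_fg_submodule_of_free`: a finitely generated submodule of a free module is free.
* `exists_matrix_of_unimodular`: a unimodular row is the first row of an invertible matrix.
-/

set_option autoImplicit false

universe u

namespace Groth.Agent.H5.Bezout

variable (R : Type u) [CommRing R] [IsDomain R] [IsBezout R]

/-- A finite module over a Bézout domain embedding into `R^n` is free. -/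
theorem free_of_injective_to_fin : ∀ (n : ℕ) (M : Type u) [AddCommGroup M] [Module R M]
    [Module.Finite R M] (f : M →ₗ[R] (Fin n → R)), Function.Injective f → Module.Free R M := by
  intro n
  induction n with
  | zero =>
    intro M _ _ _ f hf
    have : Subsingleton M := hf.subsingleton
    exact Module.Free.of_subsingleton R M
  | succ n ih =>
    intro M _ _ _ f hf
    let g : M →ₗ[R] R := (LinearMap.proj 0).comp f
    have hgf : ∀ y, g y = f y 0 := fun y => rfl
    have hfg : (LinearMap.range g).FG := by
      rw [LinearMap.range_eq_map]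
      exact Submodule.FG.map _ Module.Finite.fg_top
    obtain ⟨d, hd⟩ := (IsBezout.isPrincipal_of_FG (LinearMap.range g : Ideal R) hfg).principal
    let tl : (Fin (n + 1) → R) →ₗ[R] (Fin n → R) := LinearMap.funLeft R R Fin.succ
    have htl : ∀ (v : Fin (n + 1) → R) (j : Fin n), tl v j = v j.succ := fun v j => rfl
    by_cases hd0 : d = 0
    · have hg0 : ∀ y, g y = 0 := by
        intro y
        have : g y ∈ LinearMap.range g := ⟨y, rfl⟩
        rw [hd, hd0] at this
        simpa using this
      refine ih M (tl.comp f) ?_
      intro y z hyz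
      apply hf
      funext i
      refine Fin.cases ?_ ?_ i
      · rw [← hgf, ← hgf, hg0, hg0]
      · intro j
        have := congrFun hyz j
        simpa [htl] using this
    · have hdmem : d ∈ LinearMap.range g := by
        rw [hd]; exact Submodule.mem_span_singleton_self d
      obtain ⟨x₀, hx₀⟩ := hdmem
      have hdiv : ∀ y, ∃ r, g y = r * d := by
        intro y
        have : g y ∈ LinearMap.range g := ⟨y, rfl⟩
        rw [hd] at this
        obtain ⟨r, hr⟩ := Submodule.mem_span_singleton.mp this
        exact ⟨r, hr.symm⟩
      choose r hr using hdiv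
      let g' : M →ₗ[R] R :=
        { toFun := r
          map_add' := fun y z => mul_right_cancel₀ hd0 (by rw [← hr, map_add, hr, hr, add_mul])
          map_smul' := fun c y => mul_right_cancel₀ hd0 (by
            rw [← hr, map_smul, hr, smul_eq_mul, RingHom.id_apply, smul_eq_mul, mul_assoc]) }
      have hg'r : ∀ y, g' y = r y := fun y => rfl
      have hg'x₀ : g' x₀ = 1 := mul_right_cancel₀ hd0 (by
        rw [one_mul, hg'r, ← hr]; exact hx₀)
      let p : M →ₗ[R] LinearMap.ker g' :=
        LinearMap.codRestrict (LinearMap.ker g')
          (LinearMap.id - (LinearMap.toSpanSingleton R M x₀).comp g') (by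
          intro y
          simp [LinearMap.mem_ker, hg'x₀])
      have hpval : ∀ y, ((p y : LinearMap.ker g') : M) = y - g' y • x₀ := fun y => rfl
      have hp : ∀ k : LinearMap.ker g', p k = k := by
        intro k
        apply Subtype.ext
        have : g' k = 0 := k.2
        rw [hpval, this, zero_smul, sub_zero]
      have : Module.Finite R (LinearMap.ker g') :=
        Module.Finite.of_surjective p (fun k => ⟨k, hp k⟩)
      have hKfree : Module.Free R (LinearMap.ker g') := by
        refine ih (LinearMap.ker g') ((tl.comp f).comp (LinearMap.ker g').subtype) ?_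
        intro y z hyz
        apply Subtype.ext
        apply hf
        funext i
        refine Fin.cases ?_ ?_ i
        · have hy : g' (y : M) = 0 := y.2
          have hz : g' (z : M) = 0 := z.2
          rw [← hgf, ← hgf, hr, hr, ← hg'r, ← hg'r, hy, hz]
        · intro j
          have := congrFun hyz j
          simpa [htl] using this
      have hcop : ∀ (k : LinearMap.ker g') (c : R),
          ((LinearMap.ker g').subtype.coprod (LinearMap.toSpanSingleton R M x₀)) (k, c) =
            (k : M) + c • x₀ := fun k c => rfl
      let e : (LinearMap.ker g' × R) ≃ₗ[R] M :=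
        LinearEquiv.ofBijective
          ((LinearMap.ker g').subtype.coprod (LinearMap.toSpanSingleton R M x₀)) (by
          constructor
          · rw [injective_iff_map_eq_zero]
            rintro ⟨k, c⟩ h
            rw [hcop] at h
            have hk : g' (k : M) = 0 := k.2
            have h2 := congrArg g' h
            rw [map_add, map_smul, hk, hg'x₀, map_zero, zero_add, smul_eq_mul, mul_one] at h2
            rw [h2, zero_smul, add_zero] at h
            exact Prod.ext (Subtype.ext h) h2
          · intro y
            refine ⟨(p y, g' y), ?_⟩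
            rw [hcop, hpval, sub_add_cancel])
      exact Module.Free.of_equiv e

/-- A finitely generated submodule of a free module over a Bézout domain is free. -/
theorem free_of_fg_submodule_of_free (F : Type u) [AddCommGroup F] [Module R F] [Module.Free R F]
    (N : Submodule R F) (hN : N.FG) : Module.Free R N := by
  classical
  let b := Module.Free.chooseBasis R F
  obtain ⟨S, hS⟩ := hN
  let s : Finset (Module.Free.ChooseBasisIndex R F) := S.biUnion (fun x => (b.repr x).support)
  have hsupp : ∀ x ∈ N, ∀ i, i ∉ s → b.repr x i = 0 := by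
    intro x hx
    rw [← hS] at hx
    induction hx using Submodule.span_induction with
    | mem x hx =>
      intro i hi
      by_contra h
      exact hi (Finset.mem_biUnion.mpr ⟨x, hx, Finsupp.mem_support_iff.mpr h⟩)
    | zero => simp
    | add x y _ _ hx hy => intro i hi; simp [hx i hi, hy i hi]
    | smul c x _ hx => intro i hi; simp [hx i hi]
  let ρ : F →ₗ[R] (s → R) :=
    LinearMap.pi (fun i => (Finsupp.lapply (i : Module.Free.ChooseBasisIndex R F)).comp
      b.repr.toLinearMap)
  have hρ : ∀ (x : F) (i : s), ρ x i = b.repr x i := fun x i => rfl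
  let e : (s → R) ≃ₗ[R] (Fin (Fintype.card s) → R) :=
    LinearEquiv.funCongrLeft R R (Fintype.equivFin s).symm
  have : Module.Finite R N := Module.Finite.iff_fg.mpr ⟨S, hS⟩
  refine free_of_injective_to_fin R _ N ((e.toLinearMap.comp ρ).comp N.subtype) ?_
  intro x y hxy
  have h1 : ρ x = ρ y := e.injective hxy
  apply Subtype.ext
  apply b.repr.injective
  ext i
  by_cases hi : i ∈ s
  · have := congrFun h1 ⟨i, hi⟩
    rwa [hρ, hρ] at this
  · rw [hsupp x x.2 i hi, hsupp y y.2 i hi]

/-- Over a Bézout domain every unimodular row is the first row of an invertible matrix. -/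
theorem exists_matrix_of_unimodular (n : ℕ) (f : Fin (n + 1) → R)
    (hf : Ideal.span (Set.range f) = ⊤) :
    ∃ A : Matrix (Fin (n + 1)) (Fin (n + 1)) R, IsUnit A.det ∧ A 0 = f := by
  classical
  let φ : (Fin (n + 1) → R) →ₗ[R] R := Fintype.linearCombination R f
  have hφ : ∀ v, φ v = ∑ i, v i • f i := fun v => rfl
  obtain ⟨v₀, hv₀⟩ : ∃ v₀ : Fin (n + 1) → R, φ v₀ = 1 := by
    have h1 : (1 : R) ∈ Submodule.span R (Set.range f) := by
      change (1 : R) ∈ Ideal.span (Set.range f)
      rw [hf]; trivial
    obtain ⟨c, hc⟩ := (Submodule.mem_span_range_iff_exists_fun R).mp h1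
    exact ⟨c, hc⟩
  let p : (Fin (n + 1) → R) →ₗ[R] LinearMap.ker φ :=
    LinearMap.codRestrict (LinearMap.ker φ)
      (LinearMap.id - (LinearMap.toSpanSingleton R (Fin (n + 1) → R) v₀).comp φ) (by
      intro y
      simp [LinearMap.mem_ker, hv₀])
  have hpval : ∀ y, ((p y : LinearMap.ker φ) : Fin (n + 1) → R) = y - φ y • v₀ := fun y => rfl
  have hp : ∀ k : LinearMap.ker φ, p k = k := by
    intro k
    apply Subtype.ext
    have : φ k = 0 := k.2
    rw [hpval, this, zero_smul, sub_zero]
  have : Module.Finite R (LinearMap.ker φ) :=
    Module.Finite.of_surjective p (fun k => ⟨k, hp k⟩)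
  have hKfree : Module.Free R (LinearMap.ker φ) :=
    free_of_injective_to_fin R (n + 1) (LinearMap.ker φ) (LinearMap.ker φ).subtype
      (LinearMap.ker φ).injective_subtype
  have hcop : ∀ (c : R) (k : LinearMap.ker φ),
      ((LinearMap.toSpanSingleton R (Fin (n + 1) → R) v₀).coprod (LinearMap.ker φ).subtype) (c, k) =
        c • v₀ + (k : Fin (n + 1) → R) := fun c k => rfl
  have hpv₀ : p v₀ = 0 := by
    apply Subtype.ext
    rw [hpval, hv₀, one_smul, sub_self]
    rfl
  let e₁ : (Fin (n + 1) → R) ≃ₗ[R] (R × LinearMap.ker φ) :=
    { φ.prod p with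
      invFun := fun x => x.1 • v₀ + (x.2 : Fin (n + 1) → R)
      left_inv := by
        intro y
        change φ y • v₀ + ((p y : LinearMap.ker φ) : Fin (n + 1) → R) = y
        rw [hpval]
        abel
      right_inv := by
        rintro ⟨c, k⟩
        have hk : φ (k : Fin (n + 1) → R) = 0 := k.2
        change (φ (c • v₀ + (k : Fin (n + 1) → R)), p (c • v₀ + (k : Fin (n + 1) → R))) = (c, k)
        rw [map_add, map_smul, hv₀, hk, add_zero, smul_eq_mul, mul_one, map_add, map_smul, hpv₀,
          smul_zero, zero_add, hp] }
  have he₁ : ∀ v, e₁ v = (φ v, p v) := fun v => rfl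
  have hrankK : Module.finrank R (LinearMap.ker φ) = n := by
    have h1 := e₁.finrank_eq
    rw [Module.finrank_prod, Module.finrank_self, Module.finrank_fin_fun] at h1
    omega
  let e₂ : LinearMap.ker φ ≃ₗ[R] (Fin n → R) :=
    (Module.finBasisOfFinrankEq R (LinearMap.ker φ) hrankK).equivFun
  let E : (Fin (n + 1) → R) ≃ₗ[R] (Fin (n + 1) → R) :=
    e₁ ≪≫ₗ (LinearEquiv.prodCongr (LinearEquiv.refl R R) e₂) ≪≫ₗ
      Fin.consLinearEquiv R (fun _ : Fin (n + 1) => R)
  have hE0 : ∀ v, E v 0 = φ v := fun v => rfl
  refine ⟨LinearMap.toMatrix' (E : (Fin (n + 1) → R) →ₗ[R] (Fin (n + 1) → R)), ?_, ?_⟩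
  · rw [LinearMap.det_toMatrix']
    exact LinearEquiv.isUnit_det' E
  · funext j
    rw [LinearMap.toMatrix'_apply]
    change E _ 0 = f j
    rw [hE0, hφ]
    rw [Finset.sum_eq_single j]
    · simp
    · intro i _ hij
      simp [Pi.single_apply, hij]
    · intro h
      exact absurd (Finset.mem_univ j) h
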