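import Mathlib
import Groth.Prelude.Def_HopfRep

open TensorProduct

namespace Groth.Agent.H5.Comod

universe u v w

section Ev
variable {k : Type u} [CommRing k] {A : Type v} [AddCommGroup A] [Module k A]

/-- evaluation `V ⊗ A → V` against a functional on `A` -/
noncomputable def ev (V : Type w) [AddCommGroup V] [Module k V] (φ : Module.Dual k A) :
    V ⊗[k] A →ₗ[k] V :=
  (TensorProduct.rid k V).toLinearMap ∘ₗ LinearMap.lTensor V φ

@[simp] theorem ev_tmul {V : Type w} [AddCommGroup V] [Module k V] (φ : Module.Dual k A) (v : V)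
    (a : A) : ev V φ (v ⊗ₜ a) = φ a • v := by
  simp [ev]

theorem ev_ev {V : Type w} [AddCommGroup V] [Module k V] (φ ψ : Module.Dual k A) (v : V)
    (t : A ⊗[k] A) :
    ev V φ (ev (V ⊗[k] A) ψ ((TensorProduct.assoc k V A A).symm (v ⊗ₜ t))) =
      (LinearMap.mul' k k (TensorProduct.map φ ψ t)) • v := by
  induction t using TensorProduct.induction_on with
  | zero => simp
  | tmul x y => simp [mul_smul, smul_comm (ψ y) (φ x)]
  | add x y hx hy => simp only [tmul_add, map_add, hx, hy, add_smul]

end Ev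

section Coalg
variable {k : Type u} [CommRing k] {A : Type v} [AddCommGroup A] [Module k A] [Coalgebra k A]
variable {V : Type w} [AddCommGroup V] [Module k V] [HopfRep.Comod k A V]

/-- the action of the dual algebra on a comodule -/
noncomputable def ρ (φ : Module.Dual k A) : V →ₗ[k] V :=
  ev V φ ∘ₗ HopfRep.Comod.coact (k := k) (A := A)

/-- convolution of functionals -/
noncomputable def conv (φ ψ : Module.Dual k A) : Module.Dual k A :=
  (LinearMap.mul' k k) ∘ₗ (TensorProduct.map φ ψ) ∘ₗ (CoalgebraStruct.comul (R := k) (A := A))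

theorem ρ_comp (φ ψ : Module.Dual k A) : (ρ φ : V →ₗ[k] V) ∘ₗ ρ ψ = ρ (conv φ ψ) := by
  -- `coact ∘ ev ψ = ev' ψ ∘ (coact ⊗ id)`
  have h1 : (HopfRep.Comod.coact (k := k) (A := A) : V →ₗ[k] V ⊗[k] A) ∘ₗ ev V ψ =
      ev (V ⊗[k] A) ψ ∘ₗ (HopfRep.Comod.coact (k := k) (A := A) : V →ₗ[k] V ⊗[k] A).rTensor A := by
    apply TensorProduct.ext'
    intro v a
    simp
  have h2 : ev V φ ∘ₗ ev (V ⊗[k] A) ψ ∘ₗ (TensorProduct.assoc k V A A).symm.toLinearMap ∘ₗ
      (CoalgebraStruct.comul (R := k) (A := A)).lTensor V = ev V (conv φ ψ) := by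
    apply TensorProduct.ext'
    intro v a
    simp only [LinearMap.coe_comp, Function.comp_apply, LinearMap.lTensor_tmul, LinearEquiv.coe_coe]
    rw [ev_ev, ev_tmul]
    rfl
  have h3 := HopfRep.Comod.coassoc (k := k) (A := A) (V := V)
  have h4 : (HopfRep.Comod.coact (k := k) (A := A) : V →ₗ[k] V ⊗[k] A).rTensor A ∘ₗ
      HopfRep.Comod.coact (k := k) (A := A) =
      (TensorProduct.assoc k V A A).symm.toLinearMap ∘ₗ
        (CoalgebraStruct.comul (R := k) (A := A)).lTensor V ∘ₗ
          HopfRep.Comod.coact (k := k) (A := A) := by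
    rw [← h3]
    apply LinearMap.ext
    intro v
    simp
  unfold ρ
  rw [← h2]
  calc (ev V φ ∘ₗ HopfRep.Comod.coact (k := k) (A := A)) ∘ₗ
        (ev V ψ ∘ₗ HopfRep.Comod.coact (k := k) (A := A))
      = ev V φ ∘ₗ ((HopfRep.Comod.coact (k := k) (A := A) : V →ₗ[k] V ⊗[k] A) ∘ₗ ev V ψ) ∘ₗ
          HopfRep.Comod.coact (k := k) (A := A) := by
        simp only [LinearMap.comp_assoc]
    _ = ev V φ ∘ₗ ev (V ⊗[k] A) ψ ∘ₗ
          ((HopfRep.Comod.coact (k := k) (A := A) : V →ₗ[k] V ⊗[k] A).rTensor A ∘ₗ
            HopfRep.Comod.coact (k := k) (A := A)) := by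
        rw [h1]; simp only [LinearMap.comp_assoc]
    _ = _ := by
        rw [h4]; simp only [LinearMap.comp_assoc]

theorem conv_comm [Coalgebra.IsCocomm k A] (φ ψ : Module.Dual k A) : conv φ ψ = conv ψ φ := by
  unfold conv
  apply LinearMap.ext
  intro a
  simp only [LinearMap.coe_comp, Function.comp_apply]
  have h : ∀ t : A ⊗[k] A, LinearMap.mul' k k (TensorProduct.map φ ψ t) =
      LinearMap.mul' k k (TensorProduct.map ψ φ (TensorProduct.comm k A A t)) := by
    intro t
    induction t using TensorProduct.induction_on with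
    | zero => simp
    | tmul x y => simp [mul_comm]
    | add x y hx hy => simp only [map_add, hx, hy]
  rw [h, Coalgebra.comm_comul]

theorem ρ_commute [Coalgebra.IsCocomm k A] (φ ψ : Module.Dual k A) :
    (ρ φ : V →ₗ[k] V) ∘ₗ ρ ψ = ρ ψ ∘ₗ ρ φ := by
  rw [ρ_comp, ρ_comp, conv_comm]

end Coalg


section Free
variable {k : Type u} [CommRing k] {A : Type v} [AddCommGroup A] [Module k A] [Coalgebra k A]
  [Module.Free k A]
variable {V : Type w} [AddCommGroup V] [Module k V] [HopfRep.Comod k A V]

/-- over a base over which `A` is free, a subspace stable under the dual action is a subcomodule -/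
theorem isSubcomod_of_stable (W : Submodule k V)
    (h : ∀ (φ : Module.Dual k A), ∀ w ∈ W, (ρ φ : V →ₗ[k] V) w ∈ W) :
    HopfRep.IsSubcomod (k := k) (A := A) W := by
  classical
  intro w hw
  let b := Module.Free.chooseBasis k A
  let e := TensorProduct.equivFinsuppOfBasisRight (M := V) b
  set t := HopfRep.Comod.coact (k := k) (A := A) w with ht
  have hcoord : ∀ j, e t j ∈ W := by
    intro j
    have : e t j = (ρ (b.coord j) : V →ₗ[k] V) w := by
      rw [TensorProduct.equivFinsuppOfBasisRight_apply]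
      rfl
    rw [this]
    exact h _ w hw
  have ht' : t = (e t).sum fun i m => m ⊗ₜ b i := by
    rw [← TensorProduct.equivFinsuppOfBasisRight_symm_apply, LinearEquiv.symm_apply_apply]
  rw [ht']
  refine Submodule.sum_mem _ (fun j _ => ?_)
  exact ⟨(⟨e t j, hcoord j⟩ : W) ⊗ₜ b j, by simp⟩

omit [Module.Free k A] in
/-- a subcomodule is stable under the dual action -/
theorem stable_of_isSubcomod (W : Submodule k V) (hW : HopfRep.IsSubcomod (k := k) (A := A) W)
    (φ : Module.Dual k A) (w : V) (hw : w ∈ W) : (ρ φ : V →ₗ[k] V) w ∈ W := by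
  obtain ⟨t, ht⟩ := hW w hw
  show ev V φ (HopfRep.Comod.coact (k := k) (A := A) w) ∈ W
  rw [← ht]
  clear ht
  induction t using TensorProduct.induction_on with
  | zero => simp
  | tmul x a => simpa using W.smul_mem _ x.2
  | add x y hx hy => simpa only [map_add] using W.add_mem hx hy

end Free


section Trig
variable {k : Type u} [Field k] {A : Type v} [CommRing A] [Bialgebra k A]

/-- a cocommutative bialgebra over an algebraically closed field is trigonalizable -/
theorem isTrigonalizable_of_isCocomm [IsAlgClosed k] [Coalgebra.IsCocomm k A] :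
    HopfRep.IsTrigonalizable k A := by
  intro V _ _ _ hfin hsimp
  obtain ⟨hnt, hsimple⟩ := hsimp
  -- every `ρ φ` is a scalar
  have hscal : ∀ φ : Module.Dual k A, ∃ c : k, ∀ v : V, (ρ φ : V →ₗ[k] V) v = c • v := by
    intro φ
    obtain ⟨c, hc⟩ := Module.End.exists_eigenvalue (ρ φ : V →ₗ[k] V)
    refine ⟨c, ?_⟩
    have hsub : HopfRep.IsSubcomod (k := k) (A := A) (Module.End.eigenspace (ρ φ : V →ₗ[k] V) c) := by
      apply isSubcomod_of_stable
      intro ψ w hw
      rw [Module.End.mem_eigenspace_iff] at hw ⊢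
      have h1 := congrArg (fun g : V →ₗ[k] V => g w) (ρ_commute (V := V) φ ψ)
      simp only [LinearMap.coe_comp, Function.comp_apply] at h1
      rw [h1, hw, map_smul]
    rcases hsimple _ hsub with h | h
    · exact absurd h hc
    · intro v
      have : v ∈ Module.End.eigenspace (ρ φ : V →ₗ[k] V) c := by rw [h]; trivial
      exact Module.End.mem_eigenspace_iff.1 this
  obtain ⟨v, hv⟩ := exists_ne (0 : V)
  have hsub : HopfRep.IsSubcomod (k := k) (A := A) (Submodule.span k {v}) := by
    apply isSubcomod_of_stable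
    intro φ w hw
    obtain ⟨c, hc⟩ := hscal φ
    rw [hc]
    exact Submodule.smul_mem _ _ hw
  rcases hsimple _ hsub with h | h
  · exfalso
    apply hv
    have : v ∈ Submodule.span k {v} := Submodule.mem_span_singleton_self v
    rw [h] at this
    exact (Submodule.mem_bot k).1 this
  · rw [← finrank_top k V, ← h, finrank_span_singleton hv]

end Trig

end Groth.Agent.H5.Comod
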