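import Mathlib
import Groth.Prelude.Def_HopfRep
import Groth.Prelude.Def_ComodSub
import Groth.Agent.Lib.helper5.Comod
import Groth.Agent.Lib.helper12.Comod

open TensorProduct

namespace Groth.Agent.H5.Comod

universe u v w

section Coalg
variable {k : Type u} [CommRing k] {A : Type v} [AddCommGroup A] [Module k A] [Coalgebra k A]
variable {V : Type w} [AddCommGroup V] [Module k V] [HopfRep.Comod k A V]

/-- the coaction of `ρ φ v` -/
theorem coact_ρ (φ : Module.Dual k A) (v : V) :
    HopfRep.Comod.coact (k := k) (A := A) ((ρ φ : V →ₗ[k] V) v) =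
      ev (V ⊗[k] A) φ ((TensorProduct.assoc k V A A).symm
        ((CoalgebraStruct.comul (R := k) (A := A)).lTensor V
          (HopfRep.Comod.coact (k := k) (A := A) v))) := by
  have h1 : (HopfRep.Comod.coact (k := k) (A := A) : V →ₗ[k] V ⊗[k] A) ∘ₗ ev V φ =
      ev (V ⊗[k] A) φ ∘ₗ (HopfRep.Comod.coact (k := k) (A := A) : V →ₗ[k] V ⊗[k] A).rTensor A := by
    apply TensorProduct.ext'
    intro v a
    simp
  have h3 := HopfRep.Comod.coassoc (k := k) (A := A) (V := V)
  have h4 : (HopfRep.Comod.coact (k := k) (A := A) : V →ₗ[k] V ⊗[k] A).rTensor A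
      (HopfRep.Comod.coact (k := k) (A := A) v) =
      (TensorProduct.assoc k V A A).symm
        ((CoalgebraStruct.comul (R := k) (A := A)).lTensor V
          (HopfRep.Comod.coact (k := k) (A := A) v)) := by
    have := congrArg (fun g => g v) h3
    simp only [LinearMap.coe_comp, Function.comp_apply, LinearEquiv.coe_coe] at this
    rw [← this, LinearEquiv.symm_apply_apply]
  rw [← h4]
  exact congrArg (fun g => g (HopfRep.Comod.coact (k := k) (A := A) v)) h1

/-- counitality: `ρ ε = id` -/
theorem ρ_counit (v : V) :
    (ρ (CoalgebraStruct.counit (R := k) (A := A)) : V →ₗ[k] V) v = v := by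
  have h := congrArg (fun g => g v) (HopfRep.Comod.counit_comp (k := k) (A := A) (V := V))
  simp only [LinearMap.coe_comp, Function.comp_apply, LinearMap.flip_apply, mk_apply] at h
  show (TensorProduct.rid k V) (LinearMap.lTensor V _ _) = v
  rw [h]
  simp

end Coalg


section Diag
variable {k : Type u} [Field k] {A : Type v} [CommRing A] [Bialgebra k A]

/-- an element with `Δ x = x ⊗ g` is a multiple of a group-like element -/
theorem mem_span_groupLike_of_comul (x g : A)
    (h : CoalgebraStruct.comul (R := k) x = x ⊗ₜ[k] g) :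
    x ∈ Submodule.span k {a : A | IsGroupLikeElem k a} := by
  by_cases hx : x = 0
  · rw [hx]; exact Submodule.zero_mem _
  have h1 : x = (CoalgebraStruct.counit (R := k) x) • g := by
    have := Coalgebra.rTensor_counit_comul (R := k) x
    rw [h, LinearMap.rTensor_tmul] at this
    have h2 := congrArg (TensorProduct.lid k A) this
    simpa using h2.symm
  have hε : CoalgebraStruct.counit (R := k) x ≠ 0 := by
    intro h0
    rw [h0, zero_smul] at h1
    exact hx h1
  have hg1 : CoalgebraStruct.counit (R := k) g = 1 := by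
    have := congrArg (CoalgebraStruct.counit (R := k)) h1
    rw [map_smul, smul_eq_mul] at this
    have h3 : CoalgebraStruct.counit (R := k) x * 1 =
        CoalgebraStruct.counit (R := k) x * CoalgebraStruct.counit (R := k) g := by
      rw [mul_one]; exact this
    exact (mul_left_cancel₀ hε h3).symm
  have hg2 : CoalgebraStruct.comul (R := k) g = g ⊗ₜ[k] g := by
    have hco := Coalgebra.coassoc_apply (R := k) x
    rw [h, LinearMap.rTensor_tmul, LinearMap.lTensor_tmul, h, TensorProduct.assoc_tmul] at hco
    -- apply `ε ⊗ id`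
    have h4 := congrArg (fun t => TensorProduct.lid k (A ⊗[k] A)
      ((CoalgebraStruct.counit (R := k) (A := A)).rTensor (A ⊗[k] A) t)) hco
    simp only [LinearMap.rTensor_tmul, TensorProduct.lid_tmul] at h4
    have h5 : (CoalgebraStruct.counit (R := k) x)⁻¹ • ((CoalgebraStruct.counit (R := k) x) •
        (g ⊗ₜ[k] g : A ⊗[k] A)) = (CoalgebraStruct.counit (R := k) x)⁻¹ •
        ((CoalgebraStruct.counit (R := k) x) • CoalgebraStruct.comul (R := k) g) := by
      rw [h4]
    rw [smul_smul, smul_smul, inv_mul_cancel₀ hε, one_smul, one_smul] at h5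
    exact h5.symm
  rw [h1]
  exact Submodule.smul_mem _ _ (Submodule.subset_span ⟨hg1, hg2⟩)


/-- (←) if every finite-dimensional comodule is spanned by eigenvectors, group-likes span `A` -/
theorem isDiagonalizable_of_span_eigenvectors
    (H : ∀ (V : Type v) [AddCommGroup V] [Module k V] [HopfRep.Comod k A V], Module.Finite k V →
      Submodule.span k {v : V | ∃ a : A, HopfRep.Comod.coact (k := k) (A := A) v = v ⊗ₜ[k] a} = ⊤) :
    HopfRep.IsDiagonalizable k A := by
  unfold HopfRep.IsDiagonalizable
  rw [eq_top_iff]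
  intro a _
  obtain ⟨W, hfin, haW, hW⟩ :=
    Groth.Agent.H12Comod.exists_finite_subcomod (k := k) (C := A) (V := A) a
  letI cW : HopfRep.Comod k A W := ComodSub.Comod.restr (HopfRep.Comod.regular k A) W hW
  have hspan := H W hfin
  have hmem : (⟨a, haW⟩ : W) ∈ Submodule.span k
      {v : W | ∃ g : A, HopfRep.Comod.coact (k := k) (A := A) v = v ⊗ₜ[k] g} := by
    rw [hspan]; trivial
  have hle : Submodule.span k
      {v : W | ∃ g : A, HopfRep.Comod.coact (k := k) (A := A) v = v ⊗ₜ[k] g} ≤
      Submodule.comap W.subtype (Submodule.span k {a : A | IsGroupLikeElem k a}) := by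
    apply Submodule.span_le.2
    rintro w ⟨g, hg⟩
    show (w : A) ∈ Submodule.span k {a : A | IsGroupLikeElem k a}
    apply mem_span_groupLike_of_comul (w : A) g
    have h1 := ComodSub.restr_coact_coe (HopfRep.Comod.regular k A) W hW w
    have h2 : (ComodSub.Comod.restr (HopfRep.Comod.regular k A) W hW).coact w = w ⊗ₜ[k] g := hg
    rw [h2, LinearMap.rTensor_tmul] at h1
    exact h1.symm
  exact hle hmem


/-- (→) if group-likes span `A`, every comodule is spanned by eigenvectors -/
theorem span_eigenvectors_of_isDiagonalizable (hd : HopfRep.IsDiagonalizable k A)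
    (V : Type w) [AddCommGroup V] [Module k V] [HopfRep.Comod k A V] :
    Submodule.span k {v : V | ∃ a : A, HopfRep.Comod.coact (k := k) (A := A) v = v ⊗ₜ[k] a} = ⊤ := by
  classical
  let G := {a : A // IsGroupLikeElem k a}
  have hli : LinearIndependent k (fun g : G => (g : A)) :=
    linearIndepOn_isGroupLikeElem (R := k) (A := A)
  have hsp : ⊤ ≤ Submodule.span k (Set.range (fun g : G => (g : A))) := by
    rw [Subtype.range_coe_subtype]
    exact hd.ge
  let b : Module.Basis G k A := Module.Basis.mk hli hsp
  have hb : ∀ g : G, b g = (g : A) := fun g => Module.Basis.mk_apply hli hsp g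
  let e := TensorProduct.equivFinsuppOfBasisRight (M := V) b
  rw [eq_top_iff]
  intro v _
  set t := HopfRep.Comod.coact (k := k) (A := A) v with ht
  set f := e t with hf
  have ht' : t = f.sum fun g m => m ⊗ₜ[k] (g : A) := by
    have := (TensorProduct.equivFinsuppOfBasisRight_symm_apply (M := V) b f)
    have h2 : (TensorProduct.equivFinsuppOfBasisRight (M := V) b).symm f = t := by
      rw [hf]; exact LinearEquiv.symm_apply_apply _ _
    rw [h2] at this
    rw [this]
    simp only [hb]
  have hfg : ∀ g, f g = (ρ (b.coord g) : V →ₗ[k] V) v := by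
    intro g
    rw [hf, TensorProduct.equivFinsuppOfBasisRight_apply]
    rfl
  have hcoord : ∀ g h : G, b.coord g (h : A) = if h = g then 1 else 0 := by
    intro g h
    rw [← hb h, Module.Basis.coord_apply, Module.Basis.repr_self, Finsupp.single_apply]
  -- each `f g` is an eigenvector
  have heig : ∀ g, HopfRep.Comod.coact (k := k) (A := A) (f g) = f g ⊗ₜ[k] (g : A) := by
    intro g
    rw [hfg, coact_ρ, ← ht, ht']
    simp only [Finsupp.sum, map_sum, LinearMap.lTensor_tmul]
    have : ∀ h : G, ev (V ⊗[k] A) (b.coord g) ((TensorProduct.assoc k V A A).symm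
        (f h ⊗ₜ[k] CoalgebraStruct.comul (R := k) (h : A))) =
        if h = g then f h ⊗ₜ[k] (h : A) else 0 := by
      intro h
      rw [h.2.comul_eq_tmul_self, TensorProduct.assoc_symm_tmul, ev_tmul, hcoord]
      split_ifs <;> simp
    simp only [this]
    rw [Finset.sum_ite_eq' f.support g]
    split_ifs with hg
    · rw [← hfg]
    · rw [← hfg, Finsupp.notMem_support_iff.1 hg, zero_tmul]
  -- `v` is the sum of the `f g`
  have hv : v = f.sum fun _ m => m := by
    conv_lhs => rw [← ρ_counit (k := k) (A := A) v]
    show ev V _ t = _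
    rw [ht']
    simp only [Finsupp.sum, map_sum, ev_tmul]
    refine Finset.sum_congr rfl (fun g _ => ?_)
    rw [g.2.counit_eq_one, one_smul]
  rw [hv]
  exact Submodule.sum_mem _ (fun g _ => Submodule.subset_span ⟨(g : A), heig g⟩)

end Diag

end Groth.Agent.H5.Comod
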