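import Mathlib
import Groth.Prelude.Def_HopfRep

open TensorProduct

namespace Groth.Agent.H5.Comod

universe u

/-- Serre's lemma: over a Noetherian ring, with flat coalgebra, a f.g. submodule of a comodule
is contained in a f.g. subcomodule -/
theorem exists_fg_subcomod_of_flat (R : Type u) [CommRing R] [IsNoetherianRing R] (C : Type u)
    [AddCommGroup C] [Module R C] [Coalgebra R C] [Module.Flat R C] (V : Type u) [AddCommGroup V]
    [Module R V] [HopfRep.Comod R C V] (M : Submodule R V) (hM : M.FG) :
    ∃ W : Submodule R V, HopfRep.IsSubcomod (k := R) (A := C) W ∧ M ≤ W ∧ W.FG := by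
  classical
  set coact := HopfRep.Comod.coact (k := R) (A := C) (V := V) with hcoact
  obtain ⟨s, hs⟩ := hM
  -- a f.g. `N` with `coact M ⊆ N ⊗ C`
  obtain ⟨N, hNfin, hN⟩ := TensorProduct.exists_finite_submodule_left_of_setFinite
    ((fun v => coact v) '' (s : Set V)) ((Finset.finite_toSet s).image _)
  have hNfg : N.FG := (Module.Finite.iff_fg).1 hNfin
  let ιN : N ⊗[R] C →ₗ[R] V ⊗[R] C := N.subtype.rTensor C
  let W : Submodule R V := Submodule.comap coact (LinearMap.range ιN)
  have hMW : M ≤ W := by
    rw [← hs]
    apply Submodule.span_le.2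
    intro v hv
    exact hN ⟨v, hv, rfl⟩
  have hWN : W ≤ N := by
    intro w hw
    obtain ⟨t, ht⟩ := hw
    have h1 := congrArg (fun g => g w) (HopfRep.Comod.counit_comp (k := R) (A := C) (V := V))
    simp only [LinearMap.coe_comp, Function.comp_apply, LinearMap.flip_apply, mk_apply] at h1
    have h2 : w = TensorProduct.rid R V
        ((CoalgebraStruct.counit (R := R) (A := C)).lTensor V (coact w)) := by
      rw [h1]; simp
    rw [h2, ← ht]
    have h3 : ∀ t : N ⊗[R] C, TensorProduct.rid R V
        ((CoalgebraStruct.counit (R := R) (A := C)).lTensor V (ιN t)) ∈ N := by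
      intro t
      induction t using TensorProduct.induction_on with
      | zero => simp
      | tmul x c => simpa [ιN] using N.smul_mem _ x.2
      | add x y hx hy => simpa only [map_add] using N.add_mem hx hy
    exact h3 t
  have hWfg : W.FG := by
    haveI : IsNoetherian R N := isNoetherian_of_fg_of_noetherian N hNfg
    have : (Submodule.comap N.subtype W).FG := IsNoetherian.noetherian _
    have h2 := this.map N.subtype
    rwa [Submodule.map_comap_subtype, inf_eq_right.2 hWN] at h2
  refine ⟨W, ?_, hMW, hWfg⟩
  -- `W` is a subcomodule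
  let Q := (V ⊗[R] C) ⧸ LinearMap.range ιN
  let g : V →ₗ[R] Q := (LinearMap.range ιN).mkQ ∘ₗ coact
  have hex : Function.Exact W.subtype g := by
    intro v
    constructor
    · intro hv
      refine ⟨⟨v, ?_⟩, rfl⟩
      show coact v ∈ LinearMap.range ιN
      exact (Submodule.Quotient.mk_eq_zero _).1 hv
    · rintro ⟨w, rfl⟩
      exact (Submodule.Quotient.mk_eq_zero _).2 w.2
  have hex' := Module.Flat.rTensor_exact C hex
  intro w hw
  apply (hex' (coact w)).1
  -- `(g ⊗ id)(coact w) = 0`
  obtain ⟨t, ht⟩ := hw
  have hco := congrArg (fun f => f w) (HopfRep.Comod.coassoc (k := R) (A := C) (V := V))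
  simp only [LinearMap.coe_comp, Function.comp_apply, LinearEquiv.coe_coe] at hco
  have h1 : (coact.rTensor C) (coact w) = (TensorProduct.assoc R V C C).symm
      ((CoalgebraStruct.comul (R := R) (A := C)).lTensor V (coact w)) := by
    rw [← hco, LinearEquiv.symm_apply_apply]
  have h2 : g.rTensor C (coact w) =
      ((LinearMap.range ιN).mkQ.rTensor C) ((coact.rTensor C) (coact w)) := by
    have : g.rTensor C = ((LinearMap.range ιN).mkQ.rTensor C) ∘ₗ (coact.rTensor C) :=
      LinearMap.rTensor_comp C _ _
    rw [this]; rfl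
  rw [h2, h1, ← ht]
  have h3 : ∀ t : N ⊗[R] C, ((LinearMap.range ιN).mkQ.rTensor C)
      ((TensorProduct.assoc R V C C).symm
        ((CoalgebraStruct.comul (R := R) (A := C)).lTensor V (ιN t))) = 0 := by
    intro t
    induction t using TensorProduct.induction_on with
    | zero => simp
    | tmul x c =>
      simp only [ιN, LinearMap.rTensor_tmul, Submodule.subtype_apply, LinearMap.lTensor_tmul]
      induction (CoalgebraStruct.comul (R := R) c : C ⊗[R] C) using TensorProduct.induction_on with
      | zero => simp
      | tmul c₁ c₂ =>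
        rw [TensorProduct.assoc_symm_tmul, LinearMap.rTensor_tmul]
        have : (LinearMap.range ιN).mkQ ((x : V) ⊗ₜ[R] c₁) = 0 := by
          rw [Submodule.mkQ_apply, Submodule.Quotient.mk_eq_zero]
          exact ⟨x ⊗ₜ c₁, rfl⟩
        rw [this, zero_tmul]
      | add a b ha hb => rw [tmul_add, map_add, map_add, ha, hb, add_zero]
    | add x y hx hy => rw [map_add, map_add, map_add, map_add, hx, hy, add_zero]
  exact h3 t

end Groth.Agent.H5.Comod
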