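import Mathlib
import Groth.Prelude.Def_HopfRep
import Groth.Agent.Lib.helper5.Comod
import Groth.Agent.Lib.helper5.Comod2

open TensorProduct

namespace Groth.Agent.H5.Comod

universe u v w

section Proj
attribute [local instance] Classical.propDecidable
variable {k : Type u} [CommRing k] {A : Type v} [AddCommGroup A] [Module k A]
variable {V : Type w} [AddCommGroup V] [Module k V]

/-- coordinates of a tensor with respect to a "dual basis" of a projective module -/
noncomputable def coords (s : A →ₗ[k] (A →₀ k)) : V ⊗[k] A →ₗ[k] (A →₀ V) :=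
  (TensorProduct.finsuppScalarRight k k V A).toLinearMap ∘ₗ s.lTensor V

theorem coords_apply (s : A →ₗ[k] (A →₀ k)) (t : V ⊗[k] A) (x : A) :
    coords s t x = ev V ((Finsupp.lapply x) ∘ₗ s) t := by
  induction t using TensorProduct.induction_on with
  | zero => simp
  | tmul v a =>
    simp [coords, TensorProduct.finsuppScalarRight_apply_tmul_apply]
  | add t₁ t₂ h₁ h₂ => simp only [map_add, Finsupp.add_apply, h₁, h₂]

theorem sum_coords (s : A →ₗ[k] (A →₀ k))
    (hs : Finsupp.linearCombination k (id : A → A) ∘ₗ s = LinearMap.id) (t : V ⊗[k] A) :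
    (coords s t).sum (fun x v => v ⊗ₜ[k] x) = t := by
  have key : (Finsupp.lsum k (fun x : A => (TensorProduct.mk k V A).flip x)) ∘ₗ coords s =
      LinearMap.id := by
    apply TensorProduct.ext'
    intro v a
    simp only [coords, LinearMap.coe_comp, LinearEquiv.coe_coe, Function.comp_apply,
      LinearMap.lTensor_tmul, LinearMap.id_coe, id_eq]
    rw [TensorProduct.finsuppScalarRight_apply_tmul]
    simp only [Finsupp.sum, map_sum, Finsupp.lsum_single, LinearMap.flip_apply, mk_apply]
    have h1 : a = Finsupp.linearCombination k (id : A → A) (s a) :=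
      (congrArg (fun g => g a) hs).symm
    conv_rhs => rw [h1, Finsupp.linearCombination_apply, Finsupp.sum, tmul_sum]
    refine Finset.sum_congr rfl (fun x _ => ?_)
    rw [TensorProduct.smul_tmul]
    rfl
  have := congrArg (fun g => g t) key
  simp only [LinearMap.coe_comp, Function.comp_apply, Finsupp.lsum_apply, LinearMap.id_coe,
    id_eq] at this
  exact this

end Proj


section Smallest
attribute [local instance] Classical.propDecidable
variable {k : Type u} [CommRing k] {A : Type v} [AddCommGroup A] [Module k A] [Coalgebra k A]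
  [Module.Projective k A]
variable {V : Type w} [AddCommGroup V] [Module k V] [HopfRep.Comod k A V]

/-- for projective `A`, a subspace stable under the dual action is a subcomodule -/
theorem isSubcomod_of_stable' (W : Submodule k V)
    (h : ∀ (φ : Module.Dual k A), ∀ w ∈ W, (ρ φ : V →ₗ[k] V) w ∈ W) :
    HopfRep.IsSubcomod (k := k) (A := A) W := by
  obtain ⟨s, hs⟩ := (Module.projective_def' (R := k) (P := A)).1 inferInstance
  intro w hw
  set t := HopfRep.Comod.coact (k := k) (A := A) w with ht
  rw [← sum_coords s hs t]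
  refine Submodule.sum_mem _ (fun x _ => ?_)
  have hx : coords s t x ∈ W := by
    rw [coords_apply]
    exact h _ w hw
  exact ⟨(⟨coords s t x, hx⟩ : W) ⊗ₜ x, by simp⟩

/-- the smallest subcomodule containing a submodule -/
theorem exists_smallest_subcomod (M : Submodule k V) :
    ∃ W : Submodule k V, HopfRep.IsSubcomod (k := k) (A := A) W ∧ M ≤ W ∧
      (∀ W' : Submodule k V, HopfRep.IsSubcomod (k := k) (A := A) W' → M ≤ W' → W ≤ W') ∧
      (M.FG → W.FG) := by
  let W : Submodule k V := ⨆ φ : Module.Dual k A, Submodule.map (ρ φ : V →ₗ[k] V) M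
  have hgen : ∀ (φ : Module.Dual k A) (m : V), m ∈ M → (ρ φ : V →ₗ[k] V) m ∈ W := by
    intro φ m hm
    exact (le_iSup (fun φ : Module.Dual k A => Submodule.map (ρ φ : V →ₗ[k] V) M) φ) ⟨m, hm, rfl⟩
  have hMW : M ≤ W := by
    intro m hm
    rw [← ρ_counit (k := k) (A := A) m]
    exact hgen _ m hm
  have hstable : ∀ (ψ : Module.Dual k A), ∀ w ∈ W, (ρ ψ : V →ₗ[k] V) w ∈ W := by
    intro ψ w hw
    have : W ≤ Submodule.comap (ρ ψ : V →ₗ[k] V) W := by
      apply iSup_le
      rintro φ _ ⟨m, hm, rfl⟩
      show (ρ ψ : V →ₗ[k] V) ((ρ φ : V →ₗ[k] V) m) ∈ W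
      have := congrArg (fun g : V →ₗ[k] V => g m) (ρ_comp (V := V) ψ φ)
      simp only [LinearMap.coe_comp, Function.comp_apply] at this
      rw [this]
      exact hgen _ m hm
    exact this hw
  refine ⟨W, isSubcomod_of_stable' W hstable, hMW, ?_, ?_⟩
  · intro W' hW' hMW'
    apply iSup_le
    rintro φ _ ⟨m, hm, rfl⟩
    exact stable_of_isSubcomod W' hW' φ m (hMW' hm)
  · rintro ⟨S, hS⟩
    obtain ⟨s, hs⟩ := (Module.projective_def' (R := k) (P := A)).1 inferInstance
    -- the finite generating set
    let T : Finset V := S.biUnion (fun m =>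
      (coords s (HopfRep.Comod.coact (k := k) (A := A) m)).support.image
        (fun x => coords s (HopfRep.Comod.coact (k := k) (A := A) m) x))
    refine ⟨T, le_antisymm ?_ ?_⟩
    · apply Submodule.span_le.2
      intro v hv
      simp only [T, Finset.coe_biUnion, Finset.coe_image, Set.mem_iUnion, Set.mem_image,
        Finset.mem_coe] at hv
      obtain ⟨m, hm, x, _, rfl⟩ := hv
      rw [coords_apply]
      apply hgen
      rw [← hS]
      exact Submodule.subset_span hm
    · apply iSup_le
      intro φ
      rw [← hS, Submodule.map_span]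
      apply Submodule.span_le.2
      rintro _ ⟨m, hm, rfl⟩
      show ev V φ (HopfRep.Comod.coact (k := k) (A := A) m) ∈ Submodule.span k (T : Set V)
      rw [← sum_coords s hs (HopfRep.Comod.coact (k := k) (A := A) m)]
      simp only [Finsupp.sum, map_sum, ev_tmul]
      refine Submodule.sum_mem _ (fun x hx => Submodule.smul_mem _ _ (Submodule.subset_span ?_))
      simp only [T, Finset.coe_biUnion, Finset.coe_image, Set.mem_iUnion, Set.mem_image,
        Finset.mem_coe]
      exact ⟨m, hm, x, hx, rfl⟩

end Smallest

end Groth.Agent.H5.Comod
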