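import Mathlib
import Groth.Prelude.Def_Dyn

/-! # The triple convolution `Dyn.conv3` in terms of Mathlib's convolution algebra -/

namespace Groth.Agent.H5.Conv3

open TensorProduct WithConv Coalgebra

universe u

variable (k : Type u) [CommRing k] (A : Type u) [CommRing A] [HopfAlgebra k A]
variable {C : Type u} [CommRing C] [Algebra k C]

/-- `conv3 f g h` is the triple product in the convolution algebra. -/
theorem conv3_apply (f g h : A →ₐ[k] C) (a : A) :
    Dyn.conv3 k A f g h a =
      (toConv f.toLinearMap * toConv g.toLinearMap * toConv h.toLinearMap : WithConv (A →ₗ[k] C)) a := by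
  rw [(ℛ k a).convMul_apply]
  unfold Dyn.conv3
  simp only [AlgHom.comp_apply, Bialgebra.comulAlgHom_apply]
  rw [← (ℛ k a).eq]
  simp only [map_sum, Algebra.TensorProduct.map_tmul, Algebra.TensorProduct.lmul'_apply_tmul,
    AlgHom.comp_apply, Bialgebra.comulAlgHom_apply, AlgHom.id_apply]
  refine Finset.sum_congr rfl fun i _ => ?_
  congr 1

/-- The unit point is the unit of the convolution algebra. -/
theorem unit_eq_one :
    toConv ((Algebra.ofId k C).comp (Bialgebra.counitAlgHom k A)).toLinearMap =
      (1 : WithConv (A →ₗ[k] C)) := by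
  ext a
  simp [Algebra.ofId_apply]

end Groth.Agent.H5.Conv3
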