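import Mathlib
open Polynomial Matrix

namespace Groth.Agent.H5.Cyclic

variable {R : Type} [CommRing R] {m : Type} [Fintype m] [DecidableEq m]

/-- the cyclic block matrix -/
def Bmat (A : Matrix m m R) (n : ℕ) : Matrix (Fin n × m) (Fin n × m) R :=
  Matrix.of fun (p q : Fin n × m) =>
        if p.1.val = 0 then (if q.1.val = n - 1 then A p.2 q.2 else 0)
        else (if q.1.val + 1 = p.1.val ∧ p.2 = q.2 then 1 else 0)

noncomputable def Tmat (m : Type) [Fintype m] [DecidableEq m] (R : Type) [CommRing R] (n : ℕ) :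
    Matrix (Fin n × m) (Fin n × m) R[X] :=
  Matrix.of fun p q =>
    (if p = q then 1 else 0) - (if q.1.val + 1 = p.1.val ∧ p.2 = q.2 then X else 0)

noncomputable def Umat (A : Matrix m m R) (n : ℕ) : Matrix (Fin n × m) m R[X] :=
  Matrix.of fun p j => X ^ (p.1.val + 1) * C (A p.2 j)

noncomputable def U0mat (A : Matrix m m R) (n : ℕ) : Matrix (Fin n × m) m R[X] :=
  Matrix.of fun p j => if p.1.val = 0 then X * C (A p.2 j) else 0

noncomputable def Vmat (m : Type) [Fintype m] [DecidableEq m] (R : Type) [CommRing R] (n : ℕ) :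
    Matrix m (Fin n × m) R[X] :=
  Matrix.of fun j q => if q.1.val = n - 1 ∧ j = q.2 then 1 else 0

omit [DecidableEq m] in
theorem sum_helper [DecidableEq m] {M : Type*} [AddCommMonoid M] (n : ℕ) (P : Fin n → Prop)
    [DecidablePred P] (i : m)
    (f : Fin n × m → M) :
    (∑ x : Fin n × m, if P x.1 ∧ i = x.2 then f x else 0) =
      ∑ q : Fin n, if P q then f (q, i) else 0 := by
  rw [Fintype.sum_prod_type]
  refine Finset.sum_congr rfl fun q _ => ?_
  by_cases h : P q
  · simp [h]
  · simp [h]

theorem T_mul_U (A : Matrix m m R) (n : ℕ) : Tmat m R n * Umat A n = U0mat A n := by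
  ext ⟨p, i⟩ j
  simp only [mul_apply, Tmat, Umat, U0mat, of_apply, sub_mul, Finset.sum_sub_distrib, ite_mul,
    one_mul, zero_mul, Finset.sum_ite_eq, Finset.mem_univ, if_true]
  rw [sum_helper n (fun q => q.val + 1 = p.val) i
    (fun x => X * (X ^ (x.1.val + 1) * C (A x.2 j)))]
  by_cases hp : p.val = 0
  · rw [if_pos hp, Finset.sum_eq_zero (fun q _ => if_neg (by omega)), sub_zero, hp]
    simp
  · rw [if_neg hp]
    obtain ⟨p', hp'⟩ : ∃ p', p.val = p' + 1 := ⟨p.val - 1, by omega⟩
    have hlt : p' < n := by have := p.isLt; omega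
    rw [Finset.sum_eq_single (⟨p', hlt⟩ : Fin n)]
    · simp only [hp', if_true]
      ring_nf
    · intro q _ hq
      rw [if_neg]
      intro h
      apply hq
      ext
      simp only
      omega
    · intro h; exact absurd (Finset.mem_univ _) h


theorem V_mul_U (A : Matrix m m R) (n : ℕ) (hn : 1 ≤ n) :
    Vmat m R n * Umat A n = (X : R[X]) ^ n • A.map C := by
  refine Matrix.ext fun j k => ?_
  simp only [mul_apply, Vmat, Umat, of_apply, ite_mul, one_mul, zero_mul, Matrix.smul_apply,
    map_apply, smul_eq_mul]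
  rw [sum_helper n (fun q => q.val = n - 1) j (fun x => X ^ (x.1.val + 1) * C (A x.2 k))]
  rw [Finset.sum_eq_single (⟨n - 1, by omega⟩ : Fin n)]
  · simp only [if_true]
    rw [Nat.sub_add_cancel hn]
  · intro q _ hq
    rw [if_neg]
    intro h
    apply hq
    ext
    exact h
  · intro h; exact absurd (Finset.mem_univ _) h

theorem one_sub_eq (A : Matrix m m R) (n : ℕ) :
    1 - (X : R[X]) • (Bmat A n).map C = Tmat m R n - U0mat A n * Vmat m R n := by
  refine Matrix.ext fun ⟨p, i⟩ ⟨q, k⟩ => ?_
  simp only [Matrix.sub_apply, Matrix.smul_apply, map_apply, Bmat, of_apply, Tmat, mul_apply,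
    U0mat, Vmat, smul_eq_mul, one_apply, ite_and, mul_ite, mul_one, mul_zero,
    Finset.sum_ite_eq', Finset.sum_ite_eq, Finset.mem_univ, if_true]
  by_cases hp : p.val = 0
  · simp only [hp, if_true]
    have : ¬ (q.val + 1 = 0) := by omega
    simp only [this, if_false, sub_zero]
    by_cases hq : q.val = n - 1
    · simp [hq]
    · simp [hq]
  · simp only [hp, if_false]
    by_cases h1 : q.val + 1 = p.val
    · by_cases h2 : i = k
      · simp [h1, h2]
      · simp [h1, h2]
    · simp [h1]


theorem det_T (n : ℕ) : (Tmat m R n).det = 1 := by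
  have hbt : (Tmat m R n).BlockTriangular (fun x : Fin n × m => OrderDual.toDual x.1) := by
    intro x y hxy
    have hlt : x.1 < y.1 := hxy
    have h1 : x ≠ y := by
      rintro rfl
      exact lt_irrefl _ hlt
    have h2 : ¬ (y.1.val + 1 = x.1.val ∧ x.2 = y.2) := by
      rintro ⟨h, -⟩
      have : x.1.val < y.1.val := hlt
      omega
    simp [Tmat, h1, h2]
  rw [hbt.det_fintype]
  refine Finset.prod_eq_one fun k _ => ?_
  have : (Tmat m R n).toSquareBlock (fun x : Fin n × m => OrderDual.toDual x.1) k = 1 := by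
    refine Matrix.ext fun ⟨x, hx⟩ ⟨y, hy⟩ => ?_
    have hxy : x.1 = y.1 := by
      have := hx.trans hy.symm
      exact this
    have h2 : ¬ (y.1.val + 1 = x.1.val ∧ x.2 = y.2) := by
      rintro ⟨h, -⟩
      rw [hxy] at h
      omega
    simp only [toSquareBlock_def, of_apply, Tmat, h2, if_false, sub_zero, one_apply,
      Subtype.mk.injEq]
  rw [this, det_one]

theorem main (A : Matrix m m R) (n : ℕ) (hn : 1 ≤ n) :
    (Bmat A n).charpolyRev = Polynomial.expand R n A.charpolyRev := by
  have h1 : (Bmat A n).charpolyRev = (1 - Vmat m R n * Umat A n).det := by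
    rw [charpolyRev, one_sub_eq, ← T_mul_U, Matrix.mul_assoc]
    have : Tmat m R n - Tmat m R n * (Umat A n * Vmat m R n) =
        Tmat m R n * (1 - Umat A n * Vmat m R n) := by
      rw [Matrix.mul_sub, Matrix.mul_one]
    rw [this, det_mul, det_T, one_mul, det_one_sub_mul_comm]
  rw [h1, V_mul_U A n hn, charpolyRev, AlgHom.map_det]
  congr 1
  refine Matrix.ext fun i j => ?_
  simp [one_apply]

end Groth.Agent.H5.Cyclic
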