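import Mathlib

/-!
# The determinant of the generic matrix

`psi : A[X_ij] →ₐ[A] A[X_ij][T]`, `X_ij ↦ (T·1 - X)_ij`, is injective and sends `det X` to the
characteristic polynomial of `X` (monic of degree `n`).  Consequences: `det X` is a nonzerodivisor,
and `C u = det ^ m` forces `m = 0` (for `n ≥ 1`, `A` nontrivial).
-/

set_option autoImplicit false

universe u

namespace Groth.Agent.H5.DetGeneric

variable (A : Type u) [CommRing A] (n : ℕ)

/-- The substitution `X ↦ T·1 - X`. -/
noncomputable def psi :
    MvPolynomial (Fin n × Fin n) A →ₐ[A] Polynomial (MvPolynomial (Fin n × Fin n) A) :=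
  MvPolynomial.aeval (fun ij => Matrix.charmatrix (Matrix.mvPolynomialX (Fin n) (Fin n) A) ij.1 ij.2)

theorem psi_X (ij : Fin n × Fin n) : psi A n (MvPolynomial.X ij) =
    Matrix.charmatrix (Matrix.mvPolynomialX (Fin n) (Fin n) A) ij.1 ij.2 :=
  MvPolynomial.aeval_X _ ij

theorem psi_C (a : A) : psi A n (MvPolynomial.C a) = Polynomial.C (MvPolynomial.C a) := by
  rw [← MvPolynomial.algebraMap_eq, AlgHom.commutes, Polynomial.algebraMap_apply]

theorem psi_det : psi A n (Matrix.mvPolynomialX (Fin n) (Fin n) A).det =
    (Matrix.mvPolynomialX (Fin n) (Fin n) A).charpoly := by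
  have hψM : (psi A n).mapMatrix (Matrix.mvPolynomialX (Fin n) (Fin n) A) =
      Matrix.charmatrix (Matrix.mvPolynomialX (Fin n) (Fin n) A) := by
    ext1 i j
    rw [AlgHom.mapMatrix_apply, Matrix.map_apply, Matrix.mvPolynomialX_apply, psi_X]
  rw [AlgHom.map_det, hψM]; rfl

theorem psi_injective : Function.Injective (psi A n) := by
  classical
  let ν : MvPolynomial (Fin n × Fin n) A →ₐ[A] MvPolynomial (Fin n × Fin n) A :=
    MvPolynomial.aeval (fun ij => - MvPolynomial.X ij)
  have hνX : ∀ ij, ν (MvPolynomial.X ij) = - MvPolynomial.X ij := fun ij =>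
    MvPolynomial.aeval_X _ ij
  have hνν : ∀ g, ν (ν g) = g := by
    intro g
    have : ν.comp ν = AlgHom.id A _ := by
      apply MvPolynomial.algHom_ext
      intro ij
      rw [AlgHom.comp_apply, hνX, map_neg, hνX, neg_neg]
      rfl
    exact congrArg (fun f => f g) this
  have hev : ∀ g : MvPolynomial (Fin n × Fin n) A, Polynomial.eval 0 (psi A n g) = ν g := by
    intro g
    have : ((Polynomial.evalRingHom (0 : MvPolynomial (Fin n × Fin n) A)).comp
        (psi A n).toRingHom) = ν.toRingHom := by
      apply MvPolynomial.ringHom_ext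
      · intro a
        show Polynomial.eval 0 (psi A n (MvPolynomial.C a)) = ν (MvPolynomial.C a)
        rw [psi_C, Polynomial.eval_C, ← MvPolynomial.algebraMap_eq, AlgHom.commutes]
      · intro ij
        show Polynomial.eval 0 (psi A n (MvPolynomial.X ij)) = ν (MvPolynomial.X ij)
        rw [psi_X, hνX, Matrix.charmatrix_apply, Polynomial.eval_sub, Polynomial.eval_C,
          Matrix.mvPolynomialX_apply]
        by_cases h : ij.1 = ij.2
        · obtain ⟨i, j⟩ := ij
          simp only at h
          subst h
          rw [Matrix.diagonal_apply_eq, Polynomial.eval_X, zero_sub]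
        · rw [Matrix.diagonal_apply_ne _ h, Polynomial.eval_zero, zero_sub]
    exact congrArg (fun f => f g) this
  intro g₁ g₂ h
  have h1 : ν g₁ = ν g₂ := by rw [← hev, ← hev, h]
  have h2 := congrArg ν h1
  rwa [hνν, hνν] at h2

theorem det_mem_nonZeroDivisors : (Matrix.mvPolynomialX (Fin n) (Fin n) A).det ∈
    nonZeroDivisors (MvPolynomial (Fin n × Fin n) A) := by
  rw [mem_nonZeroDivisors_iff_right]
  intro g hg
  apply psi_injective A n
  rw [map_zero]
  have : psi A n g * (Matrix.mvPolynomialX (Fin n) (Fin n) A).charpoly = 0 := by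
    rw [← psi_det, ← map_mul, hg, map_zero]
  exact (Matrix.charpoly_monic _).mul_left_eq_zero_iff.mp this

/-- If a constant equals a power of the generic determinant then the power is trivial. -/
theorem eq_zero_of_C_eq_det_pow [Nontrivial A] (hn : 0 < n) (a : A) (m : ℕ)
    (h : MvPolynomial.C a = (Matrix.mvPolynomialX (Fin n) (Fin n) A).det ^ m) : m = 0 := by
  have h1 := congrArg (psi A n) h
  rw [psi_C, map_pow, psi_det] at h1
  have h2 := congrArg Polynomial.natDegree h1
  rw [Polynomial.natDegree_C, (Matrix.charpoly_monic _).natDegree_pow,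
    Matrix.charpoly_natDegree_eq_dim, Fintype.card_fin] at h2
  rcases Nat.eq_zero_or_pos m with h0 | h0
  · exact h0
  · exfalso
    have : 0 < m * n := Nat.mul_pos h0 hn
    omega

end Groth.Agent.H5.DetGeneric
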