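import Mathlib
import Groth.Agent.Lib.helper5.DetGeneric

/-!
# The quotient `A[X_ij]/(det)` is faithfully flat over `A`

`A[X]/(det)` is an `A`-algebra retract of `A[X][T]/(charpoly X)`, which is free over `A[X]`.
-/

set_option autoImplicit false

universe u

namespace Groth.Agent.H5.DetGeneric

variable (A : Type u) [CommRing A] (n : ℕ)

/-- The involution `X ↦ -X`. -/
noncomputable def nu : MvPolynomial (Fin n × Fin n) A →ₐ[A] MvPolynomial (Fin n × Fin n) A :=
  MvPolynomial.aeval (fun ij => - MvPolynomial.X ij)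

theorem nu_X (ij : Fin n × Fin n) : nu A n (MvPolynomial.X ij) = - MvPolynomial.X ij :=
  MvPolynomial.aeval_X _ ij

theorem nu_nu (g : MvPolynomial (Fin n × Fin n) A) : nu A n (nu A n g) = g := by
  have : (nu A n).comp (nu A n) = AlgHom.id A _ := by
    apply MvPolynomial.algHom_ext
    intro ij
    rw [AlgHom.comp_apply, nu_X, map_neg, nu_X, neg_neg]
    rfl
  exact congrArg (fun f => f g) this

theorem eval_zero_psi (g : MvPolynomial (Fin n × Fin n) A) :
    Polynomial.eval 0 (psi A n g) = nu A n g := by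
  classical
  have : ((Polynomial.evalRingHom (0 : MvPolynomial (Fin n × Fin n) A)).comp
      (psi A n).toRingHom) = (nu A n).toRingHom := by
    apply MvPolynomial.ringHom_ext
    · intro a
      show Polynomial.eval 0 (psi A n (MvPolynomial.C a)) = nu A n (MvPolynomial.C a)
      rw [psi_C, Polynomial.eval_C, ← MvPolynomial.algebraMap_eq, AlgHom.commutes]
    · intro ij
      show Polynomial.eval 0 (psi A n (MvPolynomial.X ij)) = nu A n (MvPolynomial.X ij)
      rw [psi_X, nu_X, Matrix.charmatrix_apply, Polynomial.eval_sub, Polynomial.eval_C,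
        Matrix.mvPolynomialX_apply]
      by_cases h : ij.1 = ij.2
      · obtain ⟨i, j⟩ := ij
        simp only at h
        subst h
        rw [Matrix.diagonal_apply_eq, Polynomial.eval_X, zero_sub]
      · rw [Matrix.diagonal_apply_ne _ h, Polynomial.eval_zero, zero_sub]
  exact congrArg (fun f => f g) this

theorem flat_quotient_det : Module.Flat A
    (MvPolynomial (Fin n × Fin n) A ⧸
      Ideal.span {(Matrix.mvPolynomialX (Fin n) (Fin n) A).det}) := by
  classical
  let B := MvPolynomial (Fin n × Fin n) A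
  let det : B := (Matrix.mvPolynomialX (Fin n) (Fin n) A).det
  let cp : Polynomial B := (Matrix.mvPolynomialX (Fin n) (Fin n) A).charpoly
  have hcp : cp.Monic := Matrix.charpoly_monic _
  let T' := Polynomial B ⧸ Ideal.span {cp}
  have : Module.Free B T' := hcp.free_quotient
  have : Module.Flat A T' := Module.Flat.trans A B T'
  -- the maps
  have hle : Ideal.span {det} ≤ (Ideal.span {cp}).comap (psi A n) := by
    rw [Ideal.span_le, Set.singleton_subset_iff]
    show psi A n det ∈ Ideal.span {cp}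
    rw [psi_det]
    exact Ideal.subset_span rfl
  let i : (B ⧸ Ideal.span {det}) →ₐ[A] T' := Ideal.quotientMapₐ (Ideal.span {cp}) (psi A n) hle
  let ev0 : Polynomial B →ₐ[A] B := (Polynomial.aeval (0 : B)).restrictScalars A
  let ρ : Polynomial B →ₐ[A] (B ⧸ Ideal.span {det}) :=
    ((Ideal.Quotient.mkₐ A (Ideal.span {det})).comp (nu A n)).comp ev0
  have hρψ : ∀ b : B, ρ (psi A n b) = Ideal.Quotient.mk _ b := by
    intro b
    show Ideal.Quotient.mk _ (nu A n (Polynomial.aeval (0 : B) (psi A n b))) = _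
    rw [Polynomial.coe_aeval_eq_eval, eval_zero_psi, nu_nu]
  have hρ : ∀ a ∈ Ideal.span {cp}, ρ a = 0 := by
    intro a ha
    obtain ⟨c, rfl⟩ := Ideal.mem_span_singleton'.mp ha
    rw [map_mul]
    have : ρ cp = 0 := by
      show ρ (Matrix.mvPolynomialX (Fin n) (Fin n) A).charpoly = 0
      rw [← psi_det, hρψ]
      exact Ideal.Quotient.eq_zero_iff_mem.mpr (Ideal.subset_span rfl)
    rw [this, mul_zero]
  let r : T' →ₐ[A] (B ⧸ Ideal.span {det}) := Ideal.Quotient.liftₐ (Ideal.span {cp}) ρ hρ
  refine Module.Flat.of_retract i.toLinearMap r.toLinearMap ?_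
  ext x
  obtain ⟨b, rfl⟩ := Ideal.Quotient.mk_surjective x
  show r (i (Ideal.Quotient.mk _ b)) = Ideal.Quotient.mk _ b
  have h1 : i (Ideal.Quotient.mk _ b) = Ideal.Quotient.mk _ (psi A n b) := rfl
  rw [h1]
  show ρ (psi A n b) = _
  exact hρψ b

theorem faithfullyFlat_quotient_det (hn : 0 < n) : Module.FaithfullyFlat A
    (MvPolynomial (Fin n × Fin n) A ⧸
      Ideal.span {(Matrix.mvPolynomialX (Fin n) (Fin n) A).det}) := by
  classical
  have := flat_quotient_det A n
  refine ⟨?_⟩
  intro m hm htop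
  -- the augmentation `X ↦ 0`
  let ε₀ : MvPolynomial (Fin n × Fin n) A →ₐ[A] A := MvPolynomial.aeval (fun _ => (0 : A))
  have hε₀ : ∀ a ∈ Ideal.span {(Matrix.mvPolynomialX (Fin n) (Fin n) A).det}, ε₀ a = 0 := by
    intro a ha
    obtain ⟨c, rfl⟩ := Ideal.mem_span_singleton'.mp ha
    rw [map_mul]
    have : ε₀ (Matrix.mvPolynomialX (Fin n) (Fin n) A).det = 0 := by
      rw [AlgHom.map_det]
      have : ε₀.mapMatrix (Matrix.mvPolynomialX (Fin n) (Fin n) A) = 0 := by
        ext i j
        simp [ε₀, Matrix.mvPolynomialX_apply]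
      rw [this]
      have : Nonempty (Fin n) := ⟨⟨0, hn⟩⟩
      exact Matrix.det_zero
    rw [this, mul_zero]
  let ε : (MvPolynomial (Fin n × Fin n) A ⧸
      Ideal.span {(Matrix.mvPolynomialX (Fin n) (Fin n) A).det}) →ₐ[A] A :=
    Ideal.Quotient.liftₐ _ ε₀ hε₀
  have h1 : (1 : MvPolynomial (Fin n × Fin n) A ⧸
      Ideal.span {(Matrix.mvPolynomialX (Fin n) (Fin n) A).det}) ∈
      m • (⊤ : Submodule A _) := by rw [htop]; trivial
  have h2 : ∀ x ∈ m • (⊤ : Submodule A (MvPolynomial (Fin n × Fin n) A ⧸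
      Ideal.span {(Matrix.mvPolynomialX (Fin n) (Fin n) A).det})), ε x ∈ m := by
    intro x hx
    refine Submodule.smul_induction_on hx ?_ ?_
    · intro r hr y _
      rw [map_smul, smul_eq_mul]
      exact m.mul_mem_right _ hr
    · intro x y hx hy
      rw [map_add]; exact m.add_mem hx hy
  have h3 := h2 1 h1
  rw [map_one] at h3
  exact hm.ne_top ((Ideal.eq_top_iff_one m).mpr h3)

end Groth.Agent.H5.DetGeneric
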