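import Mathlib

/-!
# The generic determinant is irreducible

Weighted degrees are realised by the algebra map `psiW w : x_v ↦ x_v * T ^ (w v)` into the
polynomial ring in `T`; they are additive on products, and the generic determinant has weighted
degree one for the indicator weights of a row or a column.
-/

set_option autoImplicit false

universe u

namespace Groth.Agent.H5.DetIrred

open MvPolynomial

variable {k : Type u} [Field k] {σ : Type*}

/-- `x_v ↦ x_v * T ^ (w v)`. -/
noncomputable def psiW (w : σ → ℕ) : MvPolynomial σ k →ₐ[k] Polynomial (MvPolynomial σ k) :=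
  MvPolynomial.aeval (fun v => Polynomial.C (MvPolynomial.X v) * Polynomial.X ^ (w v))

@[simp] lemma psiW_X (w : σ → ℕ) (v : σ) :
    psiW (k := k) w (X v) = Polynomial.C (X v) * Polynomial.X ^ (w v) := by
  simp [psiW]

/-- kill the variables of positive weight -/
noncomputable def piW (w : σ → ℕ) : MvPolynomial σ k →ₐ[k] MvPolynomial σ k :=
  MvPolynomial.aeval (fun v => if w v = 0 then (X v : MvPolynomial σ k) else 0)

lemma eval_one_psiW (w : σ → ℕ) (p : MvPolynomial σ k) :
    Polynomial.eval 1 (psiW w p) = p := by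
  have h : ((Polynomial.aeval (1 : MvPolynomial σ k)).restrictScalars k).comp (psiW w) =
      AlgHom.id k (MvPolynomial σ k) := by
    apply MvPolynomial.algHom_ext
    intro v
    simp
  have := congrArg (fun f => f p) h
  simpa [Polynomial.coe_aeval_eq_eval] using this

lemma eval_zero_psiW (w : σ → ℕ) (p : MvPolynomial σ k) :
    Polynomial.eval 0 (psiW w p) = piW w p := by
  have h : ((Polynomial.aeval (0 : MvPolynomial σ k)).restrictScalars k).comp (psiW w) =
      piW w := by
    apply MvPolynomial.algHom_ext
    intro v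
    by_cases hv : w v = 0
    · simp [piW, hv]
    · simp [piW, hv]
  have := congrArg (fun f => f p) h
  simpa [Polynomial.coe_aeval_eq_eval] using this

lemma psiW_injective (w : σ → ℕ) : Function.Injective (psiW (k := k) w) := by
  intro p q h
  rw [← eval_one_psiW w p, ← eval_one_psiW w q, h]

lemma natDegree_psiW_mul (w : σ → ℕ) {f g : MvPolynomial σ k} (hf : f ≠ 0) (hg : g ≠ 0) :
    (psiW w (f * g)).natDegree = (psiW w f).natDegree + (psiW w g).natDegree := by
  rw [map_mul, Polynomial.natDegree_mul]
  · exact fun h => hf (psiW_injective w (by rw [h, map_zero]))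
  · exact fun h => hg (psiW_injective w (by rw [h, map_zero]))

lemma weight_eq_zero_of_mem_vars [DecidableEq σ] (w : σ → ℕ) (p : MvPolynomial σ k)
    (h : (psiW w p).natDegree = 0) : ∀ v ∈ p.vars, w v = 0 := by
  intro v hv
  obtain ⟨c, hc⟩ : ∃ c, psiW w p = Polynomial.C c :=
    ⟨_, Polynomial.eq_C_of_natDegree_eq_zero h⟩
  have h1 : p = c := by
    rw [← eval_one_psiW w p, hc, Polynomial.eval_C]
  have h0 : piW w p = c := by
    rw [← eval_zero_psiW w p, hc, Polynomial.eval_C]
  have hp : p = piW w p := by rw [h0, ← h1]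
  rw [hp] at hv
  have hsub := MvPolynomial.vars_bind₁
    (fun v => if w v = 0 then (X v : MvPolynomial σ k) else 0) p
  have hv' := hsub hv
  rw [Finset.mem_biUnion] at hv'
  obtain ⟨u, -, hu⟩ := hv'
  by_cases hwu : w u = 0
  · simp only [hwu, if_true, MvPolynomial.vars_X, Finset.mem_singleton] at hu
    rw [hu]; exact hwu
  · simp only [hwu, if_false, MvPolynomial.vars_0, Finset.notMem_empty] at hu

variable {m : Type*} [Fintype m] [DecidableEq m]

lemma natDegree_psiW_det_row (i : m) :
    (psiW (k := k) (fun v : m × m => if v.1 = i then 1 else 0)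
      (Matrix.mvPolynomialX m m k).det).natDegree = 1 := by
  have h1 : (psiW (k := k) (fun v : m × m => if v.1 = i then 1 else 0)).mapMatrix
      (Matrix.mvPolynomialX m m k) =
      Matrix.diagonal (fun a : m => (Polynomial.X : Polynomial (MvPolynomial (m × m) k)) ^
        (if a = i then 1 else 0)) *
        (Polynomial.C : MvPolynomial (m × m) k →+* _).mapMatrix (Matrix.mvPolynomialX m m k) := by
    ext a b : 1
    rw [Matrix.diagonal_mul]
    simp only [AlgHom.mapMatrix_apply, RingHom.mapMatrix_apply, Matrix.map_apply,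
      Matrix.mvPolynomialX_apply, psiW_X]
    rw [mul_comm]
  rw [AlgHom.map_det, h1, Matrix.det_mul, Matrix.det_diagonal, ← RingHom.map_det,
    Finset.prod_pow_eq_pow_sum, Finset.sum_ite_eq' Finset.univ i, if_pos (Finset.mem_univ i),
    pow_one, mul_comm]
  exact Polynomial.natDegree_C_mul_X _ (Matrix.det_mvPolynomialX_ne_zero m k)

lemma natDegree_psiW_det_col (j : m) :
    (psiW (k := k) (fun v : m × m => if v.2 = j then 1 else 0)
      (Matrix.mvPolynomialX m m k).det).natDegree = 1 := by
  have h1 : (psiW (k := k) (fun v : m × m => if v.2 = j then 1 else 0)).mapMatrix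
      (Matrix.mvPolynomialX m m k) =
      (Polynomial.C : MvPolynomial (m × m) k →+* _).mapMatrix (Matrix.mvPolynomialX m m k) *
      Matrix.diagonal (fun a : m => (Polynomial.X : Polynomial (MvPolynomial (m × m) k)) ^
        (if a = j then 1 else 0)) := by
    ext a b : 1
    rw [Matrix.mul_diagonal]
    simp only [AlgHom.mapMatrix_apply, RingHom.mapMatrix_apply, Matrix.map_apply,
      Matrix.mvPolynomialX_apply, psiW_X]
  rw [AlgHom.map_det, h1, Matrix.det_mul, Matrix.det_diagonal, ← RingHom.map_det,
    Finset.prod_pow_eq_pow_sum, Finset.sum_ite_eq' Finset.univ j, if_pos (Finset.mem_univ j),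
    pow_one]
  exact Polynomial.natDegree_C_mul_X _ (Matrix.det_mvPolynomialX_ne_zero m k)

/-- every variable occurs in the generic determinant -/
lemma mem_vars_det (i j : m) : (i, j) ∈ (Matrix.mvPolynomialX m m k).det.vars := by
  by_contra hnot
  let M : Matrix m m k := (Equiv.swap i j).permMatrix k
  have hMi : M i = Pi.single j 1 := by
    have := PEquiv.toMatrix_toPEquiv_apply (α := k) (Equiv.swap i j) i
    rw [Equiv.swap_apply_left] at this
    exact this
  let Q : k → Matrix m m k := fun t => Matrix.updateRow M i (t • M i)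
  have hQdet : ∀ t, (Q t).det = t * M.det := by
    intro t
    rw [Matrix.det_updateRow_smul, Matrix.updateRow_eq_self]
  have hMdet : M.det ≠ 0 := by
    rw [Matrix.det_permutation]
    rcases Int.units_eq_one_or (Equiv.Perm.sign (Equiv.swap i j)) with h | h <;> rw [h] <;> simp
  have hQ : ∀ (t : k) (a b : m), (a, b) ≠ (i, j) → Q t a b = M a b := by
    intro t a b hab
    by_cases ha : a = i
    · subst ha
      have hb : b ≠ j := fun h => hab (by rw [h])
      simp [Q, Matrix.updateRow_self, hMi, Pi.single_apply, hb]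
    · simp [Q, Matrix.updateRow_ne ha]
  have heq : MvPolynomial.eval (fun v : m × m => Q 1 v.1 v.2) (Matrix.mvPolynomialX m m k).det =
      MvPolynomial.eval (fun v : m × m => Q 0 v.1 v.2) (Matrix.mvPolynomialX m m k).det := by
    apply MvPolynomial.hom_congr_vars
    · ext c; simp
    · intro v hv _
      have hv' : v ≠ (i, j) := fun h => hnot (h ▸ hv)
      simp only [MvPolynomial.eval_X]
      rw [hQ 1 v.1 v.2 hv', hQ 0 v.1 v.2 hv']
    · rfl
  rw [Matrix.eval_det_mvPolynomialX, Matrix.eval_det_mvPolynomialX] at heq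
  have e1 : (Matrix.of fun a b : m => Q 1 (a, b).1 (a, b).2) = Q 1 := rfl
  have e0 : (Matrix.of fun a b : m => Q 0 (a, b).1 (a, b).2) = Q 0 := rfl
  rw [e1, e0, hQdet, hQdet, one_mul, zero_mul] at heq
  exact hMdet heq

theorem irreducible_det [Nonempty m] : Irreducible (Matrix.mvPolynomialX m m k).det := by
  classical
  have hdet0 : (Matrix.mvPolynomialX m m k).det ≠ 0 := Matrix.det_mvPolynomialX_ne_zero m k
  have hunit : ∀ f : MvPolynomial (m × m) k, f ≠ 0 → f.vars = ∅ → IsUnit f := by
    intro f hf hv
    rw [MvPolynomial.vars_eq_empty_iff_eq_C] at hv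
    rw [hv]
    have hc : f.coeff 0 ≠ 0 := by
      intro h
      rw [h, map_zero] at hv
      exact hf hv
    exact (IsUnit.mk0 _ hc).map MvPolynomial.C
  rw [irreducible_iff]
  constructor
  · intro hu
    obtain ⟨i⟩ := ‹Nonempty m›
    have h1 := mem_vars_det (k := k) i i
    obtain ⟨c, hc, hcd⟩ := (MvPolynomial.isUnit_iff_eq_C_of_isReduced).mp hu
    rw [hcd, MvPolynomial.vars_C] at h1
    exact Finset.notMem_empty _ h1
  · intro f g hfg
    have hf0 : f ≠ 0 := fun h => hdet0 (by rw [hfg, h, zero_mul])
    have hg0 : g ≠ 0 := fun h => hdet0 (by rw [hfg, h, mul_zero])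
    by_contra hcon
    push Not at hcon
    obtain ⟨hfu, hgu⟩ := hcon
    have hfv : f.vars.Nonempty := by
      rw [Finset.nonempty_iff_ne_empty]
      exact fun h => hfu (hunit f hf0 h)
    have hgv : g.vars.Nonempty := by
      rw [Finset.nonempty_iff_ne_empty]
      exact fun h => hgu (hunit g hg0 h)
    obtain ⟨⟨i, j⟩, hij⟩ := hfv
    obtain ⟨⟨i', j'⟩, hij'⟩ := hgv
    -- row i
    have hrow := natDegree_psiW_det_row (k := k) i
    rw [hfg, natDegree_psiW_mul _ hf0 hg0] at hrow
    have hfrow : (psiW (fun v : m × m => if v.1 = i then 1 else 0) f).natDegree ≠ 0 := by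
      intro h
      have := weight_eq_zero_of_mem_vars _ f h (i, j) hij
      simp at this
    have hgrow : (psiW (fun v : m × m => if v.1 = i then 1 else 0) g).natDegree = 0 := by omega
    -- column j'
    have hcol := natDegree_psiW_det_col (k := k) j'
    rw [hfg, natDegree_psiW_mul _ hf0 hg0] at hcol
    have hgcol : (psiW (fun v : m × m => if v.2 = j' then 1 else 0) g).natDegree ≠ 0 := by
      intro h
      have := weight_eq_zero_of_mem_vars _ g h (i', j') hij'
      simp at this
    have hfcol : (psiW (fun v : m × m => if v.2 = j' then 1 else 0) f).natDegree = 0 := by omega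
    have hmem := mem_vars_det (k := k) i j'
    rw [hfg] at hmem
    rcases Finset.mem_union.mp (MvPolynomial.vars_mul f g hmem) with h | h
    · have := weight_eq_zero_of_mem_vars _ f hfcol (i, j') h
      simp at this
    · have := weight_eq_zero_of_mem_vars _ g hgrow (i, j') h
      simp at this

end Groth.Agent.H5.DetIrred
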