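import Groth.Agent.Lib.helper5.DiffOp

/-!
Differential operators and formally unramified/étale extensions (helper5).
-/

set_option autoImplicit false

namespace Groth.Agent.H5.DiffOp

universe u

open Diff16

section unram
variable (S S' : Type u) [CommRing S] [CommRing S'] [Algebra S S']
  [Algebra.FormallyUnramified S S']

lemma ideal_isIdempotentElem : IsIdempotentElem (KaehlerDifferential.ideal S S') := by
  rw [← Ideal.cotangent_subsingleton_iff]
  exact (inferInstance : Subsingleton (Ω[S'⁄S]))

lemma ideal_pow_succ_eq (n : ℕ) :
    (KaehlerDifferential.ideal S S') ^ (n + 1) = KaehlerDifferential.ideal S S' := by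
  induction n with
  | zero => simp
  | succ n ih => rw [pow_succ, ih]; exact ideal_isIdempotentElem S S'

/-- U1: over a formally unramified extension, differential operators out of the ring are linear. -/
theorem isDiffOpLE_zero_of_unramified_self (N : Type u) [AddCommGroup N] [Module S N] [Module S' N]
    [IsScalarTower S S' N] (k : ℕ) (D : S' →ₗ[S] N) (h : IsDiffOpLE S S' S' N k D) :
    IsDiffOpLE S S' S' N 0 D := by
  rw [isDiffOpLE_iff_linearize] at h ⊢
  rw [ideal_pow_succ_eq] at h ⊢
  exact h

/-- U2: over a formally unramified extension, differential operators are linear. -/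
theorem isDiffOpLE_zero_of_unramified (M N : Type u) [AddCommGroup M] [Module S M] [Module S' M]
    [IsScalarTower S S' M] [AddCommGroup N] [Module S N] [Module S' N]
    [IsScalarTower S S' N] (k : ℕ) (D : M →ₗ[S] N) (h : IsDiffOpLE S S' M N k D) :
    IsDiffOpLE S S' M N 0 D := by
  intro b m
  have h1 : IsDiffOpLE S S' S' M 0 ((LinearMap.toSpanSingleton S' M m).restrictScalars S) := by
    intro c x
    simp [mul_smul]
  have h2 := isDiffOpLE_comp S S' S' M N k 0 k (by simp) _ _ h1 h
  have h3 := isDiffOpLE_zero_of_unramified_self S S' N k _ h2
  have := h3 b 1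
  simpa using this

end unram

section tower
variable (R S S' : Type u) [CommRing R] [CommRing S] [CommRing S'] [Algebra R S] [Algebra R S']
  [Algebra S S'] [IsScalarTower R S S']
variable (M N : Type u) [AddCommGroup M] [Module R M] [Module S M] [Module S' M]
  [IsScalarTower R S' M] [IsScalarTower S S' M]
  [AddCommGroup N] [Module R N] [Module S N] [Module S' N]
  [IsScalarTower R S' N] [IsScalarTower S S' N]

/-- An `R`-linear map which happens to be `S`-linear. -/
def mkS (D : M →ₗ[R] N) (hS : ∀ (s : S) (m : M), D (s • m) = s • D m) : M →ₗ[S] N :=
  { toFun := D, map_add' := D.map_add, map_smul' := hS }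

omit [IsScalarTower R S S'] [IsScalarTower R S' M] [IsScalarTower S S' M] [IsScalarTower R S' N]
  [IsScalarTower S S' N] [Module S' M] [Module S' N] [Algebra S S'] [Algebra R S'] in
@[simp] lemma mkS_apply (D : M →ₗ[R] N) (hS : ∀ (s : S) (m : M), D (s • m) = s • D m) (m : M) :
    mkS R S M N D hS m = D m := rfl

lemma commutator_slinear (D : M →ₗ[R] N) (hS : ∀ (s : S) (m : M), D (s • m) = s • D m) (b : S')
    (s : S) (m : M) :
    commutator R S' M N D b (s • m) = s • commutator R S' M N D b m := by
  simp only [commutator_apply]
  rw [smul_comm b s m, hS, hS, smul_sub, smul_comm b s]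

theorem isDiffOpLE_mkS (k : ℕ) : ∀ (D : M →ₗ[R] N) (hS : ∀ (s : S) (m : M), D (s • m) = s • D m),
    IsDiffOpLE R S' M N k D → IsDiffOpLE S S' M N k (mkS R S M N D hS) := by
  induction k with
  | zero => intro D hS h b m; exact h b m
  | succ k ih =>
    intro D hS h b
    have : commutator S S' M N (mkS R S M N D hS) b =
        mkS R S M N (commutator R S' M N D b) (commutator_slinear R S S' M N D hS b) := by
      ext m; simp
    rw [this]
    exact ih _ _ (h b)

/-- C(k): over a formally unramified `S → S'`, an `R`-differential operator on an `S'`-module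
which vanishes on an `S`-stable generating set is zero. -/
theorem eq_zero_of_vanish_on_generators [Algebra.FormallyUnramified S S'] (G : Set M)
    (hG : ∀ (s : S), ∀ g ∈ G, s • g ∈ G) (hspan : Submodule.span S' G = ⊤) (k : ℕ) :
    ∀ (D : M →ₗ[R] N), IsDiffOpLE R S' M N k D → (∀ g ∈ G, D g = 0) → D = 0 := by
  induction k with
  | zero =>
    intro D h h0
    ext m
    have hm : m ∈ Submodule.span S' G := by rw [hspan]; trivial
    induction hm using Submodule.span_induction with
    | mem x hx => simpa using h0 x hx
    | zero => simp
    | add x y _ _ hx hy => rw [map_add, hx, hy]; simp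
    | smul a x _ hx => rw [h a x, hx]; simp
  | succ k ih =>
    intro D h h0
    have hS : ∀ (s : S) (m : M), D (s • m) = s • D m := by
      intro s m
      have hc : commutator R S' M N D (algebraMap S S' s) = 0 := by
        apply ih _ (h _)
        intro g hg
        simp only [commutator_apply, algebraMap_smul]
        rw [h0 g hg, h0 _ (hG s g hg)]
        simp
      have := LinearMap.congr_fun hc m
      simp only [commutator_apply, algebraMap_smul, LinearMap.zero_apply] at this
      exact sub_eq_zero.mp this
    have h1 := isDiffOpLE_mkS R S S' M N (k + 1) D hS h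
    have h2 := isDiffOpLE_zero_of_unramified S S' M N (k + 1) _ h1
    ext m
    have hm : m ∈ Submodule.span S' G := by rw [hspan]; trivial
    induction hm using Submodule.span_induction with
    | mem x hx => simpa using h0 x hx
    | zero => simp
    | add x y _ _ hx hy => rw [map_add, hx, hy]; simp
    | smul a x _ hx =>
      have := h2 a x
      simp only [mkS_apply] at this
      rw [this, hx]; simp

end tower

section restrict
variable (R S S' : Type u) [CommRing R] [CommRing S] [CommRing S'] [Algebra R S] [Algebra R S']
  [Algebra S S'] [IsScalarTower R S S']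
variable (M M' N : Type u) [AddCommGroup M] [Module R M] [Module S M] [IsScalarTower R S M]
  [AddCommGroup M'] [Module R M'] [Module S M'] [Module S' M']
  [IsScalarTower R S' M'] [IsScalarTower S S' M'] [IsScalarTower R S M']
  [AddCommGroup N] [Module R N] [Module S N] [Module S' N]
  [IsScalarTower R S' N] [IsScalarTower S S' N] [IsScalarTower R S N]

/-- Restricting a differential operator relative to `R → S'` along an `S`-linear map. -/
theorem isDiffOpLE_restrict (g : M →ₗ[S] M') (k : ℕ) : ∀ (D : M' →ₗ[R] N),
    IsDiffOpLE R S' M' N k D → IsDiffOpLE R S M N k (D ∘ₗ g.restrictScalars R) := by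
  induction k with
  | zero =>
    intro D h s m
    have := h (algebraMap S S' s) (g m)
    simpa using this
  | succ k ih =>
    intro D h s
    have : commutator R S M N (D ∘ₗ g.restrictScalars R) s =
        commutator R S' M' N D (algebraMap S S' s) ∘ₗ g.restrictScalars R := by
      ext m; simp
    rw [this]
    exact ih _ (h _)

end restrict

end Groth.Agent.H5.DiffOp
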