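import Mathlib

/-! # Formally étale algebras and infinitesimal neighbourhoods of a section -/

namespace Groth.Agent.H5.FEtQuot

universe u

variable (R : Type u) [CommRing R] (S : Type u) [CommRing S] [Algebra R S]

/-- The comparison map `R/(J ∩ R)ⁿ → S/Jⁿ`. -/
noncomputable abbrev φ (J : Ideal S) (n : ℕ) :
    R ⧸ (J.comap (algebraMap R S)) ^ n →+* S ⧸ J ^ n :=
  Ideal.quotientMap (J ^ n) (algebraMap R S)
    (le_of_le_of_eq (Ideal.le_comap_pow (algebraMap R S) n) rfl :
      (J.comap (algebraMap R S)) ^ n ≤ (J ^ n).comap (algebraMap R S))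

variable {R S}

theorem bijective_φ [Algebra.FormallyEtale R S] (J : Ideal S)
    (hJ : Function.Surjective (algebraMap R (S ⧸ J))) (n : ℕ) :
    Function.Bijective (φ R S J n) := by
  classical
  rcases Nat.eq_zero_or_pos n with rfl | hn
  · have h1 : Subsingleton (R ⧸ (J.comap (algebraMap R S)) ^ 0) := by
      rw [Ideal.Quotient.subsingleton_iff, pow_zero, Ideal.one_eq_top]
    have h2 : Subsingleton (S ⧸ J ^ 0) := by
      rw [Ideal.Quotient.subsingleton_iff, pow_zero, Ideal.one_eq_top]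
    exact ⟨fun a b _ => Subsingleton.elim a b, fun y => ⟨0, Subsingleton.elim _ _⟩⟩
  set I : Ideal R := J.comap (algebraMap R S) with hI
  have hImem : ∀ a : R, a ∈ I ↔ algebraMap R (S ⧸ J) a = 0 := by
    intro a
    rw [hI, Ideal.mem_comap, IsScalarTower.algebraMap_apply R S (S ⧸ J),
      Ideal.Quotient.algebraMap_eq, Ideal.Quotient.eq_zero_iff_mem]
  -- the `R`-algebra map `g : R/Iⁿ → S/J`
  have hIn : ∀ a ∈ I ^ n, (Algebra.ofId R (S ⧸ J)) a = 0 := by
    intro a ha
    have ha' : a ∈ I := Ideal.pow_le_self (Nat.pos_iff_ne_zero.mp hn) ha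
    exact (hImem a).mp ha'
  let g : (R ⧸ I ^ n) →ₐ[R] S ⧸ J := Ideal.Quotient.liftₐ (I ^ n) (Algebra.ofId R (S ⧸ J)) hIn
  have hg_mk : ∀ r : R, g (Ideal.Quotient.mk (I ^ n) r) = algebraMap R (S ⧸ J) r := fun r => rfl
  have hgsurj : Function.Surjective g := by
    intro y
    obtain ⟨r, rfl⟩ := hJ y
    exact ⟨Ideal.Quotient.mk _ r, hg_mk r⟩
  have hker : RingHom.ker (g : (R ⧸ I ^ n) →+* S ⧸ J) = I.map (Ideal.Quotient.mk (I ^ n)) := by
    apply le_antisymm
    · intro x hx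
      obtain ⟨r, rfl⟩ := Ideal.Quotient.mk_surjective x
      rw [RingHom.mem_ker] at hx
      have : algebraMap R (S ⧸ J) r = 0 := hx
      exact Ideal.mem_map_of_mem _ ((hImem r).mpr this)
    · rw [Ideal.map_le_iff_le_comap]
      intro r hr
      rw [Ideal.mem_comap, RingHom.mem_ker]
      exact (hImem r).mp hr
  have hkernil : IsNilpotent (RingHom.ker (g : (R ⧸ I ^ n) →+* S ⧸ J)) := by
    refine ⟨n, ?_⟩
    rw [hker, ← Ideal.map_pow, Ideal.zero_eq_bot, Ideal.map_quotient_self]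
  -- the lift `ψ : S → R/Iⁿ`
  let ψ : S →ₐ[R] R ⧸ I ^ n :=
    Algebra.FormallySmooth.liftOfSurjective (Ideal.Quotient.mkₐ R J) g hgsurj hkernil
  have hψ : ∀ s, g (ψ s) = Ideal.Quotient.mk J s := fun s =>
    Algebra.FormallySmooth.liftOfSurjective_apply (Ideal.Quotient.mkₐ R J) g hgsurj hkernil s
  have hψJ : J.map (ψ : S →+* R ⧸ I ^ n) ≤ RingHom.ker (g : (R ⧸ I ^ n) →+* S ⧸ J) := by
    rw [Ideal.map_le_iff_le_comap]
    intro s hs
    rw [Ideal.mem_comap, RingHom.mem_ker]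
    have := hψ s
    rw [Ideal.Quotient.eq_zero_iff_mem.mpr hs] at this
    exact this
  have hψJn : ∀ s ∈ J ^ n, ψ s = 0 := by
    intro s hs
    have h1 : ψ s ∈ (J ^ n).map (ψ : S →+* R ⧸ I ^ n) := Ideal.mem_map_of_mem _ hs
    rw [Ideal.map_pow] at h1
    have h2 := Ideal.pow_right_mono hψJ n h1
    rw [hker, ← Ideal.map_pow, Ideal.map_quotient_self] at h2
    exact h2
  let ψb : (S ⧸ J ^ n) →ₐ[R] R ⧸ I ^ n := Ideal.Quotient.liftₐ (J ^ n) ψ hψJn
  have hψb_mk : ∀ s, ψb (Ideal.Quotient.mk (J ^ n) s) = ψ s := fun s => rfl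
  have hφ_mk : ∀ r : R, φ R S J n (Ideal.Quotient.mk (I ^ n) r) =
      Ideal.Quotient.mk (J ^ n) (algebraMap R S r) := fun r => rfl
  constructor
  · -- injective: `ψb ∘ φ = id`
    apply Function.LeftInverse.injective (g := ψb)
    intro x
    obtain ⟨r, rfl⟩ := Ideal.Quotient.mk_surjective x
    rw [hφ_mk, hψb_mk, AlgHom.commutes]
    rfl
  · -- surjective: `φ ∘ ψb = id` by formal unramifiedness
    let g₁ : S →ₐ[R] S ⧸ J ^ n :=
      { toRingHom := (φ R S J n).comp (ψ : S →+* R ⧸ I ^ n)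
        commutes' := fun r => by
          show φ R S J n (ψ (algebraMap R S r)) = _
          rw [AlgHom.commutes]
          rfl }
    let g₂ : S →ₐ[R] S ⧸ J ^ n := Ideal.Quotient.mkₐ R (J ^ n)
    have hφker : (I.map (Ideal.Quotient.mk (I ^ n))).map (φ R S J n) ≤
        J.map (Ideal.Quotient.mk (J ^ n)) := by
      rw [Ideal.map_map, Ideal.map_le_iff_le_comap]
      intro r hr
      rw [Ideal.mem_comap]
      show φ R S J n (Ideal.Quotient.mk (I ^ n) r) ∈ _
      rw [hφ_mk]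
      exact Ideal.mem_map_of_mem _ hr
    have hnil : IsNilpotent (J.map (Ideal.Quotient.mk (J ^ n))) := by
      refine ⟨n, ?_⟩
      rw [← Ideal.map_pow, Ideal.zero_eq_bot, Ideal.map_quotient_self]
    have heq : g₁ = g₂ := by
      refine Algebra.FormallyUnramified.ext (J.map (Ideal.Quotient.mk (J ^ n))) hnil ?_
      intro s
      rw [Ideal.Quotient.eq]
      obtain ⟨r, hr⟩ := hJ (Ideal.Quotient.mk J s)
      -- `ψ s - mk r ∈ ker g`
      have h1 : ψ s - Ideal.Quotient.mk (I ^ n) r ∈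
          RingHom.ker (g : (R ⧸ I ^ n) →+* S ⧸ J) := by
        rw [RingHom.mem_ker, map_sub]
        have : g (Ideal.Quotient.mk (I ^ n) r) = algebraMap R (S ⧸ J) r := hg_mk r
        show g (ψ s) - g (Ideal.Quotient.mk (I ^ n) r) = 0
        rw [hψ s, this, hr, sub_self]
      rw [hker] at h1
      have h2 : φ R S J n (ψ s - Ideal.Quotient.mk (I ^ n) r) ∈
          J.map (Ideal.Quotient.mk (J ^ n)) := hφker (Ideal.mem_map_of_mem _ h1)
      have h3 : algebraMap R S r - s ∈ J := by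
        rw [← Ideal.Quotient.eq, ← hr]
        rfl
      have h4 : Ideal.Quotient.mk (J ^ n) (algebraMap R S r - s) ∈
          J.map (Ideal.Quotient.mk (J ^ n)) := Ideal.mem_map_of_mem _ h3
      have h5 : g₁ s - g₂ s = φ R S J n (ψ s - Ideal.Quotient.mk (I ^ n) r) +
          Ideal.Quotient.mk (J ^ n) (algebraMap R S r - s) := by
        show φ R S J n (ψ s) - Ideal.Quotient.mk (J ^ n) s = _
        rw [map_sub, map_sub, hφ_mk]
        ring
      rw [h5]
      exact Ideal.add_mem _ h2 h4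
    intro y
    obtain ⟨s, rfl⟩ := Ideal.Quotient.mk_surjective y
    refine ⟨ψ s, ?_⟩
    have := AlgHom.congr_fun heq s
    exact this

end Groth.Agent.H5.FEtQuot
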