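import Mathlib
import Groth.Agent.Lib.helper5.FEtQuot

open TensorProduct

universe u

namespace Groth.Agent.H5.FEtQuot

/-- ring-hom version of `bijective_φ` -/
theorem bijective_quotientMap {R S : Type u} [CommRing R] [CommRing S] (f : R →+* S)
    (hf1 : f.FormallySmooth) (hf2 : f.FormallyUnramified) (J : Ideal S)
    (hJ : Function.Surjective ((Ideal.Quotient.mk J).comp f)) (n : ℕ) :
    Function.Bijective (Ideal.quotientMap (J ^ n) f (Ideal.le_comap_pow f n)) := by
  let _ := f.toAlgebra
  have h1 : Algebra.FormallySmooth R S := hf1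
  have h2 : Algebra.FormallyUnramified R S := hf2
  have : Algebra.FormallyEtale R S := Algebra.FormallyEtale.of_formallyUnramified_and_formallySmooth
  exact bijective_φ (R := R) (S := S) J hJ n

variable (R : Type u) [CommRing R] (S : Type u) [CommRing S] [Algebra R S] (S' : Type u)
  [CommRing S'] [Algebra R S'] [Algebra S S'] [IsScalarTower R S S']

theorem formallyEtale_map_left [Algebra.FormallyEtale S S'] :
    (Algebra.TensorProduct.map (IsScalarTower.toAlgHom R S S') (AlgHom.id R S')).toRingHom.FormallySmooth ∧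
    (Algebra.TensorProduct.map (IsScalarTower.toAlgHom R S S') (AlgHom.id R S')).toRingHom.FormallyUnramified := by
  set g := Algebra.TensorProduct.map (IsScalarTower.toAlgHom R S S') (AlgHom.id R S') with hg
  let _ : Algebra (S ⊗[R] S') (S' ⊗[R] S') := g.toRingHom.toAlgebra
  have htower : IsScalarTower S (S ⊗[R] S') (S' ⊗[R] S') := by
    refine IsScalarTower.of_algebraMap_eq fun s => ?_
    show _ = g (algebraMap S (S ⊗[R] S') s)
    rw [Algebra.TensorProduct.algebraMap_apply, Algebra.TensorProduct.algebraMap_apply, hg,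
      Algebra.TensorProduct.map_tmul]
    simp
  have H : (algebraMap (S ⊗[R] S') (S' ⊗[R] S')).comp
      (Algebra.TensorProduct.includeRight (R := R) (A := S) (B := S')).toRingHom =
      (Algebra.TensorProduct.includeRight (R := R) (A := S') (B := S')).toRingHom := by
    ext s
    show g (1 ⊗ₜ s) = 1 ⊗ₜ s
    rw [hg, Algebra.TensorProduct.map_tmul]
    simp
  have hpush : Algebra.IsPushout S S' (S ⊗[R] S') (S' ⊗[R] S') :=
    Algebra.IsPushout.tensorProduct_tensorProduct R S' S S' H
  have h1 : (algebraMap (S ⊗[R] S') (S' ⊗[R] S')).FormallySmooth :=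
    RingHom.FormallySmooth.isStableUnderBaseChange S S' (S ⊗[R] S') (S' ⊗[R] S')
      (RingHom.formallySmooth_algebraMap.mpr inferInstance)
  have h2 : (algebraMap (S ⊗[R] S') (S' ⊗[R] S')).FormallyUnramified :=
    RingHom.FormallyUnramified.isStableUnderBaseChange S S' (S ⊗[R] S') (S' ⊗[R] S')
      (RingHom.formallyUnramified_algebraMap.mpr inferInstance)
  exact ⟨h1, h2⟩

theorem formallyEtale_map_right [Algebra.FormallyEtale S S'] :
    (Algebra.TensorProduct.map (AlgHom.id S' S') (IsScalarTower.toAlgHom R S S')).toRingHom.FormallySmooth ∧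
    (Algebra.TensorProduct.map (AlgHom.id S' S') (IsScalarTower.toAlgHom R S S')).toRingHom.FormallyUnramified := by
  obtain ⟨h1, h2⟩ := formallyEtale_map_left R S S'
  have heq : (Algebra.TensorProduct.map (AlgHom.id S' S') (IsScalarTower.toAlgHom R S S')).toRingHom =
      (Algebra.TensorProduct.comm R S' S').toRingEquiv.toRingHom.comp
        ((Algebra.TensorProduct.map (IsScalarTower.toAlgHom R S S') (AlgHom.id R S')).toRingHom.comp
          (Algebra.TensorProduct.comm R S' S).toRingEquiv.toRingHom) := by
    apply RingHom.ext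
    intro z
    induction z using TensorProduct.induction_on with
    | zero => simp
    | tmul a b => simp
    | add x y hx hy => rw [map_add, map_add, hx, hy]
  rw [heq]
  exact ⟨RingHom.FormallySmooth.respectsIso.1 _ _ (RingHom.FormallySmooth.respectsIso.2 _ _ h1),
    RingHom.FormallyUnramified.respectsIso.1 _ _ (RingHom.FormallyUnramified.respectsIso.2 _ _ h2)⟩

theorem main [Algebra.FormallyEtale S S'] (k : ℕ) :
    Function.Bijective (Ideal.quotientMap (KaehlerDifferential.ideal R S' ^ (k + 1))
      (Algebra.TensorProduct.map (AlgHom.id S' S') (IsScalarTower.toAlgHom R S S')).toRingHom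
      (Ideal.le_comap_pow
        (Algebra.TensorProduct.map (AlgHom.id S' S') (IsScalarTower.toAlgHom R S S')).toRingHom
        (K := KaehlerDifferential.ideal R S') (k + 1))) := by
  obtain ⟨h1, h2⟩ := formallyEtale_map_right R S S'
  refine bijective_quotientMap _ h1 h2 (KaehlerDifferential.ideal R S') ?_ (k + 1)
  intro y
  obtain ⟨z, rfl⟩ := Ideal.Quotient.mk_surjective y
  -- `z ≡ (mul z) ⊗ 1` modulo the diagonal ideal
  refine ⟨(Algebra.TensorProduct.lmul' R z) ⊗ₜ[R] (1 : S), ?_⟩
  rw [RingHom.comp_apply, Ideal.Quotient.eq]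
  show _ ∈ KaehlerDifferential.ideal R S'
  rw [KaehlerDifferential.ideal, RingHom.mem_ker]
  simp

end Groth.Agent.H5.FEtQuot
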