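import Groth.Agent.Lib.helper5.DiffEt
import Groth.Agent.Lib.helper5.FEtQuot2

set_option autoImplicit false

namespace Groth.Agent.H5.DiffEt2

universe u

open Diff16 TensorProduct Groth.Agent.H5.DiffOp

section
variable (R S S' : Type u) [CommRing R] [CommRing S] [CommRing S'] [Algebra R S] [Algebra R S']
  [Algebra S S'] [IsScalarTower R S S']

/-- The map `S' ⊗_R S → S' ⊗_R S'`. -/
noncomputable abbrev fmap : S' ⊗[R] S →ₐ[S'] S' ⊗[R] S' :=
  Algebra.TensorProduct.map (AlgHom.id S' S') (IsScalarTower.toAlgHom R S S')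

/-- The ideal `I`, kernel of `S' ⊗_R S → S'`. -/
noncomputable abbrev idealI : Ideal (S' ⊗[R] S) :=
  (KaehlerDifferential.ideal R S').comap (fmap R S S').toRingHom

/-- `1 ⊗ s - s ⊗ 1`. -/
noncomputable abbrev xiT (s : S) : S' ⊗[R] S :=
  (1 : S') ⊗ₜ[R] s - (algebraMap S S' s) ⊗ₜ[R] (1 : S)

lemma xiT_mem (s : S) : xiT R S S' s ∈ idealI R S S' := by
  rw [Ideal.mem_comap]
  have := KaehlerDifferential.one_smul_sub_smul_one_mem_ideal R (algebraMap S S' s)
  simpa [xiT] using this

lemma sub_mem_span (x : S' ⊗[R] S) :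
    x - (Algebra.TensorProduct.lmul' R (fmap R S S' x)) ⊗ₜ[R] (1 : S) ∈
      Ideal.span (Set.range (xiT R S S')) := by
  induction x using TensorProduct.induction_on with
  | zero => simp
  | tmul a s =>
    have : a ⊗ₜ[R] s - (Algebra.TensorProduct.lmul' R (fmap R S S' (a ⊗ₜ[R] s))) ⊗ₜ[R] (1 : S) =
        (a ⊗ₜ[R] (1 : S)) * xiT R S S' s := by
      simp [xiT, mul_sub]
    rw [this]
    exact Ideal.mul_mem_left _ _ (Ideal.subset_span ⟨s, rfl⟩)
  | add x y hx hy =>
    have : x + y - (Algebra.TensorProduct.lmul' R (fmap R S S' (x + y))) ⊗ₜ[R] (1 : S) =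
      (x - (Algebra.TensorProduct.lmul' R (fmap R S S' x)) ⊗ₜ[R] (1 : S)) +
      (y - (Algebra.TensorProduct.lmul' R (fmap R S S' y)) ⊗ₜ[R] (1 : S)) := by
      rw [map_add, map_add, TensorProduct.add_tmul]; abel
    rw [this]
    exact Ideal.add_mem _ hx hy

lemma idealI_eq_span : idealI R S S' = Ideal.span (Set.range (xiT R S S')) := by
  apply le_antisymm
  · intro x hx
    have h1 := sub_mem_span R S S' x
    have h2 : Algebra.TensorProduct.lmul' R (fmap R S S' x) = 0 := by
      have : fmap R S S' x ∈ KaehlerDifferential.ideal R S' := hx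
      rwa [KaehlerDifferential.ideal, RingHom.mem_ker] at this
    rwa [h2, TensorProduct.zero_tmul, sub_zero] at h1
  · rw [Ideal.span_le]
    rintro _ ⟨s, rfl⟩
    exact xiT_mem R S S' s

end

section psi
variable (R S S' : Type u) [CommRing R] [CommRing S] [CommRing S'] [Algebra R S] [Algebra R S']
  [Algebra S S'] [IsScalarTower R S S']
variable (M N : Type u) [AddCommGroup M] [Module S M] [Module R M] [IsScalarTower R S M]
  [AddCommGroup N] [Module S N] [Module R N] [IsScalarTower R S N]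

/-- `s ↦ 1 ⊗ D (s • m)`. -/
noncomputable def gmap (D : M →ₗ[R] N) (m : M) : S →ₗ[R] S' ⊗[S] N :=
  (TensorProduct.mk S S' N 1).restrictScalars R ∘ₗ D ∘ₗ
    (LinearMap.toSpanSingleton S M m).restrictScalars R

/-- `Ψ D m : a ⊗ s ↦ a ⊗ D (s • m)`. -/
noncomputable def Psi (D : M →ₗ[R] N) (m : M) : S' ⊗[R] S →ₗ[S'] S' ⊗[S] N :=
  TensorProduct.AlgebraTensorModule.lift
    (LinearMap.toSpanSingleton S' (S →ₗ[R] S' ⊗[S] N) (gmap R S S' M N D m))

@[simp] lemma Psi_tmul (D : M →ₗ[R] N) (m : M) (a : S') (s : S) :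
    Psi R S S' M N D m (a ⊗ₜ[R] s) = a ⊗ₜ[S] D (s • m) := by
  simp [Psi, gmap, TensorProduct.smul_tmul']

lemma Psi_add (D : M →ₗ[R] N) (m m' : M) :
    Psi R S S' M N D (m + m') = Psi R S S' M N D m + Psi R S S' M N D m' := by
  apply TensorProduct.AlgebraTensorModule.ext
  intro a s
  simp [TensorProduct.tmul_add]

lemma Psi_smul (D : M →ₗ[R] N) (r : R) (m : M) :
    Psi R S S' M N D (r • m) = r • Psi R S S' M N D m := by
  apply TensorProduct.AlgebraTensorModule.ext
  intro a s
  simp [smul_comm s r m]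

lemma Psi_zero_left (m : M) : Psi R S S' M N 0 m = 0 := by
  apply TensorProduct.AlgebraTensorModule.ext
  intro a s
  simp

lemma Psi_mul_right (D : M →ₗ[R] N) (m : M) (s : S) (x : S' ⊗[R] S) :
    Psi R S S' M N D m (x * ((1 : S') ⊗ₜ[R] s)) = Psi R S S' M N D (s • m) x := by
  induction x using TensorProduct.induction_on with
  | zero => simp
  | tmul a t => simp [mul_smul]
  | add x y hx hy => rw [add_mul, map_add, map_add, hx, hy]

lemma Psi_mul_xiT (D : M →ₗ[R] N) (m : M) (s : S) (x : S' ⊗[R] S) :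
    Psi R S S' M N D m (x * xiT R S S' s) =
      Psi R S S' M N (commutator R S M N D s) m x := by
  induction x using TensorProduct.induction_on with
  | zero => simp
  | tmul a t =>
    simp only [xiT, mul_sub, Algebra.TensorProduct.tmul_mul_tmul, mul_one, map_sub, Psi_tmul,
      commutator_apply, TensorProduct.tmul_sub]
    congr 1
    · rw [mul_smul, smul_comm]
    · rw [mul_comm, ← Algebra.smul_def, TensorProduct.smul_tmul]
  | add x y hx hy => rw [add_mul, map_add, map_add, hx, hy]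

lemma Psi_vanish_step (J : Ideal (S' ⊗[R] S)) (D : M →ₗ[R] N)
    (h : ∀ s, ∀ y ∈ J, ∀ m, Psi R S S' M N (commutator R S M N D s) m y = 0) :
    ∀ x ∈ J * idealI R S S', ∀ m, Psi R S S' M N D m x = 0 := by
  intro x hx m
  refine Submodule.mul_induction_on hx (fun y hy z hz => ?_) (fun y z hy hz => ?_)
  · rw [idealI_eq_span] at hz
    revert y
    refine Submodule.span_induction
      (p := fun z _ => ∀ y ∈ J, Psi R S S' M N D m (y * z) = 0)
      ?_ ?_ ?_ ?_ hz
    · rintro _ ⟨s, rfl⟩ y hy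
      rw [Psi_mul_xiT]
      exact h s y hy m
    · intro y _; simp
    · intro z z' _ _ hz hz' y hy
      rw [mul_add, map_add, hz y hy, hz' y hy, add_zero]
    · intro r z _ hz y hy
      rw [smul_eq_mul, ← mul_assoc]
      exact hz (y * r) (Ideal.mul_mem_right r _ hy)
  · rw [map_add, hy, hz, add_zero]

theorem Psi_vanish (k : ℕ) : ∀ (D : M →ₗ[R] N), IsDiffOpLE R S M N k D →
    ∀ x ∈ (idealI R S S') ^ (k + 1), ∀ m, Psi R S S' M N D m x = 0 := by
  induction k with
  | zero =>
    intro D hD x hx m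
    rw [zero_add, pow_one, ← one_mul (idealI R S S')] at hx
    refine Psi_vanish_step R S S' M N 1 D (fun s y _ m' => ?_) x hx m
    have hc : commutator R S M N D s = 0 := by
      ext m'; simp [hD s m']
    rw [hc, Psi_zero_left]; rfl
  | succ k ih =>
    intro D hD x hx m
    rw [pow_succ] at hx
    exact Psi_vanish_step R S S' M N _ D (fun s y hy m' => ih _ (hD s) y hy m') x hx m

end psi

section quot
variable (R S S' : Type u) [CommRing R] [CommRing S] [CommRing S'] [Algebra R S] [Algebra R S']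
  [Algebra S S'] [IsScalarTower R S S'] (k : ℕ)

/-- `(S' ⊗_R S) / I^{k+1}`. -/
abbrev Q := (S' ⊗[R] S) ⧸ (idealI R S S') ^ (k + 1)

/-- `(S' ⊗_R S') / J'^{k+1}`. -/
abbrev Q' := (S' ⊗[R] S') ⧸ (KaehlerDifferential.ideal R S') ^ (k + 1)

/-- The comparison map `Q → Q'`. -/
noncomputable def qmap : Q R S S' k →+* Q' R S' k :=
  Ideal.quotientMap (KaehlerDifferential.ideal R S' ^ (k + 1)) (fmap R S S').toRingHom
    (Ideal.le_comap_pow (fmap R S S').toRingHom (K := KaehlerDifferential.ideal R S') (k + 1))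

@[simp] lemma qmap_mk (x : S' ⊗[R] S) :
    qmap R S S' k (Ideal.Quotient.mk _ x) = Ideal.Quotient.mk _ (fmap R S S' x) := by
  simp [qmap]

/-- The image of `I` in `Q`. -/
noncomputable abbrev Ibar : Ideal (Q R S S' k) :=
  (idealI R S S').map (Ideal.Quotient.mk ((idealI R S S') ^ (k + 1)))

lemma Ibar_pow : (Ibar R S S' k) ^ (k + 1) = ⊥ := by
  rw [Ibar, ← Ideal.map_pow, Ideal.map_quotient_self]

variable [Algebra.FormallyEtale S S']

lemma qmap_bijective : Function.Bijective (qmap R S S' k) :=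
  Groth.Agent.H5.FEtQuot.main R S S' k

/-- The "right" ring map `S' → Q`, corresponding to `b ↦ 1 ⊗ b` in `Q'`. -/
noncomputable def rho : S' →+* Q R S S' k :=
  ((RingEquiv.ofBijective (qmap R S S' k) (qmap_bijective R S S' k)).symm : Q' R S' k →+* Q R S S' k).comp
    ((Ideal.Quotient.mk _).comp (Algebra.TensorProduct.includeRight : S' →ₐ[R] S' ⊗[R] S').toRingHom)

lemma qmap_rho (b : S') :
    qmap R S S' k (rho R S S' k b) = Ideal.Quotient.mk _ ((1 : S') ⊗ₜ[R] b) := by
  simp only [rho, RingHom.comp_apply]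
  exact (RingEquiv.ofBijective (qmap R S S' k) (qmap_bijective R S S' k)).apply_symm_apply _

lemma rho_algebraMap (s : S) :
    rho R S S' k (algebraMap S S' s) = Ideal.Quotient.mk _ ((1 : S') ⊗ₜ[R] s) := by
  apply (qmap_bijective R S S' k).1
  rw [qmap_rho, qmap_mk]
  simp

lemma rho_sub_mem (b : S') :
    rho R S S' k b - Ideal.Quotient.mk _ (b ⊗ₜ[R] (1 : S)) ∈ Ibar R S S' k := by
  obtain ⟨y, hy⟩ := Ideal.Quotient.mk_surjective (rho R S S' k b)
  rw [← hy, ← map_sub]
  apply Ideal.mem_map_of_mem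
  have h1 : qmap R S S' k (Ideal.Quotient.mk _ y) = Ideal.Quotient.mk _ ((1 : S') ⊗ₜ[R] b) := by
    rw [hy, qmap_rho]
  rw [qmap_mk, Ideal.Quotient.eq] at h1
  have h2 : fmap R S S' y - (1 : S') ⊗ₜ[R] b ∈ KaehlerDifferential.ideal R S' :=
    Ideal.pow_le_self (by omega) h1
  show fmap R S S' (y - b ⊗ₜ[R] (1 : S)) ∈ KaehlerDifferential.ideal R S'
  have h3 := KaehlerDifferential.one_smul_sub_smul_one_mem_ideal R b
  have : fmap R S S' (y - b ⊗ₜ[R] (1 : S)) =
      (fmap R S S' y - (1 : S') ⊗ₜ[R] b) + ((1 : S') ⊗ₜ[R] b - b ⊗ₜ[R] (1 : S')) := by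
    simp
  rw [this]
  exact Ideal.add_mem _ h2 h3

end quot

section ext
variable (R S S' : Type u) [CommRing R] [CommRing S] [CommRing S'] [Algebra R S] [Algebra R S']
  [Algebra S S'] [IsScalarTower R S S'] (k : ℕ)
variable (M N : Type u) [AddCommGroup M] [Module S M] [Module R M] [IsScalarTower R S M]
  [AddCommGroup N] [Module S N] [Module R N] [IsScalarTower R S N]
variable (D : M →ₗ[R] N)
  (hv : ∀ x ∈ (idealI R S S') ^ (k + 1), ∀ m, Psi R S S' M N D m x = 0)

/-- `Ψ̄ m : Q → S' ⊗_S N`. -/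
noncomputable def PsiBar (m : M) : Q R S S' k →ₗ[S'] S' ⊗[S] N :=
  (Submodule.liftQ (((idealI R S S') ^ (k + 1)).restrictScalars S') (Psi R S S' M N D m)
    (fun x hx => hv x hx m)) ∘ₗ
  (Submodule.Quotient.restrictScalarsEquiv S' ((idealI R S S') ^ (k + 1))).symm.toLinearMap

@[simp] lemma PsiBar_mk (m : M) (x : S' ⊗[R] S) :
    PsiBar R S S' k M N D hv m (Ideal.Quotient.mk _ x) = Psi R S S' M N D m x := by
  simp only [PsiBar, LinearMap.coe_comp, Function.comp_apply, LinearEquiv.coe_coe]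
  have : (Ideal.Quotient.mk (idealI R S S' ^ (k + 1)) x) = Submodule.Quotient.mk x := rfl
  rw [this, Submodule.Quotient.restrictScalarsEquiv_symm_mk, Submodule.liftQ_apply]

lemma PsiBar_add (m m' : M) (q : Q R S S' k) :
    PsiBar R S S' k M N D hv (m + m') q =
      PsiBar R S S' k M N D hv m q + PsiBar R S S' k M N D hv m' q := by
  obtain ⟨x, rfl⟩ := Ideal.Quotient.mk_surjective q
  simp [Psi_add]

lemma PsiBar_smul (r : R) (m : M) (q : Q R S S' k) :
    PsiBar R S S' k M N D hv (r • m) q = r • PsiBar R S S' k M N D hv m q := by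
  obtain ⟨x, rfl⟩ := Ideal.Quotient.mk_surjective q
  simp [Psi_smul]

lemma PsiBar_mul_right (m : M) (s : S) (q : Q R S S' k) :
    PsiBar R S S' k M N D hv m (q * Ideal.Quotient.mk _ ((1 : S') ⊗ₜ[R] s)) =
      PsiBar R S S' k M N D hv (s • m) q := by
  obtain ⟨x, rfl⟩ := Ideal.Quotient.mk_surjective q
  rw [← map_mul, PsiBar_mk, PsiBar_mk, Psi_mul_right]

lemma PsiBar_mul_left (m : M) (b : S') (q : Q R S S' k) :
    PsiBar R S S' k M N D hv m (Ideal.Quotient.mk _ (b ⊗ₜ[R] (1 : S)) * q) =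
      b • PsiBar R S S' k M N D hv m q := by
  obtain ⟨x, rfl⟩ := Ideal.Quotient.mk_surjective q
  rw [← map_mul, PsiBar_mk, PsiBar_mk, ← map_smul]
  congr 1
  induction x using TensorProduct.induction_on with
  | zero => simp
  | tmul a t => simp [TensorProduct.smul_tmul']
  | add x y hx hy => rw [mul_add, smul_add, hx, hy]

variable [Algebra.FormallyEtale S S']

/-- The biadditive map underlying `E q`. -/
noncomputable def Ebil (q : Q R S S' k) : S' →+ M →+ S' ⊗[S] N :=
  AddMonoidHom.mk' (fun a => AddMonoidHom.mk'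
    (fun m => PsiBar R S S' k M N D hv m (q * rho R S S' k a))
    (fun m m' => PsiBar_add R S S' k M N D hv m m' _))
    (fun a a' => by ext m; simp [mul_add])

lemma Ebil_balanced (q : Q R S S' k) (s : S) (a : S') (m : M) :
    Ebil R S S' k M N D hv q (s • a) m = Ebil R S S' k M N D hv q a (s • m) := by
  simp only [Ebil, AddMonoidHom.mk'_apply]
  rw [Algebra.smul_def, (rho R S S' k).map_mul, rho_algebraMap,
    mul_comm (Ideal.Quotient.mk _ _), ← mul_assoc, PsiBar_mul_right]

/-- `E q (a ⊗ m) = Ψ̄ m (q ρ(a))`. -/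
noncomputable def E (q : Q R S S' k) : S' ⊗[S] M →ₗ[R] S' ⊗[S] N :=
  { toFun := TensorProduct.liftAddHom (Ebil R S S' k M N D hv q) (Ebil_balanced R S S' k M N D hv q)
    map_add' := map_add _
    map_smul' := by
      intro r x
      induction x using TensorProduct.induction_on with
      | zero => simp
      | tmul a m =>
        rw [← TensorProduct.tmul_smul]
        simp only [TensorProduct.liftAddHom_tmul, RingHom.id_apply]
        simp only [Ebil, AddMonoidHom.mk'_apply]
        rw [PsiBar_smul]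
      | add x y hx hy =>
        rw [smul_add, map_add, hx, hy, map_add, smul_add] }

@[simp] lemma E_tmul (q : Q R S S' k) (a : S') (m : M) :
    E R S S' k M N D hv q (a ⊗ₜ[S] m) = PsiBar R S S' k M N D hv m (q * rho R S S' k a) := rfl

lemma E_zero : E R S S' k M N D hv 0 = 0 := by
  apply LinearMap.ext
  intro x
  induction x using TensorProduct.induction_on with
  | zero => simp
  | tmul a m => simp
  | add x y hx hy => rw [map_add, hx, hy]; simp

lemma commutator_E (q : Q R S S' k) (b : S') :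
    commutator R S' (S' ⊗[S] M) (S' ⊗[S] N) (E R S S' k M N D hv q) b =
      E R S S' k M N D hv (q * (rho R S S' k b - Ideal.Quotient.mk _ (b ⊗ₜ[R] (1 : S)))) := by
  apply LinearMap.ext
  intro x
  induction x using TensorProduct.induction_on with
  | zero => simp
  | tmul a m =>
    rw [commutator_apply, TensorProduct.smul_tmul', smul_eq_mul, E_tmul, E_tmul, E_tmul,
      ← PsiBar_mul_left, ← map_sub]
    congr 1
    rw [map_mul]
    ring
  | add x y hx hy => rw [map_add, hx, hy, map_add]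

theorem isDiffOpLE_E (n : ℕ) : ∀ (q : Q R S S' k), (∀ z ∈ (Ibar R S S' k) ^ (n + 1), q * z = 0) →
    IsDiffOpLE R S' (S' ⊗[S] M) (S' ⊗[S] N) n (E R S S' k M N D hv q) := by
  induction n with
  | zero =>
    intro q hq b x
    have h1 := commutator_E R S S' k M N D hv q b
    rw [hq _ (by simpa using rho_sub_mem R S S' k b), E_zero] at h1
    have h2 := LinearMap.congr_fun h1 x
    rw [commutator_apply] at h2
    exact sub_eq_zero.mp h2
  | succ n ih =>
    intro q hq b
    rw [commutator_E]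
    apply ih
    intro z hz
    rw [mul_assoc]
    apply hq
    have h3 : (Ibar R S S' k) ^ (n + 1 + 1) = Ibar R S S' k * (Ibar R S S' k) ^ (n + 1) :=
      Ideal.IsTwoSided.pow_succ _
    rw [h3]
    exact Ideal.mul_mem_mul (rho_sub_mem R S S' k b) hz

theorem isDiffOpLE_E_one :
    IsDiffOpLE R S' (S' ⊗[S] M) (S' ⊗[S] N) k (E R S S' k M N D hv 1) := by
  apply isDiffOpLE_E
  intro z hz
  rw [Ibar_pow] at hz
  rw [one_mul]
  exact hz

lemma E_one_tmul (m : M) :
    E R S S' k M N D hv 1 ((1 : S') ⊗ₜ[S] m) = (1 : S') ⊗ₜ[S] D m := by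
  rw [E_tmul, map_one, one_mul]
  have : (1 : Q R S S' k) = Ideal.Quotient.mk _ ((1 : S') ⊗ₜ[R] (1 : S)) := rfl
  rw [this, PsiBar_mk, Psi_tmul, one_smul]

end ext

section main
variable (R S S' : Type u) [CommRing R] [CommRing S] [CommRing S'] [Algebra R S] [Algebra R S']
  [Algebra S S'] [IsScalarTower R S S'] [Algebra.FormallyEtale S S']
variable (M N : Type u) [AddCommGroup M] [Module S M] [Module R M] [IsScalarTower R S M]
  [AddCommGroup N] [Module S N] [Module R N] [IsScalarTower R S N]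

/-- Existence of the extension of a differential operator along a formally étale base change. -/
theorem exists_extension (k : ℕ) (D : M →ₗ[R] N) (hD : IsDiffOpLE R S M N k D) :
    ∃ D' : S' ⊗[S] M →ₗ[R] S' ⊗[S] N,
      IsDiffOpLE R S' (S' ⊗[S] M) (S' ⊗[S] N) k D' ∧
        ∀ m, D' ((1 : S') ⊗ₜ[S] m) = (1 : S') ⊗ₜ[S] D m :=
  ⟨E R S S' k M N D (Psi_vanish R S S' M N k D hD) 1,
    isDiffOpLE_E_one R S S' k M N D _, E_one_tmul R S S' k M N D _⟩

end main

end Groth.Agent.H5.DiffEt2
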