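import Groth.Prelude.Def_DiffOp
import Mathlib

/-!
Basic theory of differential operators `Diff16.IsDiffOpLE` (helper5).
-/

set_option autoImplicit false

namespace Groth.Agent.H5.DiffOp

universe u v

open Diff16

section
variable (A B : Type u) [CommRing A] [CommRing B] [Algebra A B]
variable (M N : Type v) [AddCommGroup M] [Module A M] [Module B M] [IsScalarTower A B M]
  [AddCommGroup N] [Module A N] [Module B N] [IsScalarTower A B N]

@[simp] lemma commutator_apply (D : M →ₗ[A] N) (b : B) (m : M) :
    commutator A B M N D b m = D (b • m) - b • D m := by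
  simp [Diff16.commutator]

lemma commutator_zero (b : B) : commutator A B M N 0 b = 0 := by
  ext m; simp

lemma commutator_add (D D' : M →ₗ[A] N) (b : B) :
    commutator A B M N (D + D') b = commutator A B M N D b + commutator A B M N D' b := by
  ext m; simp; abel

lemma commutator_neg (D : M →ₗ[A] N) (b : B) :
    commutator A B M N (-D) b = - commutator A B M N D b := by
  ext m; simp; abel

lemma commutator_sub (D D' : M →ₗ[A] N) (b : B) :
    commutator A B M N (D - D') b = commutator A B M N D b - commutator A B M N D' b := by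
  ext m; simp [smul_sub]; abel

lemma isDiffOpLE_zero_iff (D : M →ₗ[A] N) :
    IsDiffOpLE A B M N 0 D ↔ ∀ (b : B) (m : M), D (b • m) = b • D m := Iff.rfl

lemma isDiffOpLE_succ_iff (n : ℕ) (D : M →ₗ[A] N) :
    IsDiffOpLE A B M N (n + 1) D ↔ ∀ b : B, IsDiffOpLE A B M N n (commutator A B M N D b) :=
  Iff.rfl

lemma isDiffOpLE_zero_map (n : ℕ) : IsDiffOpLE A B M N n (0 : M →ₗ[A] N) := by
  induction n with
  | zero => intro b m; simp
  | succ n ih => intro b; rw [commutator_zero]; exact ih

lemma isDiffOpLE_add (n : ℕ) : ∀ (D D' : M →ₗ[A] N), IsDiffOpLE A B M N n D →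
    IsDiffOpLE A B M N n D' → IsDiffOpLE A B M N n (D + D') := by
  induction n with
  | zero =>
    intro D D' h h' b m
    simp [h b m, h' b m]
  | succ n ih =>
    intro D D' h h' b
    rw [commutator_add]
    exact ih _ _ (h b) (h' b)

lemma isDiffOpLE_neg (n : ℕ) : ∀ (D : M →ₗ[A] N), IsDiffOpLE A B M N n D →
    IsDiffOpLE A B M N n (-D) := by
  induction n with
  | zero =>
    intro D h b m
    simp [h b m]
  | succ n ih =>
    intro D h b
    rw [commutator_neg]
    exact ih _ (h b)

lemma isDiffOpLE_sub (n : ℕ) (D D' : M →ₗ[A] N) (h : IsDiffOpLE A B M N n D)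
    (h' : IsDiffOpLE A B M N n D') : IsDiffOpLE A B M N n (D - D') := by
  rw [sub_eq_add_neg]
  exact isDiffOpLE_add A B M N n _ _ h (isDiffOpLE_neg A B M N n _ h')

lemma isDiffOpLE_succ_of_le (n : ℕ) : ∀ (D : M →ₗ[A] N), IsDiffOpLE A B M N n D →
    IsDiffOpLE A B M N (n + 1) D := by
  induction n with
  | zero =>
    intro D h b
    have : commutator A B M N D b = 0 := by
      ext m; simp [h b m]
    rw [this]; exact isDiffOpLE_zero_map A B M N 0
  | succ n ih =>
    intro D h b
    exact ih _ (h b)

lemma isDiffOpLE_mono {n k : ℕ} (hnk : n ≤ k) (D : M →ₗ[A] N) (h : IsDiffOpLE A B M N n D) :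
    IsDiffOpLE A B M N k D := by
  induction k, hnk using Nat.le_induction with
  | base => exact h
  | succ k _ ih => exact isDiffOpLE_succ_of_le A B M N k D ih

/-- The commutator of an operator of order `≤ n` has order `≤ n - 1`. -/
lemma isDiffOpLE_commutator_pred (n : ℕ) (D : M →ₗ[A] N) (h : IsDiffOpLE A B M N n D) (b : B) :
    IsDiffOpLE A B M N (n - 1) (commutator A B M N D b) := by
  cases n with
  | zero =>
    have : commutator A B M N D b = 0 := by
      ext m; simp [h b m]
    rw [this]; exact isDiffOpLE_zero_map A B M N _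
  | succ n => exact h b

end

section comp
variable (A B : Type u) [CommRing A] [CommRing B] [Algebra A B]
variable (M N P : Type v) [AddCommGroup M] [Module A M] [Module B M] [IsScalarTower A B M]
  [AddCommGroup N] [Module A N] [Module B N] [IsScalarTower A B N]
  [AddCommGroup P] [Module A P] [Module B P] [IsScalarTower A B P]

lemma commutator_comp (D : M →ₗ[A] N) (D' : N →ₗ[A] P) (b : B) :
    commutator A B M P (D' ∘ₗ D) b =
      D' ∘ₗ commutator A B M N D b + commutator A B N P D' b ∘ₗ D := by
  ext m; simp

theorem isDiffOpLE_comp : ∀ (k n n' : ℕ), n + n' = k → ∀ (D : M →ₗ[A] N) (D' : N →ₗ[A] P),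
    IsDiffOpLE A B M N n D → IsDiffOpLE A B N P n' D' →
    IsDiffOpLE A B M P k (D' ∘ₗ D) := by
  intro k
  induction k with
  | zero =>
    intro n n' hk D D' hD hD'
    obtain ⟨rfl, rfl⟩ : n = 0 ∧ n' = 0 := by omega
    intro b m
    simp [hD b m, hD' b (D m)]
  | succ k ih =>
    intro n n' hk D D' hD hD' b
    rw [commutator_comp]
    apply isDiffOpLE_add
    · -- D' ∘ [D, b]
      rcases Nat.eq_zero_or_pos n with hn | hn
      · subst hn
        have : commutator A B M N D b = 0 := by
          ext m; simp [hD b m]
        rw [this, LinearMap.comp_zero]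
        exact isDiffOpLE_zero_map A B M P k
      · exact ih (n - 1) n' (by omega) _ _ (isDiffOpLE_commutator_pred A B M N n D hD b) hD'
    · rcases Nat.eq_zero_or_pos n' with hn | hn
      · subst hn
        have : commutator A B N P D' b = 0 := by
          ext m; simp [hD' b m]
        rw [this, LinearMap.zero_comp]
        exact isDiffOpLE_zero_map A B M P k
      · exact ih n (n' - 1) (by omega) _ _ hD (isDiffOpLE_commutator_pred A B N P n' D' hD' b)

end comp

section gen
variable (A B : Type u) [CommRing A] [CommRing B] [Algebra A B]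
variable (M N : Type v) [AddCommGroup M] [Module A M] [Module B M] [IsScalarTower A B M]
  [AddCommGroup N] [Module A N] [Module B N] [IsScalarTower A B N]

/-- multiplication by `b : B` as an `A`-linear map. -/
noncomputable abbrev mulOp (b : B) : M →ₗ[A] M := (LinearMap.lsmul B M b).restrictScalars A

lemma isDiffOpLE_mulOp (b : B) : IsDiffOpLE A B M M 0 (mulOp A B M b) := by
  intro c m
  simp [smul_smul, mul_comm]

lemma isDiffOpLE_comp_mulOp (n : ℕ) (D : M →ₗ[A] N) (h : IsDiffOpLE A B M N n D) (b : B) :
    IsDiffOpLE A B M N n (D ∘ₗ mulOp A B M b) :=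
  isDiffOpLE_comp A B M M N n 0 n (by simp) _ _ (isDiffOpLE_mulOp A B M b) h

lemma isDiffOpLE_mulOp_comp (n : ℕ) (D : M →ₗ[A] N) (h : IsDiffOpLE A B M N n D) (b : B) :
    IsDiffOpLE A B M N n (mulOp A B N b ∘ₗ D) :=
  isDiffOpLE_comp A B M N N n n 0 (by simp) _ _ h (isDiffOpLE_mulOp A B N b)

lemma commutator_mul (D : M →ₗ[A] N) (b b' : B) :
    commutator A B M N D (b * b') =
      commutator A B M N D b ∘ₗ mulOp A B M b' + mulOp A B N b ∘ₗ commutator A B M N D b' := by
  ext m; simp [mul_smul, smul_sub]

lemma commutator_add_right (D : M →ₗ[A] N) (b b' : B) :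
    commutator A B M N D (b + b') = commutator A B M N D b + commutator A B M N D b' := by
  ext m; simp [add_smul]; abel

lemma commutator_algebraMap (D : M →ₗ[A] N) (a : A) :
    commutator A B M N D (algebraMap A B a) = 0 := by
  ext m; simp [algebraMap_smul]

theorem isDiffOpLE_succ_of_generators (s : Set B) (hs : Algebra.adjoin A s = ⊤) (n : ℕ)
    (D : M →ₗ[A] N) (hD : ∀ g ∈ s, IsDiffOpLE A B M N n (commutator A B M N D g)) :
    IsDiffOpLE A B M N (n + 1) D := by
  intro b
  have hb : b ∈ Algebra.adjoin A s := by rw [hs]; trivial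
  induction hb using Algebra.adjoin_induction with
  | mem x hx => exact hD x hx
  | algebraMap a => rw [commutator_algebraMap]; exact isDiffOpLE_zero_map A B M N n
  | add x y _ _ hx hy => rw [commutator_add_right]; exact isDiffOpLE_add A B M N n _ _ hx hy
  | mul x y _ _ hx hy =>
    rw [commutator_mul]
    exact isDiffOpLE_add A B M N n _ _ (isDiffOpLE_comp_mulOp A B M N n _ hx y)
      (isDiffOpLE_mulOp_comp A B M N n _ hy x)

end gen

section alt
set_option linter.unusedSectionVars false
variable (A B : Type u) [CommRing A] [CommRing B] [Algebra A B]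
variable (M N : Type v) [AddCommGroup M] [Module A M] [Module B M] [IsScalarTower A B M]
  [AddCommGroup N] [Module A N] [Module B N] [IsScalarTower A B N]

universe w

/-- The alternating sum over subsets `H` of `s`. -/
noncomputable def altSum (D : M →ₗ[A] N) {ι : Type w} [DecidableEq ι] (s : Finset ι)
    (b : ι → B) (t : M) : N :=
  ∑ H ∈ s.powerset, ((-1 : ℤ) ^ H.card) • ((∏ i ∈ H, b i) • D ((∏ i ∈ s \ H, b i) • t))

lemma altSum_empty (D : M →ₗ[A] N) {ι : Type w} [DecidableEq ι] (b : ι → B) (t : M) :
    altSum A B M N D (∅ : Finset ι) b t = D t := by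
  simp [altSum]

lemma altSum_congr (D : M →ₗ[A] N) {ι : Type w} [DecidableEq ι] (s : Finset ι)
    (b b' : ι → B) (h : ∀ i ∈ s, b i = b' i) (t : M) :
    altSum A B M N D s b t = altSum A B M N D s b' t := by
  unfold altSum
  refine Finset.sum_congr rfl fun H hH => ?_
  rw [Finset.mem_powerset] at hH
  have h1 : ∏ i ∈ H, b i = ∏ i ∈ H, b' i := Finset.prod_congr rfl fun i hi => h i (hH hi)
  have h2 : ∏ i ∈ s \ H, b i = ∏ i ∈ s \ H, b' i :=
    Finset.prod_congr rfl fun i hi => h i (Finset.mem_sdiff.mp hi).1
  rw [h1, h2]

lemma altSum_insert (D : M →ₗ[A] N) {ι : Type w} [DecidableEq ι] (s : Finset ι) (a : ι)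
    (ha : a ∉ s) (b : ι → B) (t : M) :
    altSum A B M N D (insert a s) b t = altSum A B M N (commutator A B M N D (b a)) s b t := by
  unfold altSum
  rw [Finset.sum_powerset_insert ha, ← Finset.sum_add_distrib]
  refine Finset.sum_congr rfl fun H hH => ?_
  rw [Finset.mem_powerset] at hH
  have haH : a ∉ H := fun h => ha (hH h)
  have e1 : insert a s \ H = insert a (s \ H) := Finset.insert_sdiff_of_notMem _ haH
  have e2 : insert a s \ insert a H = s \ H := by
    ext x
    simp only [Finset.mem_sdiff, Finset.mem_insert, not_or]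
    constructor
    · rintro ⟨hx | hx, hxa, hxH⟩
      · exact absurd hx hxa
      · exact ⟨hx, hxH⟩
    · rintro ⟨hx, hxH⟩
      exact ⟨Or.inr hx, fun h => ha (h ▸ hx), hxH⟩
  have ha' : a ∉ s \ H := fun h => ha (Finset.mem_sdiff.mp h).1
  rw [e1, e2, Finset.prod_insert ha', Finset.prod_insert haH, Finset.card_insert_of_notMem haH,
    commutator_apply, pow_succ, mul_smul (b a), smul_sub, smul_sub, mul_neg_one, neg_smul,
    mul_smul (b a), smul_comm (∏ i ∈ H, b i) (b a)]
  abel

theorem isDiffOpLE_iff_altSum (n : ℕ) : ∀ (D : M →ₗ[A] N) {ι : Type w} [DecidableEq ι]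
    (s : Finset ι), s.card = n + 1 →
    (IsDiffOpLE A B M N n D ↔ ∀ (b : ι → B) (t : M), altSum A B M N D s b t = 0) := by
  induction n with
  | zero =>
    intro D ι _ s hs
    obtain ⟨a, rfl⟩ := Finset.card_eq_one.mp hs
    have key : ∀ (b : ι → B) (t : M), altSum A B M N D {a} b t = D (b a • t) - b a • D t := by
      intro b t
      have := altSum_insert A B M N D (∅ : Finset ι) a (by simp) b t
      rw [altSum_empty, commutator_apply] at this
      simpa using this
    constructor
    · intro h b t
      rw [key, h (b a) t, sub_self]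
    · intro h c m
      have := h (fun _ => c) m
      rw [key] at this
      exact sub_eq_zero.mp this
  | succ n ih =>
    intro D ι _ s hs
    have hne : s.Nonempty := by
      rw [← Finset.card_pos]; omega
    obtain ⟨a, ha⟩ := hne
    have hs' : (s.erase a).card = n + 1 := by
      rw [Finset.card_erase_of_mem ha]; omega
    have hins : insert a (s.erase a) = s := Finset.insert_erase ha
    have hnot : a ∉ s.erase a := Finset.notMem_erase a s
    constructor
    · intro h b t
      rw [← hins, altSum_insert A B M N D _ a hnot]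
      exact (ih (commutator A B M N D (b a)) (s.erase a) hs').mp (h (b a)) b t
    · intro h b0
      refine (ih (commutator A B M N D b0) (s.erase a) hs').mpr fun b t => ?_
      have := h (Function.update b a b0) t
      rw [← hins, altSum_insert A B M N D _ a hnot, Function.update_self] at this
      rw [← this]
      refine altSum_congr A B M N _ _ _ _ (fun i hi => ?_) t
      have : i ≠ a := fun h => hnot (h ▸ hi)
      rw [Function.update_of_ne this]

theorem isDiffOpLE_iff_altSum_fin (n : ℕ) (D : M →ₗ[A] N) :
    IsDiffOpLE A B M N n D ↔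
      ∀ (b : Fin (n + 1) → B) (t : M),
        ∑ H : Finset (Fin (n + 1)),
          ((-1 : ℤ) ^ H.card) • ((∏ i ∈ H, b i) • D ((∏ i ∈ Hᶜ, b i) • t)) = 0 := by
  rw [isDiffOpLE_iff_altSum A B M N n D (Finset.univ : Finset (Fin (n + 1))) (by simp)]
  unfold altSum
  simp only [Finset.powerset_univ, Finset.compl_eq_univ_sdiff]

end alt

section lin
open scoped TensorProduct
variable (A B : Type u) [CommRing A] [CommRing B] [Algebra A B]
variable (N : Type u) [AddCommGroup N] [Module A N] [Module B N] [IsScalarTower A B N]

@[simp] lemma linearize_tmul (M : Type u) [AddCommGroup M] [Module A M] [Module B M]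
    [IsScalarTower A B M] (D : M →ₗ[A] N) (b : B) (m : M) :
    linearize A B M N D (b ⊗ₜ[A] m) = b • D m := by
  simp [linearize]

/-- The element `1 ⊗ b - b ⊗ 1`. -/
noncomputable abbrev xi (b : B) : B ⊗[A] B := (1 : B) ⊗ₜ[A] b - b ⊗ₜ[A] (1 : B)

lemma linearize_commutator (D : B →ₗ[A] N) (b : B) (x : B ⊗[A] B) :
    linearize A B B N (commutator A B B N D b) x = linearize A B B N D (x * xi A B b) := by
  induction x using TensorProduct.induction_on with
  | zero => simp
  | tmul c c' =>
    simp only [linearize_tmul, commutator_apply, xi, mul_sub, Algebra.TensorProduct.tmul_mul_tmul,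
      mul_one, map_sub, smul_eq_mul, smul_sub, mul_smul]
    rw [mul_comm c' b]
  | add x y hx hy => rw [map_add, add_mul, map_add, hx, hy]

lemma linearize_eq_zero_iff (D : B →ₗ[A] N) :
    (∀ x : B ⊗[A] B, linearize A B B N D x = 0) ↔ D = 0 := by
  constructor
  · intro h
    ext m
    have := h ((1 : B) ⊗ₜ[A] m)
    simpa using this
  · rintro rfl x
    induction x using TensorProduct.induction_on with
    | zero => simp
    | tmul c c' => simp
    | add x y hx hy => rw [map_add, hx, hy, add_zero]

lemma linearize_vanish_mul_ideal_iff (J : Ideal (B ⊗[A] B)) (D : B →ₗ[A] N) :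
    (∀ y ∈ J * KaehlerDifferential.ideal A B, linearize A B B N D y = 0) ↔
      ∀ (b : B), ∀ x ∈ J, linearize A B B N (commutator A B B N D b) x = 0 := by
  constructor
  · intro h b x hx
    rw [linearize_commutator]
    exact h _ (Ideal.mul_mem_mul hx (KaehlerDifferential.one_smul_sub_smul_one_mem_ideal A b))
  · intro h y hy
    refine Submodule.mul_induction_on hy (fun m hm n hn => ?_) (fun x y hx hy => ?_)
    · rw [← KaehlerDifferential.span_range_eq_ideal] at hn
      revert m
      refine Submodule.span_induction (p := fun n _ => ∀ m ∈ J, linearize A B B N D (m * n) = 0)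
        ?_ ?_ ?_ ?_ hn
      · rintro _ ⟨b, rfl⟩ m hm
        have := h b m hm
        rwa [linearize_commutator] at this
      · intro m _; simp
      · intro x y _ _ hx hy m hm
        rw [mul_add, map_add, hx m hm, hy m hm, add_zero]
      · intro r x _ hx m hm
        rw [smul_eq_mul, ← mul_assoc]
        exact hx (m * r) (J.mul_mem_right r hm)
    · rw [map_add, hx, hy, add_zero]

theorem isDiffOpLE_iff_linearize (n : ℕ) : ∀ (D : B →ₗ[A] N),
    IsDiffOpLE A B B N n D ↔
      ∀ x ∈ (KaehlerDifferential.ideal A B) ^ (n + 1), linearize A B B N D x = 0 := by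
  induction n with
  | zero =>
    intro D
    rw [zero_add, pow_one, ← one_mul (KaehlerDifferential.ideal A B),
      linearize_vanish_mul_ideal_iff]
    constructor
    · intro h b x _
      have : commutator A B B N D b = 0 := by
        ext m
        have := h b m
        rw [smul_eq_mul] at this
        simp [this]
      rw [this]
      exact (linearize_eq_zero_iff A B N 0).mpr rfl x
    · intro h b m
      have := (linearize_eq_zero_iff A B N (commutator A B B N D b)).mp
        (fun x => h b x (by simp))
      have h2 := LinearMap.congr_fun this m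
      rw [commutator_apply] at h2
      exact sub_eq_zero.mp h2
  | succ n ih =>
    intro D
    rw [pow_succ, linearize_vanish_mul_ideal_iff]
    exact forall_congr' fun b => ih _

end lin

end Groth.Agent.H5.DiffOp
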