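import Mathlib
import Groth.Prelude.Def_FSRel

open TensorProduct

namespace Groth.Agent.H5.FSRel

universe u

variable (A B C : Type u) [CommRing A] [CommRing B] [CommRing C] [Algebra A B] [Algebra B C]
  [Algebra A C] [IsScalarTower A B C]

/-- The twisted square-zero extension. -/
def Tw : Type u := TrivSqZeroExt C (C ⊗[B] Ω[B⁄A])

noncomputable instance : CommRing (Tw A B C) :=
  inferInstanceAs (CommRing (TrivSqZeroExt C (C ⊗[B] Ω[B⁄A])))

/-- the twisting ring hom `b ↦ (b, 1 ⊗ db)`. -/
noncomputable def ψ : B →+* Tw A B C where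
  toFun b := (TrivSqZeroExt.inl (algebraMap B C b) +
    TrivSqZeroExt.inr ((1 : C) ⊗ₜ[B] KaehlerDifferential.D A B b) :
      TrivSqZeroExt C (C ⊗[B] Ω[B⁄A]))
  map_one' := by
    simp
    rfl
  map_mul' x y := by
    show (_ : TrivSqZeroExt C (C ⊗[B] Ω[B⁄A])) = _ * _
    ext
    · simp
    · simp only [Derivation.leibniz, TrivSqZeroExt.snd_add, TrivSqZeroExt.snd_inl,
        TrivSqZeroExt.snd_inr, zero_add, TrivSqZeroExt.snd_mul, TrivSqZeroExt.fst_add,
        TrivSqZeroExt.fst_inl, TrivSqZeroExt.fst_inr, add_zero, tmul_add, tmul_smul,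
        MulOpposite.smul_eq_mul_unop, op_smul_eq_smul, algebraMap_smul]
  map_zero' := by
    simp
    rfl
  map_add' x y := by
    show (_ : TrivSqZeroExt C (C ⊗[B] Ω[B⁄A])) = _ + _
    ext
    · simp
    · simp [tmul_add]


noncomputable instance algB : Algebra B (Tw A B C) := (ψ A B C).toAlgebra
noncomputable instance algA : Algebra A (Tw A B C) := ((ψ A B C).comp (algebraMap A B)).toAlgebra
instance : IsScalarTower A B (Tw A B C) := IsScalarTower.of_algebraMap_eq (fun _ => rfl)

/-- first projection as a ring hom -/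
noncomputable def fstTw : Tw A B C →+* C where
  toFun x := TrivSqZeroExt.fst (x : TrivSqZeroExt C (C ⊗[B] Ω[B⁄A]))
  map_one' := rfl
  map_mul' _ _ := TrivSqZeroExt.fst_mul _ _
  map_zero' := rfl
  map_add' _ _ := rfl

/-- second projection -/
def sndTw (x : Tw A B C) : C ⊗[B] Ω[B⁄A] := TrivSqZeroExt.snd x

/-- inl as a ring hom -/
noncomputable def inlTw : C →+* Tw A B C where
  toFun c := (TrivSqZeroExt.inl c : TrivSqZeroExt C (C ⊗[B] Ω[B⁄A]))
  map_one' := rfl
  map_mul' _ _ := TrivSqZeroExt.inl_mul _ _ _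
  map_zero' := TrivSqZeroExt.inl_zero _
  map_add' _ _ := TrivSqZeroExt.inl_add _ _ _

theorem fst_ψ (b : B) : fstTw A B C (ψ A B C b) = algebraMap B C b := by
  show TrivSqZeroExt.fst (TrivSqZeroExt.inl (algebraMap B C b) +
    TrivSqZeroExt.inr ((1 : C) ⊗ₜ[B] KaehlerDifferential.D A B b) :
      TrivSqZeroExt C (C ⊗[B] Ω[B⁄A])) = _
  simp

theorem snd_ψ (b : B) : sndTw A B C (ψ A B C b) = (1 : C) ⊗ₜ[B] KaehlerDifferential.D A B b := by
  show TrivSqZeroExt.snd (TrivSqZeroExt.inl (algebraMap B C b) +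
    TrivSqZeroExt.inr ((1 : C) ⊗ₜ[B] KaehlerDifferential.D A B b) :
      TrivSqZeroExt C (C ⊗[B] Ω[B⁄A])) = _
  simp

theorem fst_inlTw (c : C) : fstTw A B C (inlTw A B C c) = c := rfl

theorem snd_inlTw (c : C) : sndTw A B C (inlTw A B C c) = 0 := rfl

theorem sndTw_mul (x y : Tw A B C) :
    sndTw A B C (x * y) = fstTw A B C x • sndTw A B C y + fstTw A B C y • sndTw A B C x := by
  have h := TrivSqZeroExt.snd_mul (R := C) (M := C ⊗[B] Ω[B⁄A]) x y
  rw [op_smul_eq_smul] at h
  exact h

theorem sndTw_add (x y : Tw A B C) :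
    sndTw A B C (x + y) = sndTw A B C x + sndTw A B C y := rfl

theorem sndTw_sub (x y : Tw A B C) :
    sndTw A B C (x - y) = sndTw A B C x - sndTw A B C y := rfl

theorem ext_Tw {x y : Tw A B C} (h1 : fstTw A B C x = fstTw A B C y)
    (h2 : sndTw A B C x = sndTw A B C y) : x = y :=
  TrivSqZeroExt.ext h1 h2

theorem ker_sq : (RingHom.ker (fstTw A B C)) ^ 2 = ⊥ := by
  rw [pow_two, eq_bot_iff, Ideal.mul_le]
  intro x hx y hy
  rw [RingHom.mem_ker] at hx hy
  rw [Ideal.mem_bot]
  apply ext_Tw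
  · rw [map_mul, hx, zero_mul, map_zero]
  · rw [sndTw_mul, hx, hy, zero_smul, zero_smul, add_zero]
    rfl


theorem algebraMap_B_Tw (b : B) : algebraMap B (Tw A B C) b = ψ A B C b := rfl

theorem algebraMap_A_Tw (a : A) : algebraMap A (Tw A B C) a = ψ A B C (algebraMap A B a) := rfl

theorem leftInverse_of_fsrel (h : EGA41.IsFormallySmoothRel A B C) :
    ∃ l : Ω[C⁄A] →ₗ[C] C ⊗[B] Ω[B⁄A],
      l ∘ₗ KaehlerDifferential.mapBaseChange A B C = LinearMap.id := by
  set J : Ideal (Tw A B C) := RingHom.ker (fstTw A B C) with hJdef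
  have hJ : J ^ 2 = ⊥ := ker_sq A B C
  -- the A-algebra lift
  let u : C →ₐ[A] Tw A B C :=
    { inlTw A B C with
      commutes' := fun a => by
        show inlTw A B C (algebraMap A C a) = ψ A B C (algebraMap A B a)
        apply ext_Tw
        · rw [fst_inlTw, fst_ψ, ← IsScalarTower.algebraMap_apply]
        · rw [snd_inlTw, snd_ψ]
          simp }
  have hu : ∀ c, u c = inlTw A B C c := fun c => rfl
  let u₀ : C →ₐ[B] Tw A B C ⧸ J :=
    { (Ideal.Quotient.mk J).comp (inlTw A B C) with
      commutes' := fun b => by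
        show Ideal.Quotient.mk J (inlTw A B C (algebraMap B C b)) =
          Ideal.Quotient.mk J (ψ A B C b)
        rw [Ideal.Quotient.eq, hJdef, RingHom.mem_ker, map_sub, fst_inlTw, fst_ψ, sub_self] }
  have hu₀ : ∀ c, u₀ c = Ideal.Quotient.mk J (inlTw A B C c) := fun c => rfl
  obtain ⟨v, hv⟩ := h (Tw A B C) J hJ u₀ ⟨u, by ext c; rfl⟩
  have hfst : ∀ c, fstTw A B C (v c) = c := by
    intro c
    have h1 : Ideal.Quotient.mk J (v c) = Ideal.Quotient.mk J (inlTw A B C c) := by
      have := congrArg (fun f => f c) hv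
      exact this
    rw [Ideal.Quotient.eq, hJdef, RingHom.mem_ker, map_sub, fst_inlTw, sub_eq_zero] at h1
    exact h1
  -- the derivation
  let Dl : C →ₗ[A] C ⊗[B] Ω[B⁄A] :=
    { toFun := fun c => sndTw A B C (v c)
      map_add' := fun x y => by rw [map_add, sndTw_add]
      map_smul' := fun a c => by
        have h1 : v (a • c) = ψ A B C (algebraMap A B a) * v c := by
          rw [Algebra.smul_def, map_mul, IsScalarTower.algebraMap_apply A B C, AlgHom.commutes]
          rfl
        rw [h1, sndTw_mul, fst_ψ, snd_ψ, hfst]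
        simp }
  let D' : Derivation A C (C ⊗[B] Ω[B⁄A]) :=
    Derivation.mk' Dl (fun x y => by
      show sndTw A B C (v (x * y)) = x • sndTw A B C (v y) + y • sndTw A B C (v x)
      rw [map_mul, sndTw_mul, hfst, hfst])
  have hD' : ∀ b : B, D' (algebraMap B C b) = (1 : C) ⊗ₜ[B] KaehlerDifferential.D A B b := by
    intro b
    show sndTw A B C (v (algebraMap B C b)) = _
    rw [AlgHom.commutes, algebraMap_B_Tw, snd_ψ]
  refine ⟨D'.liftKaehlerDifferential, ?_⟩
  apply TensorProduct.AlgebraTensorModule.curry_injective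
  apply LinearMap.ext
  intro c
  apply Derivation.liftKaehlerDifferential_unique
  ext b
  show D'.liftKaehlerDifferential (KaehlerDifferential.mapBaseChange A B C
    (c ⊗ₜ KaehlerDifferential.D A B b)) = c ⊗ₜ KaehlerDifferential.D A B b
  rw [KaehlerDifferential.mapBaseChange_tmul, map_smul, KaehlerDifferential.map_D,
    Derivation.liftKaehlerDifferential_comp_D, hD', TensorProduct.smul_tmul', smul_eq_mul,
    mul_one]

theorem fsrel_of_leftInverse
    (l : Ω[C⁄A] →ₗ[C] C ⊗[B] Ω[B⁄A])
    (hl : l ∘ₗ KaehlerDifferential.mapBaseChange A B C = LinearMap.id) :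
    EGA41.IsFormallySmoothRel A B C := by
  intro E _ _ _ _ J hJ u₀ ⟨u, hu⟩
  letI algCE : Algebra C E := u.toRingHom.toAlgebra
  haveI : IsScalarTower A C E := IsScalarTower.of_algebraMap_eq (fun a => (u.commutes a).symm)
  have hu' : ∀ c : C, Ideal.Quotient.mk J (u c) = u₀ c := fun c => by
    have := congrArg (fun f => f c) hu
    exact this
  -- the derivation δ : B → J
  let f : B →ₐ[A] E := u.comp (IsScalarTower.toAlgHom A B C)
  have e : (Ideal.Quotient.mkₐ A J).comp f = IsScalarTower.toAlgHom A B (E ⧸ J) := by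
    ext b
    show Ideal.Quotient.mk J (u (algebraMap B C b)) = algebraMap B (E ⧸ J) b
    rw [hu', AlgHom.commutes]
  let δ : Derivation A B J := derivationToSquareZeroOfLift J hJ f e
  have hδ : ∀ b, (δ b : E) = u (algebraMap B C b) - algebraMap B E b := fun b => rfl
  have hJJ : ∀ x y : E, x ∈ J → y ∈ J → x * y = 0 := by
    intro x y hx hy
    rw [← Ideal.mem_bot, ← hJ, pow_two]
    exact Ideal.mul_mem_mul hx hy
  haveI : IsScalarTower B C J := ⟨fun b c j => by
    ext
    have hCE : ∀ x : C, algebraMap C E x = u x := fun x => rfl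
    simp only [Submodule.coe_smul_of_tower, Algebra.smul_def, hCE]
    rw [map_mul]
    have h1 : (u (algebraMap B C b) - algebraMap B E b) * (u c * (j : E)) = 0 :=
      hJJ _ _ (δ b).2 (J.mul_mem_left _ j.2)
    linear_combination h1⟩
  let φ : C ⊗[B] Ω[B⁄A] →ₗ[C] J := LinearMap.liftBaseChange C δ.liftKaehlerDifferential
  let D : Derivation A C J := (φ ∘ₗ l).compDer (KaehlerDifferential.D A C)
  have hD : ∀ b : B, D (algebraMap B C b) = δ b := by
    intro b
    have h1 : KaehlerDifferential.D A C (algebraMap B C b) =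
        KaehlerDifferential.mapBaseChange A B C (1 ⊗ₜ KaehlerDifferential.D A B b) := by
      rw [KaehlerDifferential.mapBaseChange_tmul, one_smul, KaehlerDifferential.map_D]
    have h2 : l (KaehlerDifferential.mapBaseChange A B C (1 ⊗ₜ KaehlerDifferential.D A B b)) =
        1 ⊗ₜ KaehlerDifferential.D A B b := by
      have := congrArg (fun g => g (1 ⊗ₜ KaehlerDifferential.D A B b)) hl
      exact this
    show φ (l (KaehlerDifferential.D A C (algebraMap B C b))) = δ b
    rw [h1, h2]
    simp [φ]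
  let v₀ : C →ₐ[A] E := liftOfDerivationToSquareZero J hJ (-D)
  have hv₀ : ∀ c, v₀ c = -(D c : E) + u c := fun c => rfl
  let v : C →ₐ[B] E :=
    { v₀.toRingHom with
      commutes' := fun b => by
        show v₀ (algebraMap B C b) = algebraMap B E b
        rw [hv₀, hD, hδ]
        ring }
  refine ⟨v, ?_⟩
  ext c
  show Ideal.Quotient.mk J (v₀ c) = u₀ c
  rw [hv₀, map_add, map_neg, Ideal.Quotient.eq_zero_iff_mem.mpr (D c).2, neg_zero, zero_add, hu']


theorem injective_baseChange (Λ A B C : Type u) [CommRing Λ] [CommRing A]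
    [CommRing B] [CommRing C] [Algebra Λ A] [Algebra Λ B] [Algebra A B] [IsScalarTower Λ A B]
    [Algebra B C] (h : EGA41.IsFormallySmoothRel Λ A B) :
    Function.Injective ((KaehlerDifferential.mapBaseChange Λ A B).baseChange C) := by
  obtain ⟨l, hl⟩ := leftInverse_of_fsrel Λ A B h
  have h1 : (l.baseChange C) ∘ₗ ((KaehlerDifferential.mapBaseChange Λ A B).baseChange C) =
      LinearMap.id := by
    rw [← LinearMap.baseChange_comp, hl, LinearMap.baseChange_id]
  intro x y hxy
  have := congrArg (l.baseChange C) hxy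
  have hx := congrArg (fun f => f x) h1
  have hy := congrArg (fun f => f y) h1
  simp only [LinearMap.coe_comp, Function.comp_apply, LinearMap.id_coe, id_eq] at hx hy
  rw [← hx, ← hy, this]

end Groth.Agent.H5.FSRel
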