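import Mathlib

/-!
# Graded algebras generated by finitely many homogeneous elements

Lemmas for `S13164`, `S13165`.
-/

set_option autoImplicit false
universe u

namespace Groth.Agent.H5.GradedGen

open scoped BigOperators

variable {R A : Type u} [CommRing R] [CommRing A] [Algebra R A] (𝒜 : ℕ → Submodule R A)
  [GradedAlgebra 𝒜] {s : ℕ} (f : Fin s → A) (deg : Fin s → ℕ)

theorem prod_pow_mem (hf : ∀ i, f i ∈ 𝒜 (deg i)) (a : Fin s → ℕ) :
    (∏ i, f i ^ a i) ∈ 𝒜 (∑ i, a i * deg i) := by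
  have := SetLike.prod_pow_mem_graded 𝒜 deg f a (F := Finset.univ) (fun k _ => hf k)
  simpa [smul_eq_mul] using this

/-- Every homogeneous element of degree `m` is an `R`-linear combination of monomials
in the generators of weighted degree `m`. -/
theorem mem_span_monomials (hf : ∀ i, f i ∈ 𝒜 (deg i))
    (hgen : Algebra.adjoin R (Set.range f) = ⊤) (m : ℕ) :
    𝒜 m ≤ Submodule.span R
      {x | ∃ a : Fin s → ℕ, ∑ i, a i * deg i = m ∧ x = ∏ i, f i ^ a i} := by
  intro b hb
  have h1 : b ∈ (MvPolynomial.aeval f : MvPolynomial (Fin s) R →ₐ[R] A).range := by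
    rw [← Algebra.adjoin_range_eq_range_aeval, hgen]; trivial
  obtain ⟨P, hP⟩ := h1
  change MvPolynomial.aeval f P = b at hP
  subst hP
  have hproj : MvPolynomial.aeval f P = GradedRing.proj 𝒜 m (MvPolynomial.aeval f P) := by
    rw [GradedRing.proj_apply, DirectSum.decompose_of_mem_same 𝒜 hb]
  have hsum : MvPolynomial.aeval f P = ∑ a ∈ P.support, GradedRing.proj 𝒜 m
      (MvPolynomial.aeval f (MvPolynomial.monomial a (P.coeff a))) := by
    conv_lhs => rw [hproj, P.as_sum]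
    rw [map_sum, map_sum]
  rw [hsum]
  refine Submodule.sum_mem _ fun a _ => ?_
  rw [MvPolynomial.aeval_monomial, ← Algebra.smul_def]
  have hmem : (a.prod fun i k => f i ^ k) ∈ 𝒜 (∑ i, a i * deg i) := by
    rw [Finsupp.prod_fintype _ _ (fun i => pow_zero _)]
    exact prod_pow_mem 𝒜 f deg hf a
  have hmem' : (P.coeff a • a.prod fun i k => f i ^ k) ∈ 𝒜 (∑ i, a i * deg i) :=
    Submodule.smul_mem _ _ hmem
  rw [GradedRing.proj_apply]
  by_cases h : ∑ i, a i * deg i = m
  · rw [h] at hmem'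
    rw [DirectSum.decompose_of_mem_same 𝒜 hmem']
    refine Submodule.smul_mem _ _ (Submodule.subset_span ⟨a, h, ?_⟩)
    rw [Finsupp.prod_fintype _ _ (fun i => pow_zero _)]
  · rw [DirectSum.decompose_of_mem_ne 𝒜 hmem' h]
    exact Submodule.zero_mem _

theorem lcm_pos (hdeg : ∀ i, 0 < deg i) : 0 < Finset.univ.lcm deg := by
  refine Nat.pos_of_ne_zero fun h => ?_
  rw [Finset.lcm_eq_zero_iff] at h
  obtain ⟨i, _, hi⟩ := h
  exact (hdeg i).ne' hi

theorem mul_le_graded (i j : ℕ) : 𝒜 i * 𝒜 j ≤ 𝒜 (i + j) :=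
  Submodule.mul_le.mpr fun _ hx _ hy => SetLike.mul_mem_graded hx hy

theorem pow_le_graded (i j : ℕ) : 𝒜 i ^ j ≤ 𝒜 (j * i) := by
  induction j with
  | zero =>
    rw [pow_zero, zero_mul, Submodule.one_eq_span, Submodule.span_le]
    rintro _ rfl
    exact SetLike.GradedOne.one_mem
  | succ j ih =>
    rw [pow_succ, Nat.succ_mul]
    exact (mul_le_mul' ih le_rfl).trans (mul_le_graded 𝒜 _ _)

/-- `B_{n+l} = B_n B_l` for `n ≥ (s-1)(l-1)`. -/
theorem degree_add_lcm (hdeg : ∀ i, 0 < deg i) (hf : ∀ i, f i ∈ 𝒜 (deg i))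
    (hgen : Algebra.adjoin R (Set.range f) = ⊤) (n : ℕ)
    (hn : (s - 1) * (Finset.univ.lcm deg - 1) ≤ n) :
    𝒜 (n + Finset.univ.lcm deg) = 𝒜 n * 𝒜 (Finset.univ.lcm deg) := by
  set l := Finset.univ.lcm deg with hl
  have hlpos : 0 < l := lcm_pos deg hdeg
  refine le_antisymm ?_ (mul_le_graded 𝒜 _ _)
  refine (mem_span_monomials 𝒜 f deg hf hgen (n + l)).trans ?_
  rw [Submodule.span_le]
  rintro _ ⟨a, ha, rfl⟩
  -- some `i` with `l ≤ a i * deg i`
  obtain ⟨i, hi⟩ : ∃ i, l ≤ a i * deg i := by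
    by_contra hcon
    push Not at hcon
    have h1 : ∑ i, a i * deg i ≤ ∑ _i : Fin s, (l - 1) :=
      Finset.sum_le_sum fun i _ => by have := hcon i; omega
    rw [Finset.sum_const, Finset.card_univ, Fintype.card_fin, smul_eq_mul, ha] at h1
    have h2 : s * (l - 1) ≤ ((s - 1) + 1) * (l - 1) := Nat.mul_le_mul_right _ (by omega)
    rw [Nat.succ_mul] at h2
    omega
  obtain ⟨q, hq⟩ : deg i ∣ l := Finset.dvd_lcm (Finset.mem_univ i)
  have hqa : q ≤ a i := by
    have : deg i * q ≤ deg i * a i := by rw [← hq, mul_comm (deg i)]; exact hi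
    exact Nat.le_of_mul_le_mul_left this (hdeg i)
  set a' : Fin s → ℕ := Function.update a i (a i - q) with ha'
  have hsplit : ∀ j, a j = a' j + (if j = i then q else 0) := by
    intro j
    by_cases hj : j = i
    · subst hj; simp [ha']; omega
    · simp [ha', hj]
  have hprod : (∏ j, f j ^ a j) = (∏ j, f j ^ a' j) * f i ^ q := by
    have : (∏ j, f j ^ a j) = ∏ j, (f j ^ a' j * f j ^ (if j = i then q else 0)) :=
      Finset.prod_congr rfl fun j _ => by rw [← pow_add, ← hsplit j]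
    rw [this, Finset.prod_mul_distrib]
    congr 1
    simp [pow_ite, Finset.prod_ite_eq']
  have hsum : ∑ j, a' j * deg j + q * deg i = n + l := by
    rw [← ha]
    have : ∑ j, a j * deg j = ∑ j, (a' j * deg j + (if j = i then q else 0) * deg j) :=
      Finset.sum_congr rfl fun j _ => by rw [← add_mul, ← hsplit j]
    rw [this, Finset.sum_add_distrib]
    congr 1
    simp [ite_mul, Finset.sum_ite_eq']
  have hql : q * deg i = l := by rw [hq, mul_comm]
  have hn' : ∑ j, a' j * deg j = n := by omega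
  rw [hprod]
  refine Submodule.mul_mem_mul ?_ ?_
  · rw [← hn']; exact prod_pow_mem 𝒜 f deg hf a'
  · rw [← hql]
    have := SetLike.pow_mem_graded q (hf i)
    simpa [smul_eq_mul] using this

theorem degree_add_mul_lcm (hdeg : ∀ i, 0 < deg i) (hf : ∀ i, f i ∈ 𝒜 (deg i))
    (hgen : Algebra.adjoin R (Set.range f) = ⊤) (n : ℕ)
    (hn : (s - 1) * (Finset.univ.lcm deg - 1) ≤ n) (j : ℕ) :
    𝒜 (n + j * Finset.univ.lcm deg) = 𝒜 n * 𝒜 (Finset.univ.lcm deg) ^ j := by
  induction j with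
  | zero => simp
  | succ j ih =>
    rw [Nat.succ_mul, ← add_assoc, degree_add_lcm 𝒜 f deg hdeg hf hgen _ (by omega), ih,
      pow_succ, mul_assoc]

theorem degree_zero_eq_one (hdeg : ∀ i, 0 < deg i) (hf : ∀ i, f i ∈ 𝒜 (deg i))
    (hgen : Algebra.adjoin R (Set.range f) = ⊤) : 𝒜 0 = 1 := by
  refine le_antisymm ?_ ?_
  · refine (mem_span_monomials 𝒜 f deg hf hgen 0).trans ?_
    rw [Submodule.one_eq_span]
    refine Submodule.span_mono ?_
    rintro _ ⟨a, ha, rfl⟩
    have h0 : ∀ i, a i = 0 := by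
      intro i
      have := (Finset.sum_eq_zero_iff.mp ha) i (Finset.mem_univ i)
      rcases Nat.mul_eq_zero.mp this with h | h
      · exact h
      · exact absurd h (hdeg i).ne'
    simp [h0]
  · rw [Submodule.one_eq_span, Submodule.span_le]
    rintro _ rfl
    exact SetLike.GradedOne.one_mem

/-- `B_{kn} = (B_n)^k` for `n = a l`, `a ≥ s - 1`. -/
theorem degree_mul_eq_pow (hdeg : ∀ i, 0 < deg i) (hf : ∀ i, f i ∈ 𝒜 (deg i))
    (hgen : Algebra.adjoin R (Set.range f) = ⊤) (a : ℕ) (ha : s - 1 ≤ a) (k : ℕ) :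
    𝒜 (k * (a * Finset.univ.lcm deg)) = 𝒜 (a * Finset.univ.lcm deg) ^ k := by
  set l := Finset.univ.lcm deg with hl
  induction k with
  | zero => rw [zero_mul, pow_zero]; exact degree_zero_eq_one 𝒜 f deg hdeg hf hgen
  | succ k ih =>
    rw [pow_succ, ← ih, Nat.succ_mul]
    refine le_antisymm ?_ (mul_le_graded 𝒜 _ _)
    rcases Nat.eq_zero_or_pos k with hk | hk
    · subst hk
      rw [zero_mul, zero_add, degree_zero_eq_one 𝒜 f deg hdeg hf hgen, one_mul]
    · have hbound : (s - 1) * (l - 1) ≤ k * (a * l) := by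
        calc (s - 1) * (l - 1) ≤ a * l := Nat.mul_le_mul ha (Nat.sub_le _ _)
          _ ≤ k * (a * l) := Nat.le_mul_of_pos_left _ hk
      rw [degree_add_mul_lcm 𝒜 f deg hdeg hf hgen _ hbound a]
      exact mul_le_mul' le_rfl (pow_le_graded 𝒜 l a)

end Groth.Agent.H5.GradedGen
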