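import Mathlib

/-!
# ℤ-graded rings whose positive ideal is generated by `f_1, …, f_p`

`A_N = A_d · A_{N-d}` for `N > dp - Σ d_i` (for `S13663`).
-/

set_option autoImplicit false
universe u

namespace Groth.Agent.H5.GradedZ

open scoped BigOperators

section split

variable {A : Type u} [CommRing A] {p : ℕ} (f : Fin p → A) (deg : Fin p → ℤ)

theorem update_add_apply (a : Fin p → ℕ) (i : Fin p) (q : ℕ) (j : Fin p) :
    Function.update a i (a i + q) j = a j + (if j = i then q else 0) := by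
  by_cases hj : j = i
  · subst hj; simp
  · simp [hj]

theorem prod_update_add (a : Fin p → ℕ) (i : Fin p) (q : ℕ) :
    (∏ j, f j ^ (Function.update a i (a i + q) j)) = (∏ j, f j ^ a j) * f i ^ q := by
  have : (∏ j, f j ^ (Function.update a i (a i + q) j)) =
      ∏ j, (f j ^ a j * f j ^ (if j = i then q else 0)) :=
    Finset.prod_congr rfl fun j _ => by rw [← pow_add, ← update_add_apply]
  rw [this, Finset.prod_mul_distrib]
  congr 1
  simp [pow_ite, Finset.prod_ite_eq']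

theorem sum_update_add (a : Fin p → ℕ) (i : Fin p) (q : ℕ) :
    (∑ j, ((Function.update a i (a i + q) j : ℕ) : ℤ) * deg j) =
      (∑ j, (a j : ℤ) * deg j) + (q : ℤ) * deg i := by
  have : (∑ j, ((Function.update a i (a i + q) j : ℕ) : ℤ) * deg j) =
      ∑ j, ((a j : ℤ) * deg j + ((if j = i then q else 0 : ℕ) : ℤ) * deg j) :=
    Finset.sum_congr rfl fun j _ => by rw [← add_mul, update_add_apply]; push_cast; rfl
  rw [this, Finset.sum_add_distrib]
  congr 1
  simp [Finset.sum_ite_eq']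

end split

variable {R A : Type u} [CommRing R] [CommRing A] [Algebra R A]
  (𝒜 : ℤ → Submodule R A) [GradedAlgebra 𝒜]
  {p : ℕ} (f : Fin p → A) (deg : Fin p → ℤ)

theorem prod_pow_mem (hf : ∀ i, f i ∈ 𝒜 (deg i)) (a : Fin p → ℕ) :
    (∏ i, f i ^ a i) ∈ 𝒜 (∑ i, (a i : ℤ) * deg i) := by
  have := SetLike.prod_pow_mem_graded 𝒜 deg f a (F := Finset.univ) (fun k _ => hf k)
  simpa [nsmul_eq_mul] using this

theorem mul_le_graded (i j : ℤ) : 𝒜 i * 𝒜 j ≤ 𝒜 (i + j) :=
  Submodule.mul_le.mpr fun _ hx _ hy => SetLike.mul_mem_graded hx hy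

theorem decomp (hf : ∀ i, f i ∈ 𝒜 (deg i))
    (hgen : Ideal.span {a : A | ∃ n : ℤ, 0 < n ∧ a ∈ 𝒜 n} = Ideal.span (Set.range f))
    (K : ℤ) (hK : 0 < K) (z : A) (hz : z ∈ 𝒜 K) :
    ∃ g : Fin p → A, (∀ i, g i ∈ 𝒜 (K - deg i)) ∧ z = ∑ i, g i * f i := by
  have h1 : z ∈ Ideal.span (Set.range f) := by
    rw [← hgen]; exact Ideal.subset_span ⟨K, hK, hz⟩
  obtain ⟨c, hc⟩ := Ideal.mem_span_range_iff_exists_fun.mp h1
  refine ⟨fun i => (DirectSum.decompose 𝒜 (c i) (K - deg i) : A), fun i => Subtype.mem _, ?_⟩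
  have e1 : z = GradedRing.proj 𝒜 K z := by
    rw [GradedRing.proj_apply, DirectSum.decompose_of_mem_same 𝒜 hz]
  have e2 : GradedRing.proj 𝒜 K z = ∑ i, GradedRing.proj 𝒜 K (c i * f i) := by
    rw [← hc, map_sum]
  rw [e1, e2]
  refine Finset.sum_congr rfl fun i _ => ?_
  rw [GradedRing.proj_apply]
  have := DirectSum.coe_decompose_mul_add_of_right_mem 𝒜 (a := c i) (i := K - deg i) (hf i)
  rw [sub_add_cancel] at this
  exact this

/-- If some exponent is large, the monomial term lies in `A_d · A_{N-d}`. -/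
theorem finish (hf : ∀ i, f i ∈ 𝒜 (deg i)) (hdeg : ∀ i, 0 < deg i)
    (d : ℤ) (hd : 0 < d) (hdvd : ∀ i, deg i ∣ d) (N K : ℤ) (a : Fin p → ℕ)
    (hN : N = K + ∑ j, (a j : ℤ) * deg j) (i : Fin p) (hi : d ≤ (a i : ℤ) * deg i)
    (z : A) (hz : z ∈ 𝒜 K) :
    z * ∏ j, f j ^ a j ∈ 𝒜 d * 𝒜 (N - d) := by
  obtain ⟨q, hq⟩ := hdvd i
  have hqpos : 0 < q := by
    have := hdeg i
    by_contra hcon
    push Not at hcon
    have : deg i * q ≤ 0 := mul_nonpos_of_nonneg_of_nonpos this.le hcon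
    omega
  obtain ⟨q', rfl⟩ : ∃ q' : ℕ, q = q' := ⟨q.toNat, (Int.toNat_of_nonneg hqpos.le).symm⟩
  have hqa : q' ≤ a i := by
    have h1 : deg i * (q' : ℤ) ≤ deg i * (a i : ℤ) := by rw [← hq, mul_comm (deg i)]; exact hi
    exact_mod_cast le_of_mul_le_mul_left h1 (hdeg i)
  set a' : Fin p → ℕ := Function.update a i (a i - q') with ha'
  have haa : a = Function.update a' i (a' i + q') := by
    rw [ha', Function.update_self, Function.update_idem, Nat.sub_add_cancel hqa,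
      Function.update_eq_self]
  have hprod : (∏ j, f j ^ a j) = (∏ j, f j ^ a' j) * f i ^ q' := by
    conv_lhs => rw [haa]
    exact prod_update_add f a' i q'
  have hsum : (∑ j, (a j : ℤ) * deg j) = (∑ j, (a' j : ℤ) * deg j) + (q' : ℤ) * deg i := by
    conv_lhs => rw [haa]
    exact sum_update_add deg a' i q'
  have e : z * ∏ j, f j ^ a j = f i ^ q' * (z * ∏ j, f j ^ a' j) := by rw [hprod]; ring
  rw [e]
  refine Submodule.mul_mem_mul ?_ ?_
  · have := SetLike.pow_mem_graded q' (hf i)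
    rw [nsmul_eq_mul] at this
    have e2 : (q' : ℤ) * deg i = d := by rw [hq, mul_comm]
    rwa [e2] at this
  · have h1 : z * ∏ j, f j ^ a' j ∈ 𝒜 (K + ∑ j, (a' j : ℤ) * deg j) :=
      SetLike.mul_mem_graded hz (prod_pow_mem 𝒜 f deg hf a')
    have e3 : K + ∑ j, (a' j : ℤ) * deg j = N - d := by
      rw [hN, hsum, hq]; ring
    rwa [e3] at h1

theorem exists_big (hdeg : ∀ i, 0 < deg i) (d : ℤ) (hdvd : ∀ i, deg i ∣ d) (a : Fin p → ℕ)
    (h : d * p - ∑ i, deg i < ∑ j, (a j : ℤ) * deg j) : ∃ i, d ≤ (a i : ℤ) * deg i := by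
  by_contra hcon
  push Not at hcon
  have h1 : ∀ i, (a i : ℤ) * deg i ≤ d - deg i := by
    intro i
    obtain ⟨q, hq⟩ := hdvd i
    have h2 := hcon i
    rw [hq, mul_comm (deg i)] at h2
    have h3 : (a i : ℤ) < q := lt_of_mul_lt_mul_right h2 (hdeg i).le
    have h4 : (a i : ℤ) * deg i ≤ (q - 1) * deg i :=
      mul_le_mul_of_nonneg_right (by omega) (hdeg i).le
    rw [hq]; linarith
  have h2 : ∑ j, (a j : ℤ) * deg j ≤ ∑ j : Fin p, (d - deg j) :=
    Finset.sum_le_sum fun j _ => h1 j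
  rw [Finset.sum_sub_distrib, Finset.sum_const, Finset.card_univ, Fintype.card_fin,
    nsmul_eq_mul] at h2
  linarith

theorem main (hdeg : ∀ i, 0 < deg i) (hf : ∀ i, f i ∈ 𝒜 (deg i))
    (hgen : Ideal.span {a : A | ∃ n : ℤ, 0 < n ∧ a ∈ 𝒜 n} = Ideal.span (Set.range f))
    (d : ℤ) (hd : 0 < d) (hdvd : ∀ i, deg i ∣ d) (N : ℤ) (hN : d * p - ∑ i, deg i < N) :
    ∀ (n : ℕ) (K : ℤ) (a : Fin p → ℕ), K ≤ n → N = K + ∑ j, (a j : ℤ) * deg j →
      ∀ z ∈ 𝒜 K, z * ∏ j, f j ^ a j ∈ 𝒜 d * 𝒜 (N - d) := by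
  intro n
  induction n with
  | zero =>
    intro K a hK hNK z hz
    have hbig : d * p - ∑ i, deg i < ∑ j, (a j : ℤ) * deg j := by
      have : K ≤ 0 := by exact_mod_cast hK
      linarith
    obtain ⟨i, hi⟩ := exists_big deg hdeg d hdvd a hbig
    exact finish 𝒜 f deg hf hdeg d hd hdvd N K a hNK i hi z hz
  | succ n ih =>
    intro K a hK hNK z hz
    by_cases hbig : d * p - ∑ i, deg i < ∑ j, (a j : ℤ) * deg j
    · obtain ⟨i, hi⟩ := exists_big deg hdeg d hdvd a hbig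
      exact finish 𝒜 f deg hf hdeg d hd hdvd N K a hNK i hi z hz
    · have hKpos : 0 < K := by linarith
      obtain ⟨g, hg, rfl⟩ := decomp 𝒜 f deg hf hgen K hKpos z hz
      rw [Finset.sum_mul]
      refine Submodule.sum_mem _ fun i _ => ?_
      have e : g i * f i * ∏ j, f j ^ a j =
          g i * ∏ j, f j ^ (Function.update a i (a i + 1) j) := by
        rw [prod_update_add f a i 1, pow_one]; ring
      rw [e]
      refine ih (K - deg i) _ ?_ ?_ (g i) (hg i)
      · have := hdeg i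
        push_cast at hK
        omega
      · rw [sum_update_add deg a i 1, hNK]; push_cast; ring

theorem piece_eq (hdeg : ∀ i, 0 < deg i) (hf : ∀ i, f i ∈ 𝒜 (deg i))
    (hgen : Ideal.span {a : A | ∃ n : ℤ, 0 < n ∧ a ∈ 𝒜 n} = Ideal.span (Set.range f))
    (d : ℤ) (hd : 0 < d) (hdvd : ∀ i, deg i ∣ d) (N : ℤ) (hN : d * p - ∑ i, deg i < N) :
    𝒜 N = 𝒜 d * 𝒜 (N - d) := by
  refine le_antisymm ?_ ?_
  · intro z hz
    have := main 𝒜 f deg hdeg hf hgen d hd hdvd N hN N.toNat N (fun _ => 0) (Int.self_le_toNat N)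
      (by simp) z hz
    simpa using this
  · have := mul_le_graded 𝒜 d (N - d)
    rwa [add_sub_cancel] at this

end Groth.Agent.H5.GradedZ
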