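import Mathlib

/-!
# Noetherian ℤ-graded rings (Bruns–Herzog 1.5.5), for `S13665`
-/

set_option autoImplicit false
universe u

namespace Groth.Agent.H5.GradedZNoeth

open scoped BigOperators

variable {R A : Type u} [CommRing R] [CommRing A] [Algebra R A]
  (𝒜 : ℤ → Submodule R A) [GradedAlgebra 𝒜]

theorem proj_of_mem {n : ℤ} {x : A} (hx : x ∈ 𝒜 n) : GradedRing.proj 𝒜 n x = x := by
  rw [GradedRing.proj_apply, DirectSum.decompose_of_mem_same 𝒜 hx]

/-- extraction of homogeneous coefficients -/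
theorem extract (S' : Finset A) (dg : A → ℤ) (hdg : ∀ x ∈ S', x ∈ 𝒜 (dg x)) (n : ℤ) (y : A)
    (hy : y ∈ 𝒜 n) (hys : y ∈ Ideal.span (S' : Set A)) :
    ∃ c : A → A, (∀ x, c x ∈ 𝒜 (n - dg x)) ∧ y = ∑ x ∈ S', c x * x := by
  classical
  obtain ⟨f, -, hf⟩ := Submodule.mem_span_finset.mp hys
  refine ⟨fun x => (DirectSum.decompose 𝒜 (f x) (n - dg x) : A), fun x => Subtype.mem _, ?_⟩
  have e1 : y = GradedRing.proj 𝒜 n y := (proj_of_mem 𝒜 hy).symm
  have e2 : GradedRing.proj 𝒜 n y = ∑ x ∈ S', GradedRing.proj 𝒜 n (f x * x) := by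
    rw [← hf, map_sum]
    rfl
  rw [e1, e2]
  refine Finset.sum_congr rfl fun x hx => ?_
  rw [GradedRing.proj_apply]
  have := DirectSum.coe_decompose_mul_add_of_right_mem 𝒜 (a := f x) (i := n - dg x) (hdg x hx)
  rw [sub_add_cancel] at this
  exact this

variable (hfg : ∀ I : Ideal A, I.IsHomogeneous 𝒜 → I.FG)
include hfg

/-- a set of homogeneous elements spans the same ideal as a finite subset -/
theorem exists_finset_span_eq (S : Set A) (hS : ∀ x ∈ S, ∃ n, x ∈ 𝒜 n) :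
    ∃ S' : Finset A, (S' : Set A) ⊆ S ∧ Ideal.span S = Ideal.span (S' : Set A) := by
  have h1 : (Ideal.span S).IsHomogeneous 𝒜 :=
    Ideal.homogeneous_span 𝒜 S fun x hx => hS x hx
  exact (Submodule.fg_span_iff_fg_span_finset_subset S).mp (hfg _ h1)

theorem isNoetherianRing_zero : IsNoetherianRing (𝒜 0) := by
  classical
  rw [isNoetherianRing_iff_ideal_fg]
  intro J
  -- the set of elements of `J`, in `A`
  set S : Set A := (fun j : 𝒜 0 => (j : A)) '' (J : Set (𝒜 0)) with hS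
  obtain ⟨S', hS'1, hS'2⟩ := exists_finset_span_eq 𝒜 hfg S (by
    rintro _ ⟨j, _, rfl⟩; exact ⟨0, j.2⟩)
  have hS'0 : ∀ x ∈ S', x ∈ 𝒜 0 := by
    intro x hx
    obtain ⟨j, _, rfl⟩ := hS'1 hx
    exact j.2
  -- the finite set of generators, in `𝒜 0`
  let T : Finset (𝒜 0) := S'.attach.image fun x => ⟨x.1, hS'0 x.1 x.2⟩
  refine ⟨T, le_antisymm ?_ ?_⟩
  · rw [Ideal.span_le]
    intro t ht
    simp only [T, Finset.coe_image, Set.mem_image, Finset.mem_coe, Finset.mem_attach, true_and] at ht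
    obtain ⟨x, rfl⟩ := ht
    obtain ⟨j, hj, hjx⟩ := hS'1 x.2
    have : j = ⟨x.1, hS'0 x.1 x.2⟩ := Subtype.ext hjx
    rw [← this]; exact hj
  · intro j hj
    have hjS : (j : A) ∈ Ideal.span S := Ideal.subset_span ⟨j, hj, rfl⟩
    rw [hS'2] at hjS
    obtain ⟨c, hc1, hc2⟩ := extract 𝒜 S' (fun _ => 0) hS'0 0 j j.2 hjS
    have hc0 : ∀ x, c x ∈ 𝒜 0 := fun x => by simpa using hc1 x
    have : j = ∑ x ∈ S'.attach, (⟨c x.1, hc0 x.1⟩ : 𝒜 0) * ⟨x.1, hS'0 x.1 x.2⟩ := by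
      apply Subtype.ext
      rw [hc2, ← Finset.sum_attach]
      simp only [AddSubmonoidClass.coe_finsetSum]
      rfl
    rw [this]
    refine Ideal.sum_mem _ fun x _ => Ideal.mul_mem_left _ _ (Ideal.subset_span ?_)
    simp only [T, Finset.coe_image, Set.mem_image, Finset.mem_coe, Finset.mem_attach, true_and]
    exact ⟨x, rfl⟩

/-- each graded piece is "finitely generated over `𝒜 0`" -/
theorem exists_finset_piece (n : ℤ) :
    ∃ G : Finset A, (∀ g ∈ G, g ∈ 𝒜 n) ∧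
      ∀ y ∈ 𝒜 n, ∃ c : A → A, (∀ x, c x ∈ 𝒜 0) ∧ y = ∑ x ∈ G, c x * x := by
  obtain ⟨G, hG1, hG2⟩ := exists_finset_span_eq 𝒜 hfg (𝒜 n : Set A) (fun x hx => ⟨n, hx⟩)
  refine ⟨G, fun g hg => hG1 hg, fun y hy => ?_⟩
  have hyS : y ∈ Ideal.span (G : Set A) := by
    rw [← hG2]; exact Ideal.subset_span hy
  obtain ⟨c, hc1, hc2⟩ := extract 𝒜 G (fun _ => n) (fun g hg => hG1 hg) n y hy hyS
  exact ⟨c, fun x => by simpa using hc1 x, hc2⟩

/-- the half `{a | 0 ≤ ε n}` (`ε = ±1`) generates a finitely generated `𝒜 0`-subalgebra -/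
theorem fg_half (ε : ℤ) (hε : ε * ε = 1) :
    (Algebra.adjoin (𝒜 0) {a : A | ∃ n : ℤ, 0 ≤ ε * n ∧ a ∈ 𝒜 n}).FG := by
  classical
  -- generators of the "positive" ideal
  obtain ⟨X, hX1, hX2⟩ := exists_finset_span_eq 𝒜 hfg {a : A | ∃ n : ℤ, 0 < ε * n ∧ a ∈ 𝒜 n}
    (by rintro x ⟨n, _, hx⟩; exact ⟨n, hx⟩)
  have hXd : ∀ x ∈ X, ∃ n : ℤ, 0 < ε * n ∧ x ∈ 𝒜 n := fun x hx => hX1 hx
  choose! dg hdg using hXd
  -- a bound for the degrees
  set D : ℕ := ∑ x ∈ X, (ε * dg x).toNat with hD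
  have hDle : ∀ x ∈ X, ε * dg x ≤ D := by
    intro x hx
    have h1 : (ε * dg x).toNat ≤ D := Finset.single_le_sum (f := fun x => (ε * dg x).toNat)
      (fun _ _ => Nat.zero_le _) hx
    have h2 : ε * dg x = ((ε * dg x).toNat : ℤ) := (Int.toNat_of_nonneg (hdg x hx).1.le).symm
    rw [h2]; exact_mod_cast h1
  -- generators of the small pieces
  choose G hG1 hG2 using fun k : ℕ => exists_finset_piece 𝒜 hfg (ε * k)
  set Gens : Finset A := X ∪ (Finset.range D).biUnion G with hGens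
  set T : Subalgebra (𝒜 0) A := Algebra.adjoin (𝒜 0) (Gens : Set A) with hT
  have hzero : ∀ a ∈ 𝒜 0, a ∈ T := fun a ha => Subalgebra.algebraMap_mem T (⟨a, ha⟩ : 𝒜 0)
  have key : ∀ k : ℕ, ∀ a ∈ 𝒜 (ε * k), a ∈ T := by
    intro k
    induction k using Nat.strong_induction_on with
    | _ k ih =>
      intro a ha
      rcases Nat.eq_zero_or_pos k with rfl | hk
      · exact hzero a (by simpa using ha)
      · by_cases hkD : k < D
        · obtain ⟨c, hc1, rfl⟩ := hG2 k a ha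
          refine sum_mem fun x hx => mul_mem (hzero _ (hc1 x)) (Algebra.subset_adjoin ?_)
          rw [hGens, Finset.coe_union, Finset.coe_biUnion]
          refine Or.inr (Set.mem_iUnion₂.mpr ⟨k, ?_, hx⟩)
          simpa using hkD
        · push Not at hkD
          have hapos : a ∈ {a : A | ∃ n : ℤ, 0 < ε * n ∧ a ∈ 𝒜 n} := by
            refine ⟨ε * k, ?_, ha⟩
            rw [← mul_assoc, hε, one_mul]; exact_mod_cast hk
          have haX : a ∈ Ideal.span (X : Set A) := by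
            rw [← hX2]; exact Ideal.subset_span hapos
          obtain ⟨c, hc1, rfl⟩ := extract 𝒜 X dg (fun x hx => (hdg x hx).2) (ε * k) a ha haX
          refine sum_mem fun x hx => mul_mem ?_ (Algebra.subset_adjoin ?_)
          · -- `c x ∈ 𝒜 (ε * k')` with `k' < k`
            have h1 := hdg x hx
            have h2 := hDle x hx
            have h3 : (0 : ℤ) ≤ k - ε * dg x := by
              have : (D : ℤ) ≤ k := by exact_mod_cast hkD
              linarith
            have h4 : ε * (k : ℤ) - dg x = ε * ((k - ε * dg x).toNat : ℤ) := by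
              rw [Int.toNat_of_nonneg h3, mul_sub, ← mul_assoc, hε, one_mul]
            have h5 : (k - ε * dg x).toNat < k := by
              have : ((k - ε * dg x).toNat : ℤ) < k := by
                rw [Int.toNat_of_nonneg h3]; linarith [h1.1]
              exact_mod_cast this
            have h6 := hc1 x
            rw [h4] at h6
            exact ih _ h5 _ h6
          · rw [hGens, Finset.coe_union]
            exact Or.inl hx
  have heq : Algebra.adjoin (𝒜 0) {a : A | ∃ n : ℤ, 0 ≤ ε * n ∧ a ∈ 𝒜 n} = T := by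
    refine le_antisymm (Algebra.adjoin_le ?_) (Algebra.adjoin_mono ?_)
    · rintro a ⟨n, hn, ha⟩
      have h1 : n = ε * ((ε * n).toNat : ℤ) := by
        rw [Int.toNat_of_nonneg hn, ← mul_assoc, hε, one_mul]
      rw [h1] at ha
      exact key _ a ha
    · intro g hg
      rw [hGens, Finset.coe_union, Finset.coe_biUnion] at hg
      rcases hg with hg | hg
      · obtain ⟨h1, h2⟩ := hdg g hg
        exact ⟨dg g, h1.le, h2⟩
      · obtain ⟨k, _, hgk⟩ := Set.mem_iUnion₂.mp hg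
        refine ⟨ε * k, ?_, hG1 k g hgk⟩
        rw [← mul_assoc, hε, one_mul]; exact_mod_cast Nat.zero_le k
  rw [heq]
  exact Subalgebra.fg_adjoin_finset _

omit hfg in
theorem sup_halves_eq_top :
    Algebra.adjoin (𝒜 0) {a : A | ∃ n : ℤ, 0 ≤ n ∧ a ∈ 𝒜 n} ⊔
      Algebra.adjoin (𝒜 0) {a : A | ∃ n : ℤ, n ≤ 0 ∧ a ∈ 𝒜 n} = ⊤ := by
  classical
  rw [eq_top_iff]
  intro x _
  rw [← DirectSum.sum_support_decompose 𝒜 x]
  refine sum_mem fun n _ => ?_
  rcases le_total 0 n with hn | hn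
  · exact Algebra.mem_sup_left (Algebra.subset_adjoin ⟨n, hn, Subtype.mem _⟩)
  · exact Algebra.mem_sup_right (Algebra.subset_adjoin ⟨n, hn, Subtype.mem _⟩)

omit hfg in
theorem tfae :
    [IsNoetherianRing A,
     ∀ I : Ideal A, I.IsHomogeneous 𝒜 → I.FG,
     IsNoetherianRing (𝒜 0) ∧ (Algebra.adjoin (𝒜 0) {a : A | ∃ n : ℤ, 0 ≤ n ∧ a ∈ 𝒜 n}).FG ∧
       (Algebra.adjoin (𝒜 0) {a : A | ∃ n : ℤ, n ≤ 0 ∧ a ∈ 𝒜 n}).FG,
     IsNoetherianRing (𝒜 0) ∧ Algebra.FiniteType (𝒜 0) A].TFAE := by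
  tfae_have 1 → 2 := fun h I _ => (isNoetherianRing_iff_ideal_fg A).mp h I
  tfae_have 2 → 3 := by
    intro h
    refine ⟨isNoetherianRing_zero 𝒜 h, ?_, ?_⟩
    · have := fg_half 𝒜 h 1 (by norm_num)
      simpa using this
    · have := fg_half 𝒜 h (-1) (by norm_num)
      simpa using this
  tfae_have 3 → 4 := by
    rintro ⟨h0, h1, h2⟩
    refine ⟨h0, ⟨?_⟩⟩
    rw [← sup_halves_eq_top 𝒜]
    exact h1.sup h2
  tfae_have 4 → 1 := by
    rintro ⟨h0, h1⟩
    exact Algebra.FiniteType.isNoetherianRing (𝒜 0) A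
  tfae_finish

end Groth.Agent.H5.GradedZNoeth
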