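import Mathlib
import Groth.Agent.S11277

/-! Helper for S11278: `R_s` is the localization of `R_(s)[X]` at `X` when `deg s = 1`. -/

universe u v
open Polynomial

namespace Groth.Agent.H5.GrassUFD

variable (K : Type u) [Field K] (R : Type v) [CommRing R] [Algebra K R]
  (𝒜 : ℕ → Submodule K R) [GradedAlgebra 𝒜] (s : R)

/-- The evaluation map `B[X] → R_s`, `X ↦ s`. -/
noncomputable def φ : (HomogeneousLocalization.Away 𝒜 s)[X] →+* Localization.Away s :=
  (Polynomial.aeval (algebraMap R (Localization.Away s) s)).toRingHom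

lemma φ_X : φ K R 𝒜 s X = algebraMap R (Localization.Away s) s := by
  simp [φ]

lemma φ_C (b : HomogeneousLocalization.Away 𝒜 s) : φ K R 𝒜 s (C b) = b.val := by
  simp [φ, HomogeneousLocalization.algebraMap_apply]

variable {K R 𝒜 s}

lemma exists_preimage (hs : s ∈ 𝒜 1) (r : R) :
    ∃ q : (HomogeneousLocalization.Away 𝒜 s)[X], φ K R 𝒜 s q = algebraMap R (Localization.Away s) r := by
  induction r using DirectSum.Decomposition.inductionOn 𝒜 with
  | zero => exact ⟨0, by simp⟩
  | @homogeneous d m =>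
    have hm : (m : R) ∈ 𝒜 (d • 1) := by simp
    refine ⟨C (HomogeneousLocalization.Away.mk 𝒜 hs d (m : R) hm) * X ^ d, ?_⟩
    rw [map_mul, map_pow, φ_X, φ_C, HomogeneousLocalization.Away.val_mk, Localization.mk_eq_mk',
      ← map_pow]
    exact IsLocalization.mk'_spec _ _ _
  | add m m' h h' =>
    obtain ⟨q, hq⟩ := h
    obtain ⟨q', hq'⟩ := h'
    exact ⟨q + q', by rw [map_add, map_add, hq, hq']⟩

lemma φ_injective [IsDomain R] (hs : s ∈ 𝒜 1) : Function.Injective (φ K R 𝒜 s) := by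
  have := Groth.Agent.S11277.result K R 𝒜 1 one_pos s hs
  rw [transcendental_iff_injective] at this
  exact this

theorem isLocalization [IsDomain R] (hs : s ∈ 𝒜 1) :
    @IsLocalization _ _ (Submonoid.powers (X : (HomogeneousLocalization.Away 𝒜 s)[X]))
      (Localization.Away s) _ (φ K R 𝒜 s).toAlgebra := by
  let _ := (φ K R 𝒜 s).toAlgebra
  refine ⟨?_, ?_, ?_⟩
  · rintro ⟨_, k, rfl⟩
    change IsUnit (φ K R 𝒜 s (X ^ k))
    rw [map_pow, φ_X]
    exact (IsLocalization.Away.algebraMap_isUnit s).pow k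
  · intro z
    obtain ⟨r, ⟨_, k, rfl⟩, rfl⟩ := IsLocalization.exists_mk'_eq (Submonoid.powers s) z
    obtain ⟨q, hq⟩ := exists_preimage hs r
    refine ⟨(q, ⟨X ^ k, k, rfl⟩), ?_⟩
    change _ * φ K R 𝒜 s (X ^ k) = φ K R 𝒜 s q
    rw [hq, map_pow, φ_X, ← map_pow]
    exact IsLocalization.mk'_spec _ _ _
  · intro q1 q2 h
    exact ⟨1, by rw [φ_injective hs h]⟩

end Groth.Agent.H5.GrassUFD

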