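import Mathlib
open Polynomial Matrix

namespace Groth.Agent.H5.Jacobi

variable {R : Type*} [CommRing R] {m : Type*} [Fintype m] [DecidableEq m]

theorem prod_updateCol (M : Matrix m m R[X]) (σ : Equiv.Perm m) (j : m) (v : m → R[X]) :
    ∏ i, M.updateCol j v (σ i) i = (∏ i ∈ Finset.univ.erase j, M (σ i) i) * v (σ j) := by
  rw [← Finset.mul_prod_erase Finset.univ
    (fun i => M.updateCol j v (σ i) i) (Finset.mem_univ j), mul_comm]
  congr 1
  · refine Finset.prod_congr rfl (fun i hi => ?_)
    exact updateCol_ne (Finset.ne_of_mem_erase hi)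
  · exact updateCol_self

theorem derivative_det (M : Matrix m m R[X]) :
    derivative M.det = ∑ j, (M.updateCol j (fun i => derivative (M i j))).det := by
  classical
  simp only [det_apply, map_sum]
  rw [Finset.sum_comm]
  refine Finset.sum_congr rfl fun σ _ => ?_
  rw [Polynomial.derivative_smul, derivative_prod_finset, Finset.smul_sum]
  refine Finset.sum_congr rfl fun j _ => ?_
  rw [prod_updateCol]

theorem derivative_det_eq_trace (M : Matrix m m R[X]) :
    derivative M.det = (M.adjugate * M.map derivative).trace := by
  rw [derivative_det, trace]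
  refine Finset.sum_congr rfl fun j _ => ?_
  rw [← cramer_apply, cramer_eq_adjugate_mulVec, diag_apply, mul_apply, mulVec, dotProduct]
  rfl

/-- The matrix of power series `Σ Aⁿ Xⁿ`. -/
noncomputable def geom (A : Matrix m m R) : Matrix m m (PowerSeries R) :=
  Matrix.of fun i j => PowerSeries.mk fun n => (A ^ n) i j

theorem map_C_mul_geom (A : Matrix m m R) :
    A.map (PowerSeries.C) * geom A = Matrix.of fun i j => PowerSeries.mk fun n => (A ^ (n + 1)) i j := by
  ext i j n
  simp only [mul_apply, map_apply, geom, of_apply, map_sum, PowerSeries.coeff_C_mul,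
    PowerSeries.coeff_mk, pow_succ']

theorem one_sub_mul_geom (A : Matrix m m R) :
    (1 - (PowerSeries.X : PowerSeries R) • A.map (PowerSeries.C)) * geom A = 1 := by
  rw [sub_mul, one_mul, smul_mul_assoc, map_C_mul_geom]
  ext i j n
  rcases n with _ | n
  · simp [geom, one_apply]
  · simp [geom, one_apply, PowerSeries.coeff_succ_X_mul]
    split_ifs <;> simp

end Groth.Agent.H5.Jacobi

namespace Groth.Agent.H5.Jacobi
variable {R : Type*} [CommRing R] {m : Type*} [Fintype m] [DecidableEq m]

theorem geom_mul_X_smul (A : Matrix m m R) :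
    geom A * ((PowerSeries.X : PowerSeries R) • A.map (PowerSeries.C)) = geom A - 1 := by
  have h := one_sub_mul_geom A
  rw [mul_eq_one_comm] at h
  rw [mul_sub, mul_one] at h
  rw [← h]; abel

theorem trace_geom_sub_one (A : Matrix m m R) :
    (geom A - 1).trace = PowerSeries.mk (fun n => if n = 0 then 0 else (A ^ n).trace) := by
  ext n
  simp only [trace, diag_apply, Matrix.sub_apply, geom, of_apply, map_sum, map_sub,
    PowerSeries.coeff_mk, one_apply_eq, PowerSeries.coeff_one]
  split_ifs with h
  · subst h; simp
  · simp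

theorem main (A : Matrix m m R) :
    ((-(X * Polynomial.derivative A.charpolyRev) : R[X]) : PowerSeries R) =
      (A.charpolyRev : PowerSeries R) *
        PowerSeries.mk (fun n => if n = 0 then 0 else (A ^ n).trace) := by
  set φ : R[X] →+* PowerSeries R := Polynomial.coeToPowerSeries.ringHom with hφ
  have hφ' : ∀ p : R[X], (p : PowerSeries R) = φ p := fun p => rfl
  set M : Matrix m m R[X] := 1 - (X : R[X]) • A.map C with hM
  have hMd : M.map derivative = -(A.map C) := by
    ext i j
    simp [hM, one_apply]
    split_ifs <;> simp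
  have hMφ : φ.mapMatrix M = 1 - (PowerSeries.X : PowerSeries R) • A.map (PowerSeries.C) := by
    rw [hM, map_sub, map_one]
    congr 1
    ext i j
    simp [hφ]
    ring
  have hadj : (φ.mapMatrix M).adjugate = φ M.det • geom A := by
    have h1 := one_sub_mul_geom A
    rw [← hMφ] at h1
    calc (φ.mapMatrix M).adjugate = (φ.mapMatrix M).adjugate * (φ.mapMatrix M * geom A) := by
          rw [h1, mul_one]
      _ = φ M.det • geom A := by
          rw [← mul_assoc, adjugate_mul, smul_mul_assoc, one_mul, ← RingHom.map_det]
  have key : -(X * derivative M.det) = (M.adjugate * ((X : R[X]) • A.map C)).trace := by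
    rw [derivative_det_eq_trace, hMd, mul_smul_comm, trace_smul, mul_neg, trace_neg, smul_eq_mul,
      mul_neg, neg_neg]
  rw [charpolyRev, ← hM, hφ', hφ', key, ← trace_geom_sub_one, ← geom_mul_X_smul]
  have hXA : φ.mapMatrix ((X : R[X]) • A.map C) =
      (PowerSeries.X : PowerSeries R) • A.map (PowerSeries.C) := by
    ext i j
    simp [hφ]
    ring
  have h2 : φ (M.adjugate * (X : R[X]) • A.map C).trace =
      (φ.mapMatrix (M.adjugate * (X : R[X]) • A.map C)).trace :=
    AddMonoidHom.map_trace φ.toAddMonoidHom _
  rw [h2, map_mul, hXA, RingHom.map_adjugate, hadj, smul_mul_assoc, trace_smul, smul_eq_mul]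

end Groth.Agent.H5.Jacobi
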