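import Mathlib

namespace Groth.Agent.H5.Lattice

open LinearMap (BilinForm)

variable {L : Type} [AddCommGroup L] [Module.Finite ℤ L] [Module.Free ℤ L]

/-- extension of functionals from a saturated submodule -/
theorem exists_extension (N : Submodule ℤ L)
    (hsat : ∀ (c : ℤ) (x : L), c ≠ 0 → c • x ∈ N → x ∈ N) (ψ : Module.Dual ℤ ↥N) :
    ∃ φ : Module.Dual ℤ L, φ ∘ₗ N.subtype = ψ := by
  haveI : Module.IsTorsionFree ℤ (L ⧸ N) := by
    refine Module.IsTorsionFree.of_smul_eq_zero (fun c y hcy => ?_)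
    by_cases hc : c = 0
    · exact Or.inl hc
    · right
      obtain ⟨x, rfl⟩ := Submodule.Quotient.mk_surjective N y
      rw [← Submodule.Quotient.mk_smul, Submodule.Quotient.mk_eq_zero] at hcy
      rw [Submodule.Quotient.mk_eq_zero]
      exact hsat c x hc hcy
  haveI : Module.Free ℤ (L ⧸ N) := Module.free_of_finite_type_torsion_free'
  obtain ⟨s, hs⟩ := Module.projective_lifting_property N.mkQ (LinearMap.id : (L ⧸ N) →ₗ[ℤ] (L ⧸ N))
    (Submodule.mkQ_surjective N)
  let r : L →ₗ[ℤ] N := (LinearMap.id - s ∘ₗ N.mkQ).codRestrict N (fun x => by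
    rw [← Submodule.Quotient.mk_eq_zero]
    have := congrArg (fun f => f (N.mkQ x)) hs
    simp only [LinearMap.coe_comp, Function.comp_apply, LinearMap.id_coe, id_eq] at this
    simp only [LinearMap.sub_apply, LinearMap.id_coe, id_eq, LinearMap.coe_comp,
      Function.comp_apply, Submodule.Quotient.mk_sub]
    rw [sub_eq_zero]
    exact this.symm)
  refine ⟨ψ ∘ₗ r, ?_⟩
  ext ⟨x, hx⟩
  simp only [LinearMap.coe_comp, Function.comp_apply, Submodule.subtype_apply]
  congr 1
  apply Subtype.ext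
  simp only [r, LinearMap.codRestrict_apply, LinearMap.sub_apply, LinearMap.id_coe, id_eq,
    LinearMap.coe_comp, Function.comp_apply, Submodule.mkQ_apply]
  rw [(Submodule.Quotient.mk_eq_zero N).2 hx, map_zero, sub_zero]


/-- decomposition `D x = p + q` up to a nonzero denominator -/
theorem exists_decomp (B : BilinForm ℤ L) (hpos : ∀ x, x ≠ 0 → 0 < B x x) (A : Submodule ℤ L) :
    ∃ D : ℤ, D ≠ 0 ∧ ∀ x : L, ∃ p ∈ A, ∃ q ∈ B.orthogonal A, D • x = p + q := by
  classical
  let ι := Module.Free.ChooseBasisIndex ℤ A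
  let a : Module.Basis ι ℤ A := Module.Free.chooseBasis ℤ A
  let βA : BilinForm ℤ A := B.restrict A
  have hβA : ∀ x y : A, βA x y = B x y := fun x y => rfl
  let G : Matrix ι ι ℤ := LinearMap.BilinForm.toMatrix a βA
  have hG : ∀ i j, G i j = B (a i) (a j) := fun i j => by
    simp only [G, LinearMap.BilinForm.toMatrix_apply, hβA]
  have hnd : βA.Nondegenerate := by
    constructor
    · intro x hx
      by_contra hne
      have h1 : (x : L) ≠ 0 := fun h => hne (Subtype.ext h)
      have h2 := hpos x h1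
      have h3 : B x x = 0 := hx x
      omega
    · intro x hx
      by_contra hne
      have h1 : (x : L) ≠ 0 := fun h => hne (Subtype.ext h)
      have h2 := hpos x h1
      have h3 : B x x = 0 := hx x
      omega
  have hD : G.det ≠ 0 := (LinearMap.BilinForm.nondegenerate_iff_det_ne_zero a).1 hnd
  refine ⟨G.det, hD, fun x => ?_⟩
  let w : ι → ℤ := fun i => B (a i) x
  let c : ι → ℤ := G.adjugate.mulVec w
  let p : L := ∑ i, c i • (a i : L)
  have hpA : p ∈ A := Submodule.sum_mem _ (fun i _ => Submodule.smul_mem _ _ (a i).2)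
  have hp : ∀ j, B (a j) p = G.det * B (a j) x := by
    intro j
    have h1 : B (a j) p = (G.mulVec c) j := by
      simp only [p, map_sum, map_smul, smul_eq_mul, Matrix.mulVec, dotProduct, hG]
      refine Finset.sum_congr rfl (fun i _ => ?_)
      ring
    rw [h1]
    show (G.mulVec (G.adjugate.mulVec w)) j = _
    rw [Matrix.mulVec_mulVec, Matrix.mul_adjugate, Matrix.smul_mulVec, Matrix.one_mulVec]
    rfl
  refine ⟨p, hpA, G.det • x - p, ?_, by abel⟩
  rw [LinearMap.BilinForm.mem_orthogonal_iff]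
  intro n hn
  have hn' : n = ∑ i, (a.repr ⟨n, hn⟩ i) • (a i : L) := by
    have := a.sum_repr ⟨n, hn⟩
    have h2 := congrArg (Subtype.val) this
    simp only [AddSubmonoidClass.coe_finsetSum, Submodule.coe_smul_of_tower] at h2
    exact h2.symm
  rw [hn']
  simp only [map_sum, map_smul, LinearMap.sum_apply, LinearMap.smul_apply, map_sub, hp, smul_eq_mul]
  rw [Finset.mul_sum, ← Finset.sum_sub_distrib]
  refine Finset.sum_eq_zero (fun i _ => ?_)
  ring


theorem main (B : BilinForm ℤ L) (hsymm : B.IsSymm) (hpos : ∀ x, x ≠ 0 → 0 < B x x)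
    (A : Submodule ℤ L) (htf : ∀ (c : ℤ) (x : L), c ≠ 0 → c • x ∈ A → x ∈ A) :
    (∀ x : L, (∃ b ∈ B.orthogonal A, ∀ b' ∈ B.orthogonal A, B x b' = B b b') →
        x ∈ A ⊔ B.orthogonal A) ∧
      (∀ x : L, (∃ a ∈ A, ∀ a' ∈ A, B x a' = B a a') → x ∈ A ⊔ B.orthogonal A) ∧
      (∀ ψ : Module.Dual ℤ ↥(B.orthogonal A), ∃ φ : Module.Dual ℤ L,
        φ ∘ₗ (B.orthogonal A).subtype = ψ) ∧
      (∀ ψ : Module.Dual ℤ ↥A, ∃ φ : Module.Dual ℤ L, φ ∘ₗ A.subtype = ψ) := by
  have hsym : ∀ x y, B x y = B y x := fun x y => hsymm.eq x y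
  refine ⟨?_, ?_, ?_, ?_⟩
  · rintro x ⟨b, hb, hxb⟩
    obtain ⟨D, hD, hdec⟩ := exists_decomp B hpos A
    set y := x - b with hy
    have hyorth : ∀ b' ∈ B.orthogonal A, B y b' = 0 := by
      intro b' hb'
      rw [hy, map_sub, LinearMap.sub_apply, hxb b' hb', sub_self]
    obtain ⟨p, hp, q, hq, hpq⟩ := hdec y
    have hq0 : q = 0 := by
      by_contra hne
      have h1 := hpos q hne
      have h2 : B q q = B q (D • y - p) := by rw [hpq]; congr 1; abel
      rw [map_sub, map_smul, hsym q y, hyorth q hq, smul_zero, zero_sub, hsym q p] at h2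
      have h3 : B p q = 0 := (LinearMap.BilinForm.mem_orthogonal_iff.1 hq) p hp
      rw [h3] at h2
      omega
    rw [hq0, add_zero] at hpq
    have hyA : y ∈ A := htf D y hD (hpq ▸ hp)
    have : x = y + b := by rw [hy]; abel
    rw [this]
    exact Submodule.add_mem_sup hyA hb
  · rintro x ⟨a, ha, hxa⟩
    have h1 : x - a ∈ B.orthogonal A := by
      rw [LinearMap.BilinForm.mem_orthogonal_iff]
      intro n hn
      rw [hsym, map_sub, LinearMap.sub_apply, hxa n hn, sub_self]
    have : x = a + (x - a) := by abel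
    rw [this]
    exact Submodule.add_mem_sup ha h1
  · intro ψ
    refine exists_extension (B.orthogonal A) ?_ ψ
    intro c x hc hx
    rw [LinearMap.BilinForm.mem_orthogonal_iff] at hx ⊢
    intro n hn
    have := hx n hn
    rw [map_smul, smul_eq_mul] at this
    rcases mul_eq_zero.1 this with h | h
    · exact absurd h hc
    · exact h
  · intro ψ
    exact exists_extension A htf ψ

end Groth.Agent.H5.Lattice
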