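import Mathlib
import Groth.Agent.Lib.helper5.Lattice

namespace Groth.Agent.H5.Lattice

open LinearMap (BilinForm)

variable {L : Type} [AddCommGroup L] [Module.Finite ℤ L] [Module.Free ℤ L]

/-- every functional on a sublattice is, up to a nonzero denominator, represented by an element -/
theorem exists_repr (B : BilinForm ℤ L) (hpos : ∀ x, x ≠ 0 → 0 < B x x) (A : Submodule ℤ L) :
    ∃ D : ℤ, D ≠ 0 ∧ ∀ ψ : Module.Dual ℤ A, ∃ p ∈ A, ∀ (n : L) (hn : n ∈ A),
      B n p = D * ψ ⟨n, hn⟩ := by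
  classical
  let ι := Module.Free.ChooseBasisIndex ℤ A
  let a : Module.Basis ι ℤ A := Module.Free.chooseBasis ℤ A
  let βA : BilinForm ℤ A := B.restrict A
  have hβA : ∀ x y : A, βA x y = B x y := fun x y => rfl
  let G : Matrix ι ι ℤ := LinearMap.BilinForm.toMatrix a βA
  have hG : ∀ i j, G i j = B (a i) (a j) := fun i j => by
    simp only [G, LinearMap.BilinForm.toMatrix_apply, hβA]
  have hnd : βA.Nondegenerate := by
    constructor
    · intro x hx
      by_contra hne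
      have h1 : (x : L) ≠ 0 := fun h => hne (Subtype.ext h)
      have h2 := hpos x h1
      have h3 : B x x = 0 := hx x
      omega
    · intro x hx
      by_contra hne
      have h1 : (x : L) ≠ 0 := fun h => hne (Subtype.ext h)
      have h2 := hpos x h1
      have h3 : B x x = 0 := hx x
      omega
  have hD : G.det ≠ 0 := (LinearMap.BilinForm.nondegenerate_iff_det_ne_zero a).1 hnd
  refine ⟨G.det, hD, fun ψ => ?_⟩
  let w : ι → ℤ := fun i => ψ (a i)
  let c : ι → ℤ := G.adjugate.mulVec w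
  let p : L := ∑ i, c i • (a i : L)
  have hpA : p ∈ A := Submodule.sum_mem _ (fun i _ => Submodule.smul_mem _ _ (a i).2)
  have hp : ∀ j, B (a j) p = G.det * ψ (a j) := by
    intro j
    have h1 : B (a j) p = (G.mulVec c) j := by
      simp only [p, map_sum, map_smul, smul_eq_mul, Matrix.mulVec, dotProduct, hG]
      refine Finset.sum_congr rfl (fun i _ => ?_)
      ring
    rw [h1]
    show (G.mulVec (G.adjugate.mulVec w)) j = _
    rw [Matrix.mulVec_mulVec, Matrix.mul_adjugate, Matrix.smul_mulVec, Matrix.one_mulVec]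
    rfl
  refine ⟨p, hpA, fun n hn => ?_⟩
  have hrep := a.sum_repr ⟨n, hn⟩
  have hn' : n = ∑ i, (a.repr ⟨n, hn⟩ i) • (a i : L) := by
    have h2 := congrArg (Subtype.val) hrep
    simp only [AddSubmonoidClass.coe_finsetSum, Submodule.coe_smul_of_tower] at h2
    exact h2.symm
  have h3 : ψ ⟨n, hn⟩ = ∑ i, (a.repr ⟨n, hn⟩ i) * ψ (a i) := by
    conv_lhs => rw [← hrep]
    simp only [map_sum, map_smul, smul_eq_mul]
  rw [h3]
  have h4 : B n p = ∑ i, (a.repr ⟨n, hn⟩ i) * (G.det * ψ (a i)) := by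
    conv_lhs => rw [hn']
    simp only [map_sum, map_smul, LinearMap.sum_apply, LinearMap.smul_apply, hp, smul_eq_mul]
  rw [h4, Finset.mul_sum]
  refine Finset.sum_congr rfl (fun i _ => ?_)
  ring


theorem coker_torsion_equiv {L₀ L₁ : Type} [AddCommGroup L₀] [AddCommGroup L₁]
    [Module.Finite ℤ L₀] [Module.Free ℤ L₀] [Module.Finite ℤ L₁] [Module.Free ℤ L₁]
    (B₀ : LinearMap.BilinForm ℤ L₀) (B₁ : LinearMap.BilinForm ℤ L₁) (h₀s : B₀.IsSymm)
    (h₁s : B₁.IsSymm)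
    (h₁p : ∀ x, x ≠ 0 → 0 < B₁ x x) (huni : Function.Bijective B₀)
    (d : L₀ →ₗ[ℤ] L₁) (ds : L₁ →ₗ[ℤ] L₀) (hadj : ∀ x y, B₁ (d x) y = B₀ x (ds y)) :
    ∃ Φ : ↥(Submodule.torsion ℤ (L₀ ⧸ LinearMap.range (ds ∘ₗ d))) ≃ₗ[ℤ]
        (Module.Dual ℤ ↥(LinearMap.range d) ⧸
          LinearMap.range ((B₁.compl₂ (LinearMap.range d).subtype) ∘ₗ
            (LinearMap.range d).subtype)),
      ∀ (x : L₀) (hx : Submodule.Quotient.mk x ∈
          Submodule.torsion ℤ (L₀ ⧸ LinearMap.range (ds ∘ₗ d)))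
        (ψ : Module.Dual ℤ ↥(LinearMap.range d)),
        (∀ y' : L₀, ψ ⟨d y', LinearMap.mem_range_self d y'⟩ = B₀ x y') →
          Φ ⟨Submodule.Quotient.mk x, hx⟩ = Submodule.Quotient.mk ψ := by
  classical
  have hs0 : ∀ x y, B₀ x y = B₀ y x := fun x y => h₀s.eq x y
  have hs1 : ∀ x y, B₁ x y = B₁ y x := fun x y => h₁s.eq x y
  set M := LinearMap.range d with hM
  set R := LinearMap.range (ds ∘ₗ d) with hR
  set M' := LinearMap.range ((B₁.compl₂ M.subtype) ∘ₗ M.subtype) with hM'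
  let d' : L₀ →ₗ[ℤ] M := d.rangeRestrict
  have hd' : ∀ y, (d' y : L₁) = d y := fun y => rfl
  have hd'surj : Function.Surjective d' := LinearMap.surjective_rangeRestrict d
  let E₀ : L₀ ≃ₗ[ℤ] Module.Dual ℤ L₀ := LinearEquiv.ofBijective B₀ huni
  let Θ : Module.Dual ℤ M →ₗ[ℤ] L₀ := E₀.symm.toLinearMap ∘ₗ d'.dualMap
  have hΘ : ∀ ψ y', B₀ (Θ ψ) y' = ψ (d' y') := by
    intro ψ y'
    have h1 : B₀ (Θ ψ) = d'.dualMap ψ := E₀.apply_symm_apply (d'.dualMap ψ)
    rw [h1, LinearMap.dualMap_apply]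
  have K1 : ∀ y y', B₀ (ds (d y)) y' = B₁ (d y) (d y') := by
    intro y y'
    rw [hs0, ← hadj, hs1]
  have K2 : ∀ x x', (∀ y', B₀ x y' = B₀ x' y') → x = x' := by
    intro x x' h
    exact huni.1 (LinearMap.ext h)
  -- the representability lemma
  obtain ⟨D, hD, hrep⟩ := exists_repr B₁ h₁p M
  -- τ
  have htors : ∀ ψ : Module.Dual ℤ M, R.mkQ (Θ ψ) ∈ Submodule.torsion ℤ (L₀ ⧸ R) := by
    intro ψ
    obtain ⟨p, hp, hpψ⟩ := hrep ψ
    obtain ⟨y, rfl⟩ := hp
    rw [Submodule.mem_torsion_iff]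
    refine ⟨⟨D, mem_nonZeroDivisors_of_ne_zero hD⟩, ?_⟩
    show D • R.mkQ (Θ ψ) = 0
    rw [← map_smul, Submodule.mkQ_apply, Submodule.Quotient.mk_eq_zero]
    have : D • Θ ψ = ds (d y) := by
      apply K2
      intro y'
      rw [map_smul, LinearMap.smul_apply, hΘ, K1, smul_eq_mul, hs1, hpψ (d y') ⟨y', rfl⟩]
      rfl
    rw [this]
    exact ⟨y, rfl⟩
  let τ : Module.Dual ℤ M →ₗ[ℤ] Submodule.torsion ℤ (L₀ ⧸ R) :=
    LinearMap.codRestrict _ (R.mkQ ∘ₗ Θ) htors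
  have hτ : ∀ ψ, (τ ψ : L₀ ⧸ R) = Submodule.Quotient.mk (Θ ψ) := fun ψ => rfl
  have hM'mem : ∀ ψ : Module.Dual ℤ M, ψ ∈ M' ↔ ∃ y, ∀ y', ψ (d' y') = B₁ (d y) (d y') := by
    intro ψ
    constructor
    · rintro ⟨m, rfl⟩
      obtain ⟨y, hy⟩ := m.2
      refine ⟨y, fun y' => ?_⟩
      show B₁ (m : L₁) (d' y' : L₁) = _
      rw [← hy]
      rfl
    · rintro ⟨y, hy⟩
      refine ⟨d' y, ?_⟩
      apply LinearMap.ext
      intro m
      obtain ⟨y', rfl⟩ := hd'surj m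
      rw [hy]
      rfl
  have hle : M' ≤ LinearMap.ker τ := by
    intro ψ hψ
    obtain ⟨y, hy⟩ := (hM'mem ψ).1 hψ
    rw [LinearMap.mem_ker]
    apply Subtype.ext
    rw [hτ]
    show Submodule.Quotient.mk (Θ ψ) = 0
    rw [Submodule.Quotient.mk_eq_zero]
    have : Θ ψ = ds (d y) := by
      apply K2
      intro y'
      rw [hΘ, hy, K1]
    rw [this]
    exact ⟨y, rfl⟩
  let Ψ : (Module.Dual ℤ M ⧸ M') →ₗ[ℤ] Submodule.torsion ℤ (L₀ ⧸ R) := M'.liftQ τ hle
  have hΨ : ∀ ψ, Ψ (Submodule.Quotient.mk ψ) = τ ψ := fun ψ => rfl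
  have hinj : Function.Injective Ψ := by
    rw [← LinearMap.ker_eq_bot]
    apply Submodule.ker_liftQ_eq_bot
    intro ψ hψ
    rw [LinearMap.mem_ker] at hψ
    have h1 : (τ ψ : L₀ ⧸ R) = 0 := by rw [hψ]; rfl
    rw [hτ, Submodule.Quotient.mk_eq_zero] at h1
    obtain ⟨y, hy⟩ := h1
    rw [hM'mem]
    refine ⟨y, fun y' => ?_⟩
    rw [← hΘ, ← K1, ← hy]
    rfl
  have hsurj : Function.Surjective Ψ := by
    rintro ⟨q, hq⟩
    obtain ⟨x, rfl⟩ := Submodule.Quotient.mk_surjective R q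
    obtain ⟨⟨a, ha⟩, hax⟩ := (Submodule.mem_torsion_iff _).1 hq
    have ha0 : a ≠ 0 := nonZeroDivisors.ne_zero ha
    have hax' : a • x ∈ R := by
      rw [← Submodule.Quotient.mk_eq_zero, Submodule.Quotient.mk_smul]
      exact hax
    obtain ⟨y, hy⟩ := hax'
    have hker : LinearMap.ker d ≤ LinearMap.ker (B₀ x) := by
      intro y' hy'
      rw [LinearMap.mem_ker] at hy' ⊢
      have h1 : a * B₀ x y' = 0 := by
        have : B₀ (a • x) y' = B₁ (d y) (d y') := by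
          rw [← hy]
          exact K1 y y'
        rw [map_smul, LinearMap.smul_apply, smul_eq_mul] at this
        rw [this, hy', map_zero]
      rcases mul_eq_zero.1 h1 with h | h
      · exact absurd h ha0
      · exact h
    let ψ : Module.Dual ℤ M :=
      ((LinearMap.ker d).liftQ (B₀ x) hker) ∘ₗ d.quotKerEquivRange.symm.toLinearMap
    have hψ : ∀ y', ψ (d' y') = B₀ x y' := by
      intro y'
      show ((LinearMap.ker d).liftQ (B₀ x) hker) (d.quotKerEquivRange.symm (d' y')) = _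
      have : d.quotKerEquivRange.symm (d' y') = (LinearMap.ker d).mkQ y' :=
        d.quotKerEquivRange_symm_apply_image y' _
      rw [this]
      rfl
    refine ⟨Submodule.Quotient.mk ψ, ?_⟩
    rw [hΨ]
    apply Subtype.ext
    rw [hτ]
    have : Θ ψ = x := by
      apply K2
      intro y'
      rw [hΘ, hψ]
    rw [this]
  refine ⟨(LinearEquiv.ofBijective Ψ ⟨hinj, hsurj⟩).symm, ?_⟩
  intro x hx ψ hψ
  rw [LinearEquiv.symm_apply_eq]
  show _ = Ψ (Submodule.Quotient.mk ψ)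
  rw [hΨ]
  apply Subtype.ext
  rw [hτ]
  have : Θ ψ = x := by
    apply K2
    intro y'
    rw [hΘ]
    exact hψ y'
  rw [this]

end Groth.Agent.H5.Lattice
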