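import Mathlib
import Groth.Prelude.Def_Dyn
import Groth.Prelude.Def_LieHopf
import Groth.Agent.Lib.helper5.Conv3

/-! # Points `e + tD` in the convolution algebra -/

namespace Groth.Agent.H5.LieConv

open TensorProduct WithConv Coalgebra

universe u

/-- The group commutator of `1 + t d` and `1 + t' e` when `t² = 0 = t'²`. -/
theorem comm_formula {R W : Type*} [CommRing R] [Ring W] [Algebra R W] (t t' : R)
    (ht : t * t = 0) (ht' : t' * t' = 0) (d e : W) :
    (1 + t • d) * (1 + t' • e) * (1 - t • d) * (1 - t' • e) = 1 + (t * t') • (d * e - e * d) := by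
  set u := t • d with hu
  set v := t' • e with hv
  have huu : ∀ w : W, u * w * u = 0 := fun w => by
    rw [hu, smul_mul_assoc, mul_smul_comm, smul_mul_assoc, smul_smul, ht, zero_smul]
  have hvv : ∀ w : W, v * w * v = 0 := fun w => by
    rw [hv, smul_mul_assoc, mul_smul_comm, smul_mul_assoc, smul_smul, ht', zero_smul]
  have hu2 : u * u = 0 := by simpa using huu 1
  have hv2 : v * v = 0 := by simpa using hvv 1
  have key : (1 + u) * (1 + v) * (1 - u) * (1 - v) =
      1 + u * v - v * u - u * u - u * v * u - v * v - u * (v * v) + v * u * v + u * u * v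
        + u * v * u * v := by noncomm_ring
  rw [key, hu2, hv2, huu, hvv]
  simp only [mul_zero, zero_mul, sub_zero, add_zero]
  rw [hu, hv, smul_mul_smul_comm, smul_mul_smul_comm, mul_comm t' t, smul_sub]
  abel

variable {k : Type u} [CommRing k] {A : Type u} [CommRing A] [HopfAlgebra k A]

theorem sum_counit_right_smul_left (a : A) (𝓡 : Coalgebra.Repr k a (A × A)) :
    ∑ i ∈ 𝓡.index, Coalgebra.counit (R := k) (𝓡.right i) • 𝓡.left i = a := by
  have := congrArg (TensorProduct.lift ((LinearMap.lsmul k A).flip)) (Coalgebra.sum_tmul_counit_eq 𝓡)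
  simpa only [map_sum, TensorProduct.lift.tmul, LinearMap.flip_apply, LinearMap.lsmul_apply,
    one_smul] using this

/-- An `ε`-derivation is odd with respect to the antipode. -/
theorem dlin_antipode (D : LieHopf.Lie k A) (a : A) :
    LieHopf.dlin D (HopfAlgebra.antipode k a) = - LieHopf.dlin D a := by
  set 𝓡 := ℛ k a
  have h := HopfAlgebra.sum_antipode_mul_eq_algebraMap_counit 𝓡
  have h' := congrArg (LieHopf.dlin D) h
  rw [map_sum, LieHopf.dlin_algebraMap] at h'
  simp only [LieHopf.dlin_mul, Bialgebra.counitAlgHom_apply, HopfAlgebra.counit_antipode] at h'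
  rw [Finset.sum_add_distrib] at h'
  have e1 : ∑ i ∈ 𝓡.index, Coalgebra.counit (R := k) (𝓡.left i) * LieHopf.dlin D (𝓡.right i)
      = LieHopf.dlin D a := by
    conv_rhs => rw [← Coalgebra.sum_counit_smul 𝓡]
    simp only [map_sum, map_smul, smul_eq_mul]
  have e2 : ∑ i ∈ 𝓡.index, Coalgebra.counit (R := k) (𝓡.right i) *
      LieHopf.dlin D (HopfAlgebra.antipode k (𝓡.left i)) =
        LieHopf.dlin D (HopfAlgebra.antipode k a) := by
    conv_rhs => rw [← sum_counit_right_smul_left a 𝓡]
    simp only [map_sum, map_smul, smul_eq_mul]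
  rw [e1, e2] at h'
  linear_combination h'

variable (R : Type u) [CommRing R] [Algebra k R]

/-- The `ε`-derivation `D` as an element of the convolution algebra `Hom_k(A, R)`. -/
noncomputable def dR (D : LieHopf.Lie k A) : WithConv (A →ₗ[k] R) :=
  toConv ((Algebra.linearMap k R) ∘ₗ LieHopf.dlin D)

theorem ptOfLie_eq (D : LieHopf.Lie k A) (t : R) (ht : t * t = 0) :
    toConv (LieHopf.ptOfLie D R t ht).toLinearMap = 1 + t • dR R D := by
  ext a
  simp [LieHopf.ptOfLie, dR, mul_comm]

theorem ptOfLie_inv_eq (D : LieHopf.Lie k A) (t : R) (ht : t * t = 0) :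
    toConv ((LieHopf.ptOfLie D R t ht).comp (HopfAlgebra.antipodeAlgHom k A)).toLinearMap =
      1 - t • dR R D := by
  ext a
  simp [LieHopf.ptOfLie, dR, mul_comm, dlin_antipode, sub_eq_add_neg]

theorem dR_mul_apply (D E : LieHopf.Lie k A) (a : A) :
    (dR R D * dR R E) a = algebraMap k R (LieHopf.conv (LieHopf.dlin D) (LieHopf.dlin E) a) := by
  rw [(ℛ k a).convMul_apply]
  unfold LieHopf.conv
  simp only [LinearMap.comp_apply]
  rw [← (ℛ k a).eq]
  simp [dR]

end Groth.Agent.H5.LieConv
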