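import Mathlib

/-! Minkowski-type lemma: roots of unity congruent to `1` modulo `n` in a torsion-free finite
`ℤ`-algebra (helper5). -/

namespace Groth.Agent.H5.Minkowski

open Finset

variable {E : Type*} [CommRing E] [NoZeroSMulDivisors ℤ E] [Module.Finite ℤ E]

omit [Module.Finite ℤ E] in
theorem intCast_mul_cancel {q : ℤ} (hq : q ≠ 0) {a b : E} (h : (q : E) * a = (q : E) * b) : a = b := by
  rw [← zsmul_eq_mul, ← zsmul_eq_mul] at h
  exact smul_right_injective E hq h

omit [Module.Finite ℤ E] in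
theorem natCast_pow_mul_cancel {q : ℕ} (hq : q ≠ 0) (k : ℕ) {a b : E}
    (h : (q : E) ^ k * a = (q : E) ^ k * b) : a = b := by
  have h' : ((q ^ k : ℕ) : ℤ) ≠ 0 := by positivity
  apply intCast_mul_cancel h'
  push_cast
  exact h

theorem eq_zero_of_forall_pow_dvd (q : ℕ) (hq : 2 ≤ q) (x : E) (h : ∀ k : ℕ, (q : E) ^ k ∣ x) :
    x = 0 := by
  classical
  let b := Module.Free.chooseBasis ℤ E
  apply b.repr.injective
  rw [map_zero]
  ext i
  rw [Finsupp.zero_apply]
  have hall : ∀ k : ℕ, ((q : ℤ) ^ k) ∣ b.repr x i := by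
    intro k
    obtain ⟨y, hy⟩ := h k
    refine ⟨b.repr y i, ?_⟩
    have h1 : x = ((q : ℤ) ^ k) • y := by
      rw [zsmul_eq_mul, hy]
      push_cast
      rfl
    rw [h1, map_smul, Finsupp.smul_apply, smul_eq_mul]
  generalize b.repr x i = c at hall
  apply Int.eq_zero_of_abs_lt_dvd (hall c.natAbs)
  have h2 : (c.natAbs : ℤ) < (q : ℤ) ^ c.natAbs := by
    have h3 : c.natAbs < 2 ^ c.natAbs := Nat.lt_two_pow_self
    have h4 : 2 ^ c.natAbs ≤ q ^ c.natAbs := Nat.pow_le_pow_left hq _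
    exact_mod_cast lt_of_lt_of_le h3 h4
  rwa [Int.abs_eq_natAbs]

/-- The core descent. -/
theorem core (l q : ℕ) (hq : 2 ≤ q) (x c : E) (heq : (l : E) * x = -(x ^ 2 * c)) (k₀ : ℕ)
    (hk₀ : (q : E) ^ k₀ ∣ x)
    (hstep : ∀ k : ℕ, k₀ ≤ k → ∀ y : E, (l : E) * y = -((q : E) ^ k * (y ^ 2 * c)) → (q : E) ∣ y) :
    x = 0 := by
  apply eq_zero_of_forall_pow_dvd q hq
  have hbig : ∀ k : ℕ, k₀ ≤ k → (q : E) ^ k ∣ x := by
    intro k hk
    induction k, hk using Nat.le_induction with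
    | base => exact hk₀
    | succ k hk ih =>
      obtain ⟨y, hy⟩ := ih
      have h1 : (q : E) ^ k * ((l : E) * y) = (q : E) ^ k * (-((q : E) ^ k * (y ^ 2 * c))) := by
        have := heq
        rw [hy] at this
        linear_combination this
      have h2 := natCast_pow_mul_cancel (by omega : q ≠ 0) k h1
      obtain ⟨z, hz⟩ := hstep k hk y h2
      exact ⟨z, by rw [hy, hz, pow_succ]; ring⟩
  intro k
  by_cases hk : k₀ ≤ k
  · exact hbig k hk
  · exact dvd_trans (pow_dvd_pow _ (by omega)) hk₀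

omit [NoZeroSMulDivisors ℤ E] [Module.Finite ℤ E] in
/-- Binomial expansion of `(1 + x)^(l+2) = 1`. -/
theorem expand (l : ℕ) (x : E) (h : (x + 1) ^ (l + 2) = 1) :
    ((l + 2 : ℕ) : E) * x =
      -(x ^ 2 * ∑ m ∈ range (l + 1), x ^ m * ((l + 2).choose (m + 2) : E)) := by
  rw [add_pow, sum_range_succ', sum_range_succ'] at h
  simp only [one_pow, mul_one, pow_zero, Nat.choose_zero_right, Nat.cast_one, zero_add, pow_one,
    Nat.choose_one_right] at h
  rw [mul_sum]
  have h2 : ∑ m ∈ range (l + 1), x ^ (m + 1 + 1) * ((l + 2).choose (m + 1 + 1) : E) =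
      ∑ m ∈ range (l + 1), x ^ 2 * (x ^ m * ((l + 2).choose (m + 2) : E)) := by
    refine sum_congr rfl fun m _ => ?_
    rw [pow_add, pow_add]
    ring
  rw [h2] at h
  linear_combination h

/-- Case A: `l` coprime to `q`. -/
theorem caseA (l q : ℕ) (hl : 2 ≤ l) (hq : 2 ≤ q) (hcop : Nat.Coprime l q) (w : E)
    (hw : w ^ l = 1) (hdvd : (q : E) ∣ w - 1) : w = 1 := by
  obtain ⟨l', rfl⟩ : ∃ l', l = l' + 2 := ⟨l - 2, by omega⟩
  have hx : (w - 1 + 1) ^ (l' + 2) = 1 := by rw [sub_add_cancel]; exact hw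
  have heq := expand l' (w - 1) hx
  have h0 : w - 1 = 0 := by
    refine core (l' + 2) q hq (w - 1) _ heq 1 (by simpa using hdvd) ?_
    intro k hk y hy
    -- `q ∣ l y` and `l` coprime to `q`
    have h1 : (q : E) ∣ ((l' + 2 : ℕ) : E) * y := by
      rw [hy]
      apply Dvd.dvd.neg_right
      exact Dvd.dvd.mul_right (dvd_pow_self _ (by omega)) _
    have hc : IsCoprime ((l' + 2 : ℕ) : ℤ) (q : ℤ) := Nat.isCoprime_iff_coprime.mpr hcop
    obtain ⟨a, b, hab⟩ := hc
    have h2 : y = (a : E) * (((l' + 2 : ℕ) : E) * y) + (q : E) * ((b : E) * y) := by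
      have h3 : ((a * ((l' + 2 : ℕ) : ℤ) + b * (q : ℤ) : ℤ) : E) = 1 := by rw [hab]; simp
      rw [Int.cast_add, Int.cast_mul, Int.cast_mul, Int.cast_natCast, Int.cast_natCast] at h3
      linear_combination (-y) * h3
    rw [h2]
    exact dvd_add (Dvd.dvd.mul_left h1 _) (Dvd.intro _ rfl)
  exact sub_eq_zero.mp h0

/-- Case B: `l` an odd prime and `w ≡ 1` modulo `l`. -/
theorem caseB (l : ℕ) (hl : l.Prime) (hl2 : l ≠ 2) (w : E) (hw : w ^ l = 1)
    (hdvd : (l : E) ∣ w - 1) : w = 1 := by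
  have hl3 : 3 ≤ l := by
    have := hl.two_le
    omega
  obtain ⟨l', rfl⟩ : ∃ l', l = l' + 2 := ⟨l - 2, by omega⟩
  have hx : (w - 1 + 1) ^ (l' + 2) = 1 := by rw [sub_add_cancel]; exact hw
  have heq := expand l' (w - 1) hx
  set c := ∑ m ∈ range (l' + 1), (w - 1) ^ m * ((l' + 2).choose (m + 2) : E) with hc
  have hcd : ((l' + 2 : ℕ) : E) ∣ c := by
    rw [hc]
    apply Finset.dvd_sum
    intro m hm
    have hm' : m < l' + 1 := mem_range.mp hm
    by_cases hml : m = l'
    · subst hml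
      apply Dvd.dvd.mul_right
      exact dvd_trans hdvd (dvd_pow_self _ (by omega))
    · apply Dvd.dvd.mul_left
      have : (l' + 2) ∣ (l' + 2).choose (m + 2) :=
        hl.dvd_choose_self (by omega) (by omega)
      exact Nat.cast_dvd_cast this
  obtain ⟨c', hc'⟩ := hcd
  have h0 : w - 1 = 0 := by
    refine core (l' + 2) (l' + 2) (by omega) (w - 1) c heq 1 (by simpa using hdvd) ?_
    intro k hk y hy
    rw [hc'] at hy
    have h1 : (((l' + 2 : ℕ) : ℤ) : E) * y =
        (((l' + 2 : ℕ) : ℤ) : E) * (-(((l' + 2 : ℕ) : E) ^ k * (y ^ 2 * c'))) := by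
      push_cast
      push_cast at hy
      linear_combination hy
    have h2 := intCast_mul_cancel (by positivity) h1
    rw [h2]
    apply Dvd.dvd.neg_right
    exact Dvd.dvd.mul_right (dvd_pow_self _ (by omega)) _
  exact sub_eq_zero.mp h0

/-- Case C: `w^2 = 1` and `w ≡ 1` modulo `4`. -/
theorem caseC (w : E) (hw : w ^ 2 = 1) (hdvd : (4 : E) ∣ w - 1) : w = 1 := by
  have hx : (w - 1 + 1) ^ (0 + 2) = 1 := by rw [sub_add_cancel]; exact hw
  have heq := expand 0 (w - 1) hx
  simp only [zero_add, range_one, sum_singleton, pow_zero, Nat.choose_self, Nat.cast_one,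
    mul_one] at heq
  have h0 : w - 1 = 0 := by
    refine core 2 2 le_rfl (w - 1) 1 (by simpa using heq) 2 ?_ ?_
    · have : ((2 : ℕ) : E) ^ 2 = 4 := by norm_num
      rw [this]; exact hdvd
    · intro k hk y hy
      obtain ⟨k', rfl⟩ : ∃ k', k = k' + 2 := ⟨k - 2, by omega⟩
      have h1 : (((2 : ℕ) : ℤ) : E) * y =
          (((2 : ℕ) : ℤ) : E) * (-(((2 : ℕ) : E) ^ (k' + 1) * (y ^ 2 * 1))) := by
        push_cast
        push_cast at hy
        rw [hy]
        ring
      have h2 := intCast_mul_cancel (by norm_num) h1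
      rw [h2]
      apply Dvd.dvd.neg_right
      exact Dvd.dvd.mul_right (dvd_pow_self _ (by omega)) _
  exact sub_eq_zero.mp h0

omit [NoZeroSMulDivisors ℤ E] [Module.Finite ℤ E] in
theorem dvd_pow_sub_one {n : E} {u : E} (h : n ∣ u - 1) (l : ℕ) : n ∣ u ^ l - 1 := by
  rw [← mul_geom_sum]
  exact Dvd.dvd.mul_right h _

/-- The prime-exponent step for `n ≥ 3`. -/
theorem prime_step_ge_three (l : ℕ) (hl : l.Prime) (n : ℕ) (hn : 3 ≤ n) (u : E) (hu : u ^ l = 1)
    (hdvd : (n : E) ∣ u - 1) : u = 1 := by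
  by_cases hln : l ∣ n
  · by_cases hl2 : l = 2
    · subst hl2
      by_cases h4 : 4 ∣ n
      · apply caseC u hu
        have : ((4 : ℕ) : E) ∣ (n : E) := Nat.cast_dvd_cast h4
        exact dvd_trans (by simpa using this) hdvd
      · obtain ⟨n', rfl⟩ := hln
        have hodd : ¬ 2 ∣ n' := fun h => h4 (by obtain ⟨t, rfl⟩ := h; exact ⟨t, by ring⟩)
        have hn' : 2 ≤ n' := by omega
        apply caseA 2 n' le_rfl hn' _ u hu
        · have : ((n' : ℕ) : E) ∣ ((2 * n' : ℕ) : E) := Nat.cast_dvd_cast (Dvd.intro_left 2 rfl)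
          exact dvd_trans this hdvd
        · exact (Nat.Prime.coprime_iff_not_dvd Nat.prime_two).mpr hodd
    · apply caseB l hl hl2 u hu
      exact dvd_trans (Nat.cast_dvd_cast hln) hdvd
  · exact caseA l n hl.two_le (by omega) ((Nat.Prime.coprime_iff_not_dvd hl).mpr hln) u hu hdvd

theorem main (n : ℕ) (hn : 2 ≤ n) : ∀ (m : ℕ), 0 < m → ∀ u : E, u ^ m = 1 → (n : E) ∣ u - 1 →
    u ^ 2 = 1 ∧ (3 ≤ n → u = 1) := by
  intro m
  induction m using Nat.strong_induction_on with
  | _ m ih =>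
    intro hm u hu hdvd
    by_cases hm1 : m = 1
    · subst hm1
      rw [pow_one] at hu
      subst hu
      exact ⟨one_pow 2, fun _ => rfl⟩
    have hl : (Nat.minFac m).Prime := Nat.minFac_prime hm1
    set l := Nat.minFac m with hldef
    obtain ⟨m', hm'⟩ : l ∣ m := Nat.minFac_dvd m
    have hm'pos : 0 < m' := by
      rcases Nat.eq_zero_or_pos m' with h | h
      · rw [h, mul_zero] at hm'; omega
      · exact h
    have hm'lt : m' < m := by
      rw [hm']
      have := hl.two_le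
      nlinarith
    have hu' : (u ^ l) ^ m' = 1 := by rw [← pow_mul, ← hm']; exact hu
    obtain ⟨h2, h3⟩ := ih m' hm'lt hm'pos (u ^ l) hu' (dvd_pow_sub_one hdvd l)
    by_cases hn3 : 3 ≤ n
    · have hul : u ^ l = 1 := h3 hn3
      have hu1 : u = 1 := prime_step_ge_three l hl n hn3 u hul hdvd
      exact ⟨by rw [hu1, one_pow], fun _ => hu1⟩
    · have hn2 : n = 2 := by omega
      subst hn2
      refine ⟨?_, fun h => absurd h hn3⟩
      -- `z = u^2` satisfies `z^l = 1` and `z ≡ 1 mod 4`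
      have hz : (u ^ 2) ^ l = 1 := by rw [← pow_mul, mul_comm, pow_mul]; exact h2
      have hz4 : (4 : E) ∣ u ^ 2 - 1 := by
        obtain ⟨v, hv⟩ := hdvd
        refine ⟨v ^ 2 + v, ?_⟩
        have : u = 1 + ((2 : ℕ) : E) * v := by rw [← hv]; ring
        rw [this]
        push_cast
        ring
      by_cases hl2 : l = 2
      · rw [hl2] at hz
        exact caseC (u ^ 2) hz hz4
      · apply caseA l 4 hl.two_le (by norm_num) _ (u ^ 2) hz (by simpa using hz4)
        have : Nat.Coprime l 2 := (Nat.coprime_primes hl Nat.prime_two).mpr hl2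
        exact Nat.Coprime.pow_right 2 this

end Groth.Agent.H5.Minkowski
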