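import Mathlib

/-!
# The graded ring `S♮` with `S♮_n = S_{≥ n}` (EGA II 2.1)

Presented as a graded ring `B` with an injective algebra map `φ : B → A[X]` with
`φ(B_n) = A_{≥ n} X^n`.
-/

set_option autoImplicit false
universe u

namespace Groth.Agent.H5.Natural

open scoped BigOperators

variable {R A : Type u} [CommRing R] [CommRing A] [Algebra R A]
  (𝒜 : ℕ → Submodule R A) [GradedAlgebra 𝒜]

/-- `A_{≥ n}` -/
def Age (n : ℕ) : Submodule R A := ⨆ (m : ℕ) (_ : n ≤ m), 𝒜 m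

theorem le_Age {n m : ℕ} (h : n ≤ m) : 𝒜 m ≤ Age 𝒜 n := le_iSup₂_of_le m h le_rfl

theorem Age_le_iff {n : ℕ} {T : Submodule R A} : Age 𝒜 n ≤ T ↔ ∀ m, n ≤ m → 𝒜 m ≤ T :=
  iSup₂_le_iff

theorem Age_antitone {n m : ℕ} (h : n ≤ m) : Age 𝒜 m ≤ Age 𝒜 n :=
  (Age_le_iff 𝒜).mpr fun _ hk => le_Age 𝒜 (h.trans hk)

@[elab_as_elim]
theorem Age_induction {n : ℕ} {motive : A → Prop} {x : A} (hx : x ∈ Age 𝒜 n)
    (mem : ∀ m, n ≤ m → ∀ y ∈ 𝒜 m, motive y) (zero : motive 0)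
    (add : ∀ y z, motive y → motive z → motive (y + z)) : motive x := by
  rw [Age, iSup_subtype'] at hx
  exact Submodule.iSup_induction (motive := motive) _ hx (fun i y hy => mem i.1 i.2 y hy) zero add

theorem mul_le_graded (i j : ℕ) : 𝒜 i * 𝒜 j ≤ 𝒜 (i + j) :=
  Submodule.mul_le.mpr fun _ hx _ hy => SetLike.mul_mem_graded hx hy

theorem pow_le_graded (i j : ℕ) : 𝒜 i ^ j ≤ 𝒜 (j * i) := by
  induction j with
  | zero =>
    rw [pow_zero, zero_mul, Submodule.one_eq_span, Submodule.span_le]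
    rintro _ rfl
    exact SetLike.GradedOne.one_mem
  | succ j ih =>
    rw [pow_succ, Nat.succ_mul]
    exact (mul_le_mul' ih le_rfl).trans (mul_le_graded 𝒜 _ _)

theorem Age_mul_le (i j : ℕ) : Age 𝒜 i * Age 𝒜 j ≤ Age 𝒜 (i + j) := by
  refine Submodule.mul_le.mpr fun u hu v hv => ?_
  refine Age_induction 𝒜 hu (fun i' hi' u hu => ?_) (by simp) (fun y z h1 h2 => ?_)
  · refine Age_induction 𝒜 hv (fun j' hj' v hv => ?_) (by simp) (fun y z h1 h2 => ?_)
    · exact le_Age 𝒜 (by omega) (SetLike.mul_mem_graded hu hv)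
    · rw [mul_add]; exact add_mem h1 h2
  · rw [add_mul]; exact add_mem h1 h2

theorem one_le_Age_zero : (1 : Submodule R A) ≤ Age 𝒜 0 := by
  rw [Submodule.one_eq_span, Submodule.span_le]
  rintro _ rfl
  exact le_Age 𝒜 le_rfl SetLike.GradedOne.one_mem

theorem Age_pow_le (n : ℕ) : Age 𝒜 1 ^ n ≤ Age 𝒜 n := by
  induction n with
  | zero => rw [pow_zero]; exact one_le_Age_zero 𝒜
  | succ n ih =>
    rw [pow_succ]
    exact (mul_le_mul' ih le_rfl).trans (Age_mul_le 𝒜 n 1)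

/-- degree `i + j` part of a product of elements of `A_{≥ i}` and `A_{≥ j}` -/
theorem proj_mul_of_mem_Age {i j : ℕ} {u v : A} (hu : u ∈ Age 𝒜 i) (hv : v ∈ Age 𝒜 j) :
    GradedRing.proj 𝒜 (i + j) (u * v) = GradedRing.proj 𝒜 i u * GradedRing.proj 𝒜 j v := by
  refine Age_induction 𝒜 hu (fun i' hi' u' hu' => ?_) (by simp) (fun y z h1 h2 => ?_)
  · refine Age_induction 𝒜 hv (fun j' hj' v' hv' => ?_) (by simp) (fun y z h1 h2 => ?_)
    · have huv : u' * v' ∈ 𝒜 (i' + j') := SetLike.mul_mem_graded hu' hv'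
      simp only [GradedRing.proj_apply]
      by_cases h : i' = i ∧ j' = j
      · rw [h.1, h.2] at huv
        rw [h.1] at hu'
        rw [h.2] at hv'
        rw [DirectSum.decompose_of_mem_same 𝒜 huv, DirectSum.decompose_of_mem_same 𝒜 hu',
          DirectSum.decompose_of_mem_same 𝒜 hv']
      · have hne : i' + j' ≠ i + j := by
          intro h'
          exact h ⟨by omega, by omega⟩
        rw [DirectSum.decompose_of_mem_ne 𝒜 huv hne]
        by_cases hi : i' = i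
        · have hj : j' ≠ j := fun hj => h ⟨hi, hj⟩
          rw [DirectSum.decompose_of_mem_ne 𝒜 hv' hj, mul_zero]
        · rw [DirectSum.decompose_of_mem_ne 𝒜 hu' hi, zero_mul]
    · rw [mul_add, map_add, map_add, mul_add, h1, h2]
  · rw [add_mul, map_add, map_add, add_mul, h1, h2]

theorem proj_mem (n : ℕ) (x : A) : GradedRing.proj 𝒜 n x ∈ 𝒜 n := by
  rw [GradedRing.proj_apply]; exact Subtype.mem _

theorem proj_of_mem {n : ℕ} {x : A} (hx : x ∈ 𝒜 n) : GradedRing.proj 𝒜 n x = x := by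
  rw [GradedRing.proj_apply, DirectSum.decompose_of_mem_same 𝒜 hx]

/-! ### graded-level statements -/

theorem Age_succ_eq_iff (n₀ : ℕ) :
    (∀ n : ℕ, n₀ ≤ n → Age 𝒜 (n + 1) = Age 𝒜 1 * Age 𝒜 n) ↔
      (∀ n : ℕ, n₀ ≤ n → 𝒜 (n + 1) = 𝒜 1 * 𝒜 n) := by
  constructor
  · intro h n hn
    refine le_antisymm ?_ ?_
    · intro x hx
      have hx' : x ∈ Age 𝒜 1 * Age 𝒜 n := by
        rw [← h n hn]; exact le_Age 𝒜 le_rfl hx
      have key : ∀ y ∈ Age 𝒜 1 * Age 𝒜 n, GradedRing.proj 𝒜 (1 + n) y ∈ 𝒜 1 * 𝒜 n := by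
        intro y hy
        refine Submodule.mul_induction_on hy (fun u hu v hv => ?_) (fun y z hy hz => ?_)
        · rw [proj_mul_of_mem_Age 𝒜 hu hv]
          exact Submodule.mul_mem_mul (proj_mem 𝒜 _ _) (proj_mem 𝒜 _ _)
        · rw [map_add]; exact add_mem hy hz
      have := key x hx'
      rw [add_comm 1 n, proj_of_mem 𝒜 hx] at this
      exact this
    · have := mul_le_graded 𝒜 1 n
      rwa [add_comm 1 n] at this
  · intro h n hn
    refine le_antisymm ?_ ?_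
    · refine (Age_le_iff 𝒜).mpr fun m hm => ?_
      obtain ⟨k, rfl⟩ : ∃ k, m = k + 1 := ⟨m - 1, by omega⟩
      rw [h k (by omega)]
      exact mul_le_mul' (le_Age 𝒜 le_rfl) (le_Age 𝒜 (by omega))
    · have := Age_mul_le 𝒜 1 n
      rwa [add_comm 1 n] at this

theorem Age_pow_mul_le {n : ℕ} (hn : 1 ≤ n) (k : ℕ) : Age 𝒜 1 ^ n * 𝒜 k ≤ Age 𝒜 1 ^ n := by
  obtain ⟨m, rfl⟩ : ∃ m, n = m + 1 := ⟨n - 1, by omega⟩
  rw [pow_succ, mul_assoc]
  refine mul_le_mul' le_rfl ?_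
  exact (mul_le_mul' le_rfl (le_Age 𝒜 le_rfl)).trans
    ((Age_mul_le 𝒜 1 k).trans (Age_antitone 𝒜 (by omega)))

theorem proj_mem_pow_of_mem_Age_pow (k : ℕ) :
    ∀ y ∈ Age 𝒜 1 ^ k, GradedRing.proj 𝒜 k y ∈ 𝒜 1 ^ k := by
  induction k with
  | zero =>
    intro y hy
    rw [pow_zero] at hy ⊢
    obtain ⟨r, rfl⟩ := Submodule.mem_one.mp hy
    rw [proj_of_mem 𝒜 (SetLike.algebraMap_mem_graded 𝒜 r)]
    exact Submodule.mem_one.mpr ⟨r, rfl⟩
  | succ k ih =>
    intro y hy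
    rw [pow_succ] at hy ⊢
    refine Submodule.mul_induction_on hy (fun u hu v hv => ?_) (fun y z hy hz => ?_)
    · rw [proj_mul_of_mem_Age 𝒜 (Age_pow_le 𝒜 k hu) hv]
      exact Submodule.mul_mem_mul (ih u hu) (proj_mem 𝒜 _ _)
    · rw [map_add]; exact add_mem hy hz

theorem Age_eq_pow_iff (n₀ : ℕ) (hn₀ : 1 ≤ n₀) :
    (∀ n : ℕ, n₀ ≤ n → Age 𝒜 n = Age 𝒜 1 ^ n) ↔ (∀ n : ℕ, n₀ ≤ n → 𝒜 n = 𝒜 1 ^ n) := by
  constructor
  · intro h n hn
    refine le_antisymm ?_ ?_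
    · intro x hx
      have hx' : x ∈ Age 𝒜 1 ^ n := by rw [← h n hn]; exact le_Age 𝒜 le_rfl hx
      have := proj_mem_pow_of_mem_Age_pow 𝒜 n x hx'
      rwa [proj_of_mem 𝒜 hx] at this
    · have := pow_le_graded 𝒜 1 n
      rwa [mul_one] at this
  · intro h n hn
    refine le_antisymm ?_ (Age_pow_le 𝒜 n)
    refine (Age_le_iff 𝒜).mpr fun m hm => ?_
    obtain ⟨k, rfl⟩ : ∃ k, m = n + k := ⟨m - n, by omega⟩
    rw [h (n + k) (by omega), pow_add]
    have h1 : 𝒜 1 ^ k ≤ 𝒜 k := by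
      have := pow_le_graded 𝒜 1 k
      rwa [mul_one] at this
    calc 𝒜 1 ^ n * 𝒜 1 ^ k ≤ Age 𝒜 1 ^ n * 𝒜 k :=
          mul_le_mul' (pow_le_pow_left' (le_Age 𝒜 le_rfl) n) h1
      _ ≤ Age 𝒜 1 ^ n := Age_pow_mul_le 𝒜 (by omega) k

/-! ### monomial maps -/

/-- `a ↦ a X^n` as an `R`-linear map -/
noncomputable def mono (n : ℕ) : A →ₗ[R] Polynomial A :=
  (Polynomial.monomial n : A →ₗ[A] Polynomial A).restrictScalars R

omit [GradedAlgebra 𝒜] in
theorem mono_apply (n : ℕ) (a : A) : (mono n : A →ₗ[R] Polynomial A) a = Polynomial.monomial n a :=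
  rfl

theorem mono_injective (n : ℕ) : Function.Injective (mono n : A →ₗ[R] Polynomial A) :=
  Polynomial.monomial_injective n

theorem map_mono_mul (i j : ℕ) (P Q : Submodule R A) :
    Submodule.map (mono i) P * Submodule.map (mono j) Q = Submodule.map (mono (i + j)) (P * Q) := by
  refine le_antisymm ?_ ?_
  · refine Submodule.mul_le.mpr ?_
    rintro _ ⟨p, hp, rfl⟩ _ ⟨q, hq, rfl⟩
    exact ⟨p * q, Submodule.mul_mem_mul hp hq, by
      simp only [mono, LinearMap.coe_restrictScalars, Polynomial.monomial_mul_monomial]⟩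
  · refine Submodule.map_le_iff_le_comap.mpr (Submodule.mul_le.mpr fun p hp q hq => ?_)
    change (mono (i + j) : A →ₗ[R] Polynomial A) (p * q) ∈
      Submodule.map (mono i) P * Submodule.map (mono j) Q
    have : (mono (i + j) : A →ₗ[R] Polynomial A) (p * q) =
        (mono i : A →ₗ[R] Polynomial A) p * (mono j : A →ₗ[R] Polynomial A) q := by
      simp only [mono, LinearMap.coe_restrictScalars, Polynomial.monomial_mul_monomial]
    rw [this]
    exact Submodule.mul_mem_mul (Submodule.mem_map_of_mem hp) (Submodule.mem_map_of_mem hq)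

theorem map_mono_pow (P : Submodule R A) (n : ℕ) :
    Submodule.map (mono 1) P ^ n = Submodule.map (mono n) (P ^ n) := by
  induction n with
  | zero =>
    rw [pow_zero, pow_zero, Submodule.one_eq_span, Submodule.one_eq_span, Submodule.map_span,
      Set.image_singleton]
    rfl
  | succ n ih => rw [pow_succ, pow_succ, ih, map_mono_mul]

/-! ### transfer along `φ` -/

variable {B : Type u} [CommRing B] [Algebra R B] (ℬ : ℕ → Submodule R B)
  (φ : B →ₐ[R] Polynomial A)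

theorem transfer_mul (hφ : Function.Injective φ)
    (hdeg : ∀ n : ℕ, Submodule.map φ.toLinearMap (ℬ n) = Submodule.map (mono n) (Age 𝒜 n))
    (i j n : ℕ) (h : i + j = n) :
    ℬ n = ℬ i * ℬ j ↔ Age 𝒜 n = Age 𝒜 i * Age 𝒜 j := by
  have hinj : Function.Injective (Submodule.map φ.toLinearMap) :=
    Submodule.map_injective_of_injective (f := φ.toLinearMap) hφ
  rw [← hinj.eq_iff, Submodule.map_mul, hdeg, hdeg, hdeg, map_mono_mul, h,
    (Submodule.map_injective_of_injective (mono_injective n)).eq_iff]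

theorem transfer_pow (hφ : Function.Injective φ)
    (hdeg : ∀ n : ℕ, Submodule.map φ.toLinearMap (ℬ n) = Submodule.map (mono n) (Age 𝒜 n))
    (n : ℕ) :
    ℬ n = ℬ 1 ^ n ↔ Age 𝒜 n = Age 𝒜 1 ^ n := by
  have hinj : Function.Injective (Submodule.map φ.toLinearMap) :=
    Submodule.map_injective_of_injective (f := φ.toLinearMap) hφ
  rw [← hinj.eq_iff, Submodule.map_pow, hdeg, hdeg, map_mono_pow,
    (Submodule.map_injective_of_injective (mono_injective n)).eq_iff]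

theorem natural_succ_eq_one_mul_iff (hφ : Function.Injective φ)
    (hdeg : ∀ n : ℕ, Submodule.map φ.toLinearMap (ℬ n) = Submodule.map (mono n) (Age 𝒜 n))
    (n₀ : ℕ) :
    (∀ n : ℕ, n₀ ≤ n → ℬ (n + 1) = ℬ 1 * ℬ n) ↔ (∀ n : ℕ, n₀ ≤ n → 𝒜 (n + 1) = 𝒜 1 * 𝒜 n) := by
  rw [← Age_succ_eq_iff 𝒜 n₀]
  refine forall₂_congr fun n _ => ?_
  exact transfer_mul 𝒜 ℬ φ hφ hdeg 1 n (n + 1) (add_comm 1 n)

theorem natural_eq_one_pow_iff (hφ : Function.Injective φ)
    (hdeg : ∀ n : ℕ, Submodule.map φ.toLinearMap (ℬ n) = Submodule.map (mono n) (Age 𝒜 n))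
    (n₀ : ℕ) (hn₀ : 1 ≤ n₀) :
    (∀ n : ℕ, n₀ ≤ n → ℬ n = ℬ 1 ^ n) ↔ (∀ n : ℕ, n₀ ≤ n → 𝒜 n = 𝒜 1 ^ n) := by
  rw [← Age_eq_pow_iff 𝒜 n₀ hn₀]
  refine forall₂_congr fun n _ => ?_
  exact transfer_pow 𝒜 ℬ φ hφ hdeg n

end Groth.Agent.H5.Natural
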