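import Mathlib
import Groth.Agent.Lib.helper5.Natural

/-!
# The radical statement for `S♮` (EGA II 2.1.6 (v)), for `S8312`
-/

set_option autoImplicit false
universe u

namespace Groth.Agent.H5.Natural

open scoped BigOperators

variable {R A : Type u} [CommRing R] [CommRing A] [Algebra R A]
  (𝒜 : ℕ → Submodule R A) [GradedAlgebra 𝒜]
  {B : Type u} [CommRing B] [Algebra R B] (ℬ : ℕ → Submodule R B) [GradedAlgebra ℬ]
  (φ : B →ₐ[R] Polynomial A)

omit [GradedAlgebra 𝒜] [GradedAlgebra ℬ] in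
theorem exists_preimage
    (hdeg : ∀ n : ℕ, Submodule.map φ.toLinearMap (ℬ n) = Submodule.map (mono n) (Age 𝒜 n))
    (n : ℕ) (a : A) (ha : a ∈ Age 𝒜 n) : ∃ b ∈ ℬ n, φ b = Polynomial.monomial n a := by
  have : (mono n : A →ₗ[R] Polynomial A) a ∈ Submodule.map φ.toLinearMap (ℬ n) := by
    rw [hdeg]; exact Submodule.mem_map_of_mem ha
  obtain ⟨b, hb, hb'⟩ := this
  exact ⟨b, hb, hb'⟩

omit [GradedAlgebra 𝒜] [GradedAlgebra ℬ] in
theorem exists_image
    (hdeg : ∀ n : ℕ, Submodule.map φ.toLinearMap (ℬ n) = Submodule.map (mono n) (Age 𝒜 n))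
    (n : ℕ) (b : B) (hb : b ∈ ℬ n) : ∃ a ∈ Age 𝒜 n, φ b = Polynomial.monomial n a := by
  have : φ.toLinearMap b ∈ Submodule.map (mono n) (Age 𝒜 n) := by
    rw [← hdeg]; exact Submodule.mem_map_of_mem hb
  obtain ⟨a, ha, ha'⟩ := this
  exact ⟨a, ha, ha'.symm⟩

/-- main case: homogeneous `a` of degree `m ≥ n ≥ 1` -/
theorem homogeneous_case (hφ : Function.Injective φ)
    (hdeg : ∀ n : ℕ, Submodule.map φ.toLinearMap (ℬ n) = Submodule.map (mono n) (Age 𝒜 n))
    {ι : Type u} (d : ι → ℕ) (f : ι → A) (hf : ∀ a, f a ∈ 𝒜 (d a))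
    (hrad : ∀ g ∈ (HomogeneousIdeal.irrelevant 𝒜).toIdeal,
      ∃ n : ℕ, 0 < n ∧ g ^ n ∈ Ideal.span (Set.range f))
    (fn : ι → B) (hfn : ∀ a, φ (fn a) = Polynomial.monomial (d a) (f a))
    (n m : ℕ) (hn : 1 ≤ n) (hnm : n ≤ m) (a : A) (ha : a ∈ 𝒜 m) (b : B)
    (hb : φ b = Polynomial.monomial n a) :
    b ∈ (Ideal.span (Set.range fn)).radical := by
  classical
  have hairr : a ∈ (HomogeneousIdeal.irrelevant 𝒜).toIdeal := by
    change a ∈ HomogeneousIdeal.irrelevant 𝒜
    rw [HomogeneousIdeal.mem_irrelevant_iff, GradedRing.proj_apply,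
      DirectSum.decompose_of_mem_ne 𝒜 ha (by omega)]
  obtain ⟨k, _, hk⟩ := hrad a hairr
  obtain ⟨c, hc⟩ := Finsupp.mem_ideal_span_range_iff_exists_finsupp.mp hk
  have hak : a ^ k ∈ 𝒜 (k * m) := by
    have := SetLike.pow_mem_graded k ha
    rwa [smul_eq_mul] at this
  -- homogeneous coefficients
  set c' : ι → A := fun α =>
    if d α ≤ k * m then (DirectSum.decompose 𝒜 (c α) (k * m - d α) : A) else 0 with hc'
  have hc'mem : ∀ α, c' α ∈ 𝒜 (k * m - d α) := by
    intro α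
    simp only [hc']
    split_ifs
    · exact Subtype.mem _
    · exact Submodule.zero_mem _
  have hsum : ∑ α ∈ c.support, c' α * f α = a ^ k := by
    have e1 : a ^ k = GradedRing.proj 𝒜 (k * m) (a ^ k) := (proj_of_mem 𝒜 hak).symm
    rw [e1, ← hc, Finsupp.sum, map_sum]
    refine Finset.sum_congr rfl fun α _ => ?_
    rw [GradedRing.proj_apply, DirectSum.coe_decompose_mul_of_right_mem 𝒜 (k * m) (hf α)]
    simp only [hc']
    split_ifs <;> simp
  -- a bound for the degrees involved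
  set D : ℕ := c.support.sup d with hD
  have hDle : ∀ α ∈ c.support, d α ≤ D := fun α hα => Finset.le_sup (f := d) hα
  set K : ℕ := D + k with hK
  set e : ι → A := fun α => a ^ D * c' α with he
  have hemem : ∀ α, e α ∈ Age 𝒜 (n * K - d α) := by
    intro α
    have h1 : e α ∈ 𝒜 (D * m + (k * m - d α)) := by
      have h2 : a ^ D ∈ 𝒜 (D * m) := by
        have := SetLike.pow_mem_graded D ha
        rwa [smul_eq_mul] at this
      exact SetLike.mul_mem_graded h2 (hc'mem α)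
    refine le_Age 𝒜 ?_ h1
    have h3 : n * K ≤ m * K := Nat.mul_le_mul_right K hnm
    have h4 : m * K = D * m + k * m := by rw [hK]; ring
    by_cases hle : d α ≤ k * m
    · omega
    · have h5 : n * K - d α ≤ D * m + k * m - d α := by omega
      have h6 : D * m + k * m - d α ≤ D * m := by omega
      omega
  choose h hhmem hh using fun α => exists_preimage 𝒜 ℬ φ hdeg (n * K - d α) (e α) (hemem α)
  have hbK : b ^ K = ∑ α ∈ c.support, h α * fn α := by
    apply hφ
    rw [map_pow, hb, Polynomial.monomial_pow, map_sum]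
    have e2 : ∀ α ∈ c.support, φ (h α * fn α) = Polynomial.monomial (n * K) (e α * f α) := by
      intro α hα
      rw [map_mul, hh, hfn, Polynomial.monomial_mul_monomial]
      have h7 : d α ≤ D := hDle α hα
      have h8 : D ≤ n * K := by
        rw [hK]
        calc D ≤ D + k := Nat.le_add_right _ _
          _ = 1 * (D + k) := (one_mul _).symm
          _ ≤ n * (D + k) := Nat.mul_le_mul_right _ hn
      rw [Nat.sub_add_cancel (h7.trans h8)]
    rw [Finset.sum_congr rfl e2, ← map_sum]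
    congr 1
    have e3 : ∑ α ∈ c.support, e α * f α = a ^ D * ∑ α ∈ c.support, c' α * f α := by
      rw [Finset.mul_sum]
      refine Finset.sum_congr rfl fun α _ => ?_
      simp only [he]; ring
    rw [e3, hsum, ← pow_add]
  refine Ideal.mem_radical_iff.mpr ⟨K, ?_⟩
  rw [hbK]
  exact Ideal.sum_mem _ fun α _ =>
    Ideal.mul_mem_left _ _ (Ideal.subset_span (Set.mem_range_self α))

theorem radical_natural (hφ : Function.Injective φ)
    (hdeg : ∀ n : ℕ, Submodule.map φ.toLinearMap (ℬ n) = Submodule.map (mono n) (Age 𝒜 n))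
    {ι : Type u} (d : ι → ℕ) (f : ι → A) (hf : ∀ a, f a ∈ 𝒜 (d a))
    (hrad : ∀ g ∈ (HomogeneousIdeal.irrelevant 𝒜).toIdeal,
      ∃ n : ℕ, 0 < n ∧ g ^ n ∈ Ideal.span (Set.range f))
    (fn : ι → B) (hfn : ∀ a, φ (fn a) = Polynomial.monomial (d a) (f a)) :
    ∀ g ∈ (HomogeneousIdeal.irrelevant ℬ).toIdeal,
      ∃ n : ℕ, 0 < n ∧ g ^ n ∈ Ideal.span (Set.range fn) := by
  classical
  -- homogeneous elements of positive degree lie in the radical
  have hhom : ∀ n : ℕ, 1 ≤ n → ∀ b ∈ ℬ n, b ∈ (Ideal.span (Set.range fn)).radical := by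
    intro n hn b hb
    obtain ⟨a, ha, hba⟩ := exists_image 𝒜 ℬ φ hdeg n b hb
    have key : ∃ b' ∈ (Ideal.span (Set.range fn)).radical, φ b' = Polynomial.monomial n a := by
      refine Age_induction 𝒜 ha (fun m hm y hy => ?_) ⟨0, Ideal.zero_mem _, by simp⟩
        (fun y z hy hz => ?_)
      · obtain ⟨b', _, hb'⟩ := exists_preimage 𝒜 ℬ φ hdeg n y (le_Age 𝒜 hm hy)
        exact ⟨b', homogeneous_case 𝒜 ℬ φ hφ hdeg d f hf hrad fn hfn n m hn hm y hy b' hb', hb'⟩
      · obtain ⟨b₁, hb₁, e₁⟩ := hy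
        obtain ⟨b₂, hb₂, e₂⟩ := hz
        exact ⟨b₁ + b₂, Ideal.add_mem _ hb₁ hb₂, by rw [map_add, e₁, e₂, map_add]⟩
    obtain ⟨b', hb', e'⟩ := key
    have : b = b' := hφ (by rw [hba, e'])
    rwa [this]
  intro g hg
  have hgrad : g ∈ (Ideal.span (Set.range fn)).radical := by
    have hg0 : GradedRing.proj ℬ 0 g = 0 := (HomogeneousIdeal.mem_irrelevant_iff _ _).mp hg
    rw [← DirectSum.sum_support_decompose ℬ g]
    refine Ideal.sum_mem _ fun m _ => ?_
    rcases Nat.eq_zero_or_pos m with hm | hm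
    · subst hm
      rw [GradedRing.proj_apply] at hg0
      rw [hg0]; exact Ideal.zero_mem _
    · exact hhom m hm _ (Subtype.mem _)
  obtain ⟨N, hN⟩ := Ideal.mem_radical_iff.mp hgrad
  refine ⟨N + 1, Nat.succ_pos _, ?_⟩
  rw [pow_succ]
  exact Ideal.mul_mem_right _ _ hN

end Groth.Agent.H5.Natural
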