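import Mathlib
import Groth.Agent.Lib.helper5.Natural2

/-!
# `S♮` is generated over `S` by `f_i X^j` (EGA II 2.1.6), Noetherian statement (`S8276`)
-/

set_option autoImplicit false
universe u

namespace Groth.Agent.H5.Natural

open scoped BigOperators

variable {R A : Type u} [CommRing R] [CommRing A] [Algebra R A]
  (𝒜 : ℕ → Submodule R A) [GradedAlgebra 𝒜]

theorem Age_zero : Age 𝒜 0 = ⊤ := by
  classical
  rw [eq_top_iff]
  intro x _
  rw [← DirectSum.sum_support_decompose 𝒜 x]
  exact Submodule.sum_mem _ fun n _ => le_Age 𝒜 (Nat.zero_le n) (Subtype.mem _)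

theorem mem_irrelevant_of_mem {m : ℕ} (hm : 1 ≤ m) {a : A} (ha : a ∈ 𝒜 m) :
    a ∈ (HomogeneousIdeal.irrelevant 𝒜).toIdeal := by
  classical
  change a ∈ HomogeneousIdeal.irrelevant 𝒜
  rw [HomogeneousIdeal.mem_irrelevant_iff, GradedRing.proj_apply,
    DirectSum.decompose_of_mem_ne 𝒜 ha (by omega)]

theorem Age_one_le_irrelevant :
    Age 𝒜 1 ≤ (HomogeneousIdeal.irrelevant 𝒜).toIdeal.restrictScalars R :=
  (Age_le_iff 𝒜).mpr fun _ hm _ ha => mem_irrelevant_of_mem 𝒜 hm ha

theorem irrelevant_le_Age_one (x : A) (hx : x ∈ (HomogeneousIdeal.irrelevant 𝒜).toIdeal) :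
    x ∈ Age 𝒜 1 := by
  classical
  have hx0 : GradedRing.proj 𝒜 0 x = 0 := (HomogeneousIdeal.mem_irrelevant_iff _ _).mp hx
  rw [← DirectSum.sum_support_decompose 𝒜 x]
  refine Submodule.sum_mem _ fun n _ => ?_
  rcases Nat.eq_zero_or_pos n with hn | hn
  · subst hn
    rw [GradedRing.proj_apply] at hx0
    rw [hx0]; exact Submodule.zero_mem _
  · exact le_Age 𝒜 hn (Subtype.mem _)

section gens

variable {ι : Type u} [Fintype ι] (f : ι → A) (d : ι → ℕ)

theorem decomp (hf : ∀ i, f i ∈ 𝒜 (d i))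
    (hgen : (HomogeneousIdeal.irrelevant 𝒜).toIdeal ≤ Ideal.span (Set.range f))
    (m : ℕ) (hm : 1 ≤ m) (a : A) (ha : a ∈ 𝒜 m) :
    ∃ g : ι → A, (∀ i, g i ∈ 𝒜 (m - d i)) ∧ (∀ i, m < d i → g i = 0) ∧ a = ∑ i, g i * f i := by
  classical
  obtain ⟨c, hc⟩ := Ideal.mem_span_range_iff_exists_fun.mp (hgen (mem_irrelevant_of_mem 𝒜 hm ha))
  refine ⟨fun i => if d i ≤ m then (DirectSum.decompose 𝒜 (c i) (m - d i) : A) else 0,
    fun i => ?_, fun i hi => ?_, ?_⟩
  · dsimp only
    split_ifs
    · exact Subtype.mem _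
    · exact Submodule.zero_mem _
  · dsimp only
    rw [if_neg (by omega)]
  · have e1 : a = GradedRing.proj 𝒜 m a := (proj_of_mem 𝒜 ha).symm
    have e2 : GradedRing.proj 𝒜 m a = ∑ i, GradedRing.proj 𝒜 m (c i * f i) := by
      rw [← hc, map_sum]
    rw [e1, e2]
    refine Finset.sum_congr rfl fun i _ => ?_
    rw [GradedRing.proj_apply, DirectSum.coe_decompose_mul_of_right_mem 𝒜 m (hf i)]
    dsimp only
    by_cases h : d i ≤ m
    · rw [if_pos h, if_pos h]
    · rw [if_neg h, if_neg h, zero_mul]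

/-- Any `A`-subalgebra of `A[X]` containing the `f_i X^j` (`1 ≤ j ≤ d_i`) contains `A_{≥ n} X^n`. -/
theorem monomial_mem_of_gens (hf : ∀ i, f i ∈ 𝒜 (d i)) (hd : ∀ i, 1 ≤ d i)
    (hgen : (HomogeneousIdeal.irrelevant 𝒜).toIdeal ≤ Ideal.span (Set.range f))
    (T : Subalgebra A (Polynomial A))
    (hT : ∀ i j, 1 ≤ j → j ≤ d i → Polynomial.monomial j (f i) ∈ T) :
    ∀ n, ∀ a ∈ Age 𝒜 n, Polynomial.monomial n a ∈ T := by
  intro n
  induction n using Nat.strong_induction_on with
  | _ n ih =>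
    intro a ha
    rcases Nat.eq_zero_or_pos n with rfl | hn
    · rw [Polynomial.monomial_zero_left, Polynomial.C_eq_algebraMap]
      exact T.algebraMap_mem a
    · refine Age_induction 𝒜 ha (fun m hm y hy => ?_) (by simp)
        (fun y z hy hz => by rw [map_add]; exact add_mem hy hz)
      obtain ⟨g, hg1, hg2, rfl⟩ := decomp 𝒜 f d hf hgen m (by omega) y hy
      rw [map_sum]
      refine sum_mem fun i _ => ?_
      by_cases hin : n ≤ d i
      · have e : Polynomial.monomial n (g i * f i) =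
            Polynomial.C (g i) * Polynomial.monomial n (f i) := by
          rw [Polynomial.C_mul_monomial]
        rw [e, Polynomial.C_eq_algebraMap]
        exact mul_mem (T.algebraMap_mem _) (hT i n hn hin)
      · push Not at hin
        have e : Polynomial.monomial n (g i * f i) =
            Polynomial.monomial (n - d i) (g i) * Polynomial.monomial (d i) (f i) := by
          rw [Polynomial.monomial_mul_monomial, Nat.sub_add_cancel hin.le]
        rw [e]
        have hdi := hd i
        exact mul_mem (ih (n - d i) (by omega) (g i) (le_Age 𝒜 (by omega) (hg1 i)))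
          (hT i (d i) (hd i) le_rfl)

/-- the finite generating set `f_i X^j`, `1 ≤ j ≤ d_i` -/
def genSet : Set (Polynomial A) :=
  Set.range fun x : (Σ i : ι, Fin (d i)) => Polynomial.monomial ((x.2 : ℕ) + 1) (f x.1)

omit [Fintype ι] in
theorem monomial_mem_genSet (i : ι) (j : ℕ) (h1 : 1 ≤ j) (h2 : j ≤ d i) :
    Polynomial.monomial j (f i) ∈ genSet f d := by
  refine ⟨⟨i, ⟨j - 1, by omega⟩⟩, ?_⟩
  simp only
  rw [Nat.sub_add_cancel h1]

theorem genSet_finite : (genSet f d).Finite := Set.finite_range _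

variable {B : Type u} [CommRing B] [Algebra R B] (ℬ : ℕ → Submodule R B) [GradedAlgebra ℬ]
  (φ : B →ₐ[R] Polynomial A)

theorem range_eq_adjoin
    (hdeg : ∀ n : ℕ, Submodule.map φ.toLinearMap (ℬ n) = Submodule.map (mono n) (Age 𝒜 n))
    (hf : ∀ i, f i ∈ 𝒜 (d i)) (hd : ∀ i, 1 ≤ d i)
    (hgen : (HomogeneousIdeal.irrelevant 𝒜).toIdeal ≤ Ideal.span (Set.range f))
    (p : Polynomial A) : p ∈ φ.range ↔ p ∈ Algebra.adjoin A (genSet f d) := by
  classical
  constructor
  · rintro ⟨b, rfl⟩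
    change φ b ∈ _
    rw [← DirectSum.sum_support_decompose ℬ b, map_sum]
    refine sum_mem fun n _ => ?_
    obtain ⟨a, ha, hba⟩ := exists_image 𝒜 ℬ φ hdeg n _ (Subtype.mem (DirectSum.decompose ℬ b n))
    rw [hba]
    exact monomial_mem_of_gens 𝒜 f d hf hd hgen _
      (fun i j h1 h2 => Algebra.subset_adjoin (monomial_mem_genSet f d i j h1 h2)) n a ha
  · intro hp
    induction hp using Algebra.adjoin_induction with
    | mem x hx =>
      obtain ⟨⟨i, j⟩, rfl⟩ := hx
      obtain ⟨b, _, hb⟩ := exists_preimage 𝒜 ℬ φ hdeg ((j : ℕ) + 1) (f i)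
        (le_Age 𝒜 (by have := j.2; omega) (hf i))
      exact ⟨b, hb⟩
    | algebraMap a =>
      obtain ⟨b, _, hb⟩ := exists_preimage 𝒜 ℬ φ hdeg 0 a (by rw [Age_zero]; trivial)
      refine ⟨b, ?_⟩
      rw [← Polynomial.C_eq_algebraMap, ← Polynomial.monomial_zero_left]
      exact hb
    | add x y _ _ hx hy => exact add_mem hx hy
    | mul x y _ _ hx hy => exact mul_mem hx hy

end gens

/-- homogeneous generators of the irrelevant ideal when it is finitely generated -/
theorem exists_homogeneous_gens (hfg : (HomogeneousIdeal.irrelevant 𝒜).toIdeal.FG) :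
    ∃ s : Finset A, (∀ x ∈ s, ∃ n, 1 ≤ n ∧ x ∈ 𝒜 n) ∧
      (HomogeneousIdeal.irrelevant 𝒜).toIdeal = Ideal.span (s : Set A) := by
  classical
  obtain ⟨t, ht⟩ := hfg
  refine ⟨t.biUnion fun x => (DirectSum.decompose 𝒜 x).support.image
    fun n => ((DirectSum.decompose 𝒜 x n : 𝒜 n) : A), ?_, ?_⟩
  · intro y hy
    simp only [Finset.mem_biUnion, Finset.mem_image] at hy
    obtain ⟨x, hx, n, hn, rfl⟩ := hy
    refine ⟨n, ?_, Subtype.mem _⟩
    have hxirr : x ∈ (HomogeneousIdeal.irrelevant 𝒜).toIdeal := by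
      rw [← ht]; exact Ideal.subset_span hx
    have hx0 : GradedRing.proj 𝒜 0 x = 0 := (HomogeneousIdeal.mem_irrelevant_iff _ _).mp hxirr
    rcases Nat.eq_zero_or_pos n with h0 | h0
    · subst h0
      exfalso
      rw [DFinsupp.mem_support_iff] at hn
      apply hn
      rw [GradedRing.proj_apply] at hx0
      exact Subtype.ext hx0
    · exact h0
  · refine le_antisymm ?_ ?_
    · rw [← ht, Ideal.span_le]
      intro x hx
      change x ∈ Ideal.span _
      rw [← DirectSum.sum_support_decompose 𝒜 x]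
      refine Ideal.sum_mem _ fun n hn => Ideal.subset_span ?_
      simp only [Finset.coe_biUnion, Finset.coe_image, Set.mem_iUnion, Set.mem_image]
      exact ⟨x, hx, n, hn, rfl⟩
    · rw [Ideal.span_le]
      intro y hy
      simp only [Finset.coe_biUnion, Finset.coe_image, Set.mem_iUnion, Set.mem_image] at hy
      obtain ⟨x, hx, n, hn, rfl⟩ := hy
      have hxirr : x ∈ (HomogeneousIdeal.irrelevant 𝒜).toIdeal := by
        rw [← ht]; exact Ideal.subset_span hx
      have hx0 : GradedRing.proj 𝒜 0 x = 0 := (HomogeneousIdeal.mem_irrelevant_iff _ _).mp hxirr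
      rcases Nat.eq_zero_or_pos n with h0 | h0
      · subst h0
        rw [GradedRing.proj_apply] at hx0
        change ((DirectSum.decompose 𝒜 x 0 : 𝒜 0) : A) ∈ _
        rw [hx0]; exact Ideal.zero_mem _
      · exact mem_irrelevant_of_mem 𝒜 h0 (Subtype.mem _)

variable {B : Type u} [CommRing B] [Algebra R B] (ℬ : ℕ → Submodule R B) [GradedAlgebra ℬ]
  (φ : B →ₐ[R] Polynomial A)

theorem isNoetherianRing_natural_iff (hφ : Function.Injective φ)
    (hdeg : ∀ n : ℕ, Submodule.map φ.toLinearMap (ℬ n) = Submodule.map (mono n) (Age 𝒜 n)) :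
    IsNoetherianRing B ↔ IsNoetherianRing A := by
  classical
  constructor
  · intro hB
    refine isNoetherianRing_of_surjective B A
      ((Polynomial.evalRingHom (0 : A)).comp φ.toRingHom) ?_
    intro a
    obtain ⟨b, _, hb⟩ := exists_preimage 𝒜 ℬ φ hdeg 0 a (by rw [Age_zero]; trivial)
    refine ⟨b, ?_⟩
    simp only [RingHom.comp_apply, AlgHom.toRingHom_eq_coe, RingHom.coe_coe, hb,
      Polynomial.coe_evalRingHom, Polynomial.monomial_zero_left, Polynomial.eval_C]
  · intro hA
    obtain ⟨s, hs1, hs2⟩ := exists_homogeneous_gens 𝒜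
      ((isNoetherianRing_iff_ideal_fg A).mp hA _)
    choose! dd hdd using hs1
    let f : {x : A // x ∈ s} → A := Subtype.val
    let d : {x : A // x ∈ s} → ℕ := fun x => dd x.1
    have hf : ∀ i, f i ∈ 𝒜 (d i) := fun i => (hdd i.1 i.2).2
    have hd : ∀ i, 1 ≤ d i := fun i => (hdd i.1 i.2).1
    have hgen : (HomogeneousIdeal.irrelevant 𝒜).toIdeal ≤ Ideal.span (Set.range f) := by
      rw [hs2, Subtype.range_coe_subtype]
      exact le_of_eq rfl
    have hrange := range_eq_adjoin 𝒜 f d ℬ φ hdeg hf hd hgen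
    have hfg : (Algebra.adjoin A (genSet f d)).FG :=
      Subalgebra.fg_def.mpr ⟨_, genSet_finite f d, rfl⟩
    have hft : Algebra.FiniteType A (Algebra.adjoin A (genSet f d)) :=
      (Subalgebra.fg_iff_finiteType _).mp hfg
    have hN : IsNoetherianRing (Algebra.adjoin A (genSet f d)) :=
      Algebra.FiniteType.isNoetherianRing A _
    let e : (Algebra.adjoin A (genSet f d)) ≃+* φ.range :=
      { toFun := fun x => ⟨x.1, (hrange x.1).mpr x.2⟩
        invFun := fun x => ⟨x.1, (hrange x.1).mp x.2⟩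
        left_inv := fun _ => rfl
        right_inv := fun _ => rfl
        map_mul' := fun _ _ => rfl
        map_add' := fun _ _ => rfl }
    have hN2 : IsNoetherianRing φ.range := isNoetherianRing_of_ringEquiv _ e
    exact isNoetherianRing_of_ringEquiv _ (AlgEquiv.ofInjective φ hφ).symm.toRingEquiv

end Groth.Agent.H5.Natural
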