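import Mathlib
import Groth.Agent.Lib.helper5.Natural3

/-!
# `S♮` is of finite type over `S` iff `S` is of finite type over `S_0` (`S8275`)
-/

set_option autoImplicit false
universe u

namespace Groth.Agent.H5.Natural

open scoped BigOperators

variable {R A : Type u} [CommRing R] [CommRing A] [Algebra R A]
  (𝒜 : ℕ → Submodule R A) [GradedAlgebra 𝒜]

/-- (extracted from Mathlib's proof of `Proj.iSup_basicOpen_eq_top'`) -/
theorem irrelevant_le_span_of_adjoin_eq_top {ι : Type*} (f : ι → A)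
    (hfn : ∀ i, ∃ n, f i ∈ 𝒜 n)
    (hf : Algebra.adjoin (𝒜 0) (Set.range f) = ⊤) :
    (HomogeneousIdeal.irrelevant 𝒜).toIdeal ≤ Ideal.span (Set.range f) := by
  classical
  intro x hx
  have hx' : x = x - GradedRing.projZeroRingHom 𝒜 x := by
    rw [GradedRing.projZeroRingHom_apply, ← GradedRing.proj_apply,
      (HomogeneousIdeal.mem_irrelevant_iff _ _).mp hx, sub_zero]
  rw [hx']
  clear hx hx'
  have hmem : x ∈ Algebra.adjoin (𝒜 0) (Set.range f) := by rw [hf]; trivial
  induction hmem using Algebra.adjoin_induction with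
  | mem x hx =>
    obtain ⟨i, rfl⟩ := hx
    obtain ⟨n, hn⟩ := hfn i
    rw [GradedRing.projZeroRingHom_apply]
    by_cases hn' : n = 0
    · rw [DirectSum.decompose_of_mem_same 𝒜 (hn' ▸ hn), sub_self]
      exact zero_mem _
    · rw [DirectSum.decompose_of_mem_ne 𝒜 hn hn', sub_zero]
      exact Ideal.subset_span ⟨_, rfl⟩
  | algebraMap r =>
    have : algebraMap (𝒜 0) A r - GradedRing.projZeroRingHom 𝒜 (algebraMap (𝒜 0) A r) = 0 := by
      rw [sub_eq_zero, GradedRing.projZeroRingHom_apply]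
      exact (DirectSum.decompose_of_mem_same 𝒜 r.2).symm
    rw [this]
    exact zero_mem _
  | add x y _ _ hx hy =>
    rw [map_add, add_sub_add_comm]
    exact add_mem hx hy
  | mul x y _ _ hx' hy' =>
    have : x * y - GradedRing.projZeroRingHom 𝒜 (x * y) =
        x * (y - GradedRing.projZeroRingHom 𝒜 y) +
          (x - GradedRing.projZeroRingHom 𝒜 x) * GradedRing.projZeroRingHom 𝒜 y := by
      rw [map_mul]; ring
    rw [this]
    exact add_mem (Ideal.mul_mem_left _ x hy')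
      (Ideal.mul_mem_right (GradedRing.projZeroRingHom 𝒜 y) _ hx')

/-- If `A₊` is generated by finitely many homogeneous elements of positive degree, these generate
`A` as an `A₀`-algebra. -/
theorem mem_adjoin_of_gens {ι : Type u} [Fintype ι] (f : ι → A) (d : ι → ℕ)
    (hf : ∀ i, f i ∈ 𝒜 (d i)) (hd : ∀ i, 1 ≤ d i)
    (hgen : (HomogeneousIdeal.irrelevant 𝒜).toIdeal ≤ Ideal.span (Set.range f)) :
    ∀ m, ∀ a ∈ 𝒜 m, a ∈ Algebra.adjoin (𝒜 0) (Set.range f) := by
  intro m
  induction m using Nat.strong_induction_on with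
  | _ m ih =>
    intro a ha
    rcases Nat.eq_zero_or_pos m with rfl | hm
    · exact Subalgebra.algebraMap_mem _ (⟨a, ha⟩ : 𝒜 0)
    · obtain ⟨g, hg1, hg2, rfl⟩ := decomp 𝒜 f d hf hgen m hm a ha
      refine sum_mem fun i _ => ?_
      by_cases hi : d i ≤ m
      · have hdi := hd i
        exact mul_mem (ih (m - d i) (by omega) (g i) (hg1 i))
          (Algebra.subset_adjoin (Set.mem_range_self i))
      · rw [hg2 i (by omega), zero_mul]
        exact zero_mem _

theorem finiteType_of_irrelevant_fg (hfg : (HomogeneousIdeal.irrelevant 𝒜).toIdeal.FG) :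
    Algebra.FiniteType (𝒜 0) A := by
  classical
  obtain ⟨s, hs1, hs2⟩ := exists_homogeneous_gens 𝒜 hfg
  choose! dd hdd using hs1
  let f : {x : A // x ∈ s} → A := Subtype.val
  let d : {x : A // x ∈ s} → ℕ := fun x => dd x.1
  have hf : ∀ i, f i ∈ 𝒜 (d i) := fun i => (hdd i.1 i.2).2
  have hd : ∀ i, 1 ≤ d i := fun i => (hdd i.1 i.2).1
  have hgen : (HomogeneousIdeal.irrelevant 𝒜).toIdeal ≤ Ideal.span (Set.range f) := by
    rw [hs2, Subtype.range_coe_subtype]
    exact le_of_eq rfl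
  have key := mem_adjoin_of_gens 𝒜 f d hf hd hgen
  refine ⟨⟨s, ?_⟩⟩
  rw [eq_top_iff]
  intro x _
  have hrange : Set.range f = (s : Set A) := by
    rw [Subtype.range_coe_subtype]; rfl
  rw [← hrange, ← DirectSum.sum_support_decompose 𝒜 x]
  exact sum_mem fun n _ => key n _ (Subtype.mem _)

variable {B : Type u} [CommRing B] [Algebra R B] (ℬ : ℕ → Submodule R B) [GradedAlgebra ℬ]
  (φ : B →ₐ[R] Polynomial A)

/-- `⇐` direction -/
theorem finiteType_natural_of_finiteType (hφ : Function.Injective φ)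
    (hdeg : ∀ n : ℕ, Submodule.map φ.toLinearMap (ℬ n) = Submodule.map (mono n) (Age 𝒜 n))
    (h : Algebra.FiniteType (𝒜 0) A) : Algebra.FiniteType (ℬ 0) B := by
  classical
  obtain ⟨s, hs1, hs2⟩ := GradedAlgebra.exists_finset_adjoin_eq_top_and_homogeneous_ne_zero 𝒜
  choose! dd hdd using hs2
  let f : {x : A // x ∈ s} → A := Subtype.val
  let d : {x : A // x ∈ s} → ℕ := fun x => dd x.1
  have hf : ∀ i, f i ∈ 𝒜 (d i) := fun i => (hdd i.1 i.2).2
  have hd : ∀ i, 1 ≤ d i := fun i => Nat.one_le_iff_ne_zero.mpr (hdd i.1 i.2).1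
  have hrange : Set.range f = (s : Set A) := by
    rw [Subtype.range_coe_subtype]; rfl
  have hgen : (HomogeneousIdeal.irrelevant 𝒜).toIdeal ≤ Ideal.span (Set.range f) :=
    irrelevant_le_span_of_adjoin_eq_top 𝒜 f (fun i => ⟨d i, hf i⟩) (by rw [hrange]; exact hs1)
  have hra := range_eq_adjoin 𝒜 f d ℬ φ hdeg hf hd hgen
  -- preimages of the generators
  have hpre : ∀ x : (Σ i : {x : A // x ∈ s}, Fin (d i)),
      ∃ b : B, φ b = Polynomial.monomial ((x.2 : ℕ) + 1) (f x.1) := by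
    intro x
    obtain ⟨b, _, hb⟩ := exists_preimage 𝒜 ℬ φ hdeg ((x.2 : ℕ) + 1) (f x.1)
      (le_Age 𝒜 (by have := x.2.2; omega) (hf x.1))
    exact ⟨b, hb⟩
  choose h hh using hpre
  have key : ∀ t ∈ Algebra.adjoin A (genSet f d),
      ∃ b' ∈ Algebra.adjoin (ℬ 0) (Set.range h), φ b' = t := by
    intro t ht
    induction ht using Algebra.adjoin_induction with
    | mem t ht =>
      obtain ⟨x, rfl⟩ := ht
      exact ⟨h x, Algebra.subset_adjoin (Set.mem_range_self x), hh x⟩
    | algebraMap a =>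
      obtain ⟨b, hb0, hb⟩ := exists_preimage 𝒜 ℬ φ hdeg 0 a (by rw [Age_zero]; trivial)
      refine ⟨b, Subalgebra.algebraMap_mem _ (⟨b, hb0⟩ : ℬ 0), ?_⟩
      rw [← Polynomial.C_eq_algebraMap, ← Polynomial.monomial_zero_left]
      exact hb
    | add x y _ _ hx hy =>
      obtain ⟨b₁, hb₁, e₁⟩ := hx
      obtain ⟨b₂, hb₂, e₂⟩ := hy
      exact ⟨b₁ + b₂, add_mem hb₁ hb₂, by rw [map_add, e₁, e₂]⟩
    | mul x y _ _ hx hy =>
      obtain ⟨b₁, hb₁, e₁⟩ := hx
      obtain ⟨b₂, hb₂, e₂⟩ := hy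
      exact ⟨b₁ * b₂, mul_mem hb₁ hb₂, by rw [map_mul, e₁, e₂]⟩
  refine ⟨⟨Finset.univ.image h, ?_⟩⟩
  rw [Finset.coe_image, Finset.coe_univ, Set.image_univ, eq_top_iff]
  intro b _
  obtain ⟨b', hb', e'⟩ := key (φ b) ((hra (φ b)).mp ⟨b, rfl⟩)
  have : b = b' := hφ e'.symm
  rwa [this]

/-- `⇒` direction -/
theorem finiteType_of_finiteType_natural (hφ : Function.Injective φ)
    (hdeg : ∀ n : ℕ, Submodule.map φ.toLinearMap (ℬ n) = Submodule.map (mono n) (Age 𝒜 n))
    (h : Algebra.FiniteType (ℬ 0) B) : Algebra.FiniteType (𝒜 0) A := by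
  classical
  obtain ⟨s, hs1, hs2⟩ := GradedAlgebra.exists_finset_adjoin_eq_top_and_homogeneous_ne_zero ℬ
  choose! dd hdd using hs2
  let f : {x : B // x ∈ s} → B := Subtype.val
  have hrange : Set.range f = (s : Set B) := by
    rw [Subtype.range_coe_subtype]; rfl
  have hgenB : (HomogeneousIdeal.irrelevant ℬ).toIdeal ≤ Ideal.span (Set.range f) :=
    irrelevant_le_span_of_adjoin_eq_top ℬ f (fun i => ⟨dd i.1, (hdd i.1 i.2).2⟩)
      (by rw [hrange]; exact hs1)
  -- images of the generators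
  have himg : ∀ i : {x : B // x ∈ s}, ∃ a ∈ Age 𝒜 (dd i.1), φ (f i) = Polynomial.monomial (dd i.1) a :=
    fun i => exists_image 𝒜 ℬ φ hdeg (dd i.1) (f i) (hdd i.1 i.2).2
  choose α hα1 hα2 using himg
  refine finiteType_of_irrelevant_fg 𝒜 ?_
  -- the irrelevant ideal is generated by the `α i` with `dd i = 1`
  let t : Finset A := (Finset.univ.filter fun i : {x : B // x ∈ s} => dd i.1 = 1).image α
  refine ⟨t, le_antisymm ?_ ?_⟩
  · rw [Ideal.span_le]
    intro a ha
    simp only [t, Finset.coe_image, Finset.coe_filter, Finset.mem_univ, true_and, Set.mem_image,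
      Set.mem_ofPred_eq] at ha
    obtain ⟨i, hi, rfl⟩ := ha
    have := hα1 i
    rw [hi] at this
    exact Age_one_le_irrelevant 𝒜 this
  · intro a ha
    have ha1 : a ∈ Age 𝒜 1 := irrelevant_le_Age_one 𝒜 a ha
    obtain ⟨b, hb1, hb⟩ := exists_preimage 𝒜 ℬ φ hdeg 1 a ha1
    have hbirr : b ∈ (HomogeneousIdeal.irrelevant ℬ).toIdeal := mem_irrelevant_of_mem ℬ le_rfl hb1
    obtain ⟨c, hc⟩ := Ideal.mem_span_range_iff_exists_fun.mp (hgenB hbirr)
    -- degree one part
    have e1 : b = ∑ i, GradedRing.proj ℬ 1 (c i * f i) := by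
      conv_lhs => rw [← proj_of_mem ℬ hb1, ← hc, map_sum]
    have e2 : ∀ i, GradedRing.proj ℬ 1 (c i * f i) =
        if dd i.1 = 1 then (DirectSum.decompose ℬ (c i) 0 : B) * f i else 0 := by
      intro i
      rw [GradedRing.proj_apply, DirectSum.coe_decompose_mul_of_right_mem ℬ 1 (hdd i.1 i.2).2]
      have hne : dd i.1 ≠ 0 := (hdd i.1 i.2).1
      by_cases h1 : dd i.1 = 1
      · rw [if_pos (by omega), if_pos h1, h1]
      · rw [if_neg (by omega), if_neg h1]
    -- coefficients in degree zero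
    have hc0 : ∀ i : {x : B // x ∈ s}, ∃ β : A,
        φ ((DirectSum.decompose ℬ (c i) 0 : ℬ 0) : B) = Polynomial.C β := by
      intro i
      obtain ⟨β, _, hβ⟩ := exists_image 𝒜 ℬ φ hdeg 0 _ (Subtype.mem (DirectSum.decompose ℬ (c i) 0))
      exact ⟨β, by rw [hβ, Polynomial.monomial_zero_left]⟩
    choose β hβ using hc0
    have e3 : Polynomial.monomial 1 a =
        Polynomial.monomial 1 (∑ i, if dd i.1 = 1 then β i * α i else 0) := by
      rw [← hb, e1, map_sum, map_sum]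
      refine Finset.sum_congr rfl fun i _ => ?_
      rw [e2 i]
      by_cases h1 : dd i.1 = 1
      · rw [if_pos h1, if_pos h1, map_mul, hβ, hα2, h1, Polynomial.C_mul_monomial]
      · rw [if_neg h1, if_neg h1, map_zero, map_zero]
    have e4 := Polynomial.monomial_injective 1 e3
    rw [e4]
    refine Ideal.sum_mem _ fun i _ => ?_
    by_cases h1 : dd i.1 = 1
    · rw [if_pos h1]
      refine Ideal.mul_mem_left _ _ (Ideal.subset_span ?_)
      simp only [t, Finset.coe_image, Finset.coe_filter, Finset.mem_univ, true_and, Set.mem_image,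
        Set.mem_ofPred_eq]
      exact ⟨i, h1, rfl⟩
    · rw [if_neg h1]; exact Ideal.zero_mem _

theorem finiteType_natural_iff (hφ : Function.Injective φ)
    (hdeg : ∀ n : ℕ, Submodule.map φ.toLinearMap (ℬ n) = Submodule.map (mono n) (Age 𝒜 n)) :
    Algebra.FiniteType (ℬ 0) B ↔ Algebra.FiniteType (𝒜 0) A :=
  ⟨finiteType_of_finiteType_natural 𝒜 ℬ φ hφ hdeg, finiteType_natural_of_finiteType 𝒜 ℬ φ hφ hdeg⟩

end Groth.Agent.H5.Natural
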