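import Mathlib

open TensorProduct

namespace Groth.Agent.H5.NilLift

universe u v

variable {A : Type u} [CommRing A] (I : Ideal A)

/-- `N ⊔ I • ⊤ = ⊤` with `I` nilpotent forces `N = ⊤`. -/
theorem eq_top_of_sup_smul_top {M : Type*} [AddCommGroup M] [Module A M] (hI : IsNilpotent I)
    (N : Submodule A M) (h : N ⊔ I • (⊤ : Submodule A M) = ⊤) : N = ⊤ := by
  obtain ⟨n, hn⟩ := hI
  have key : ∀ k : ℕ, N ⊔ (I ^ k) • (⊤ : Submodule A M) = ⊤ := by
    intro k
    induction k with
    | zero => simp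
    | succ k ih =>
      have h2 : (I ^ k) • (⊤ : Submodule A M) ≤ N ⊔ (I ^ (k + 1)) • (⊤ : Submodule A M) := by
        have h1 : (I ^ k) • (⊤ : Submodule A M) = (I ^ k) • (N ⊔ I • (⊤ : Submodule A M)) := by
          rw [h]
        rw [h1, Submodule.smul_sup, ← Submodule.mul_smul, ← pow_succ]
        exact sup_le_sup (Submodule.smul_le_right) le_rfl
      rw [eq_top_iff]
      calc (⊤ : Submodule A M) = N ⊔ (I ^ k) • (⊤ : Submodule A M) := ih.symm
        _ ≤ N ⊔ (I ^ (k + 1)) • (⊤ : Submodule A M) := sup_le le_sup_left h2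
  have := key n
  rw [hn] at this
  simpa using this

/-- `K ≤ I • K` with `I` nilpotent forces `K = ⊥`. -/
theorem eq_bot_of_le_smul {M : Type*} [AddCommGroup M] [Module A M] (hI : IsNilpotent I)
    (K : Submodule A M) (h : K ≤ I • K) : K = ⊥ := by
  obtain ⟨n, hn⟩ := hI
  have key : ∀ k : ℕ, K ≤ (I ^ k) • K := by
    intro k
    induction k with
    | zero => simp
    | succ k ih =>
      calc K ≤ (I ^ k) • K := ih
        _ ≤ (I ^ k) • (I • K) := Submodule.smul_mono le_rfl h
        _ = (I ^ (k + 1)) • K := by rw [← Submodule.mul_smul, ← pow_succ]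
  have := key n
  rw [hn] at this
  simpa using this


section
variable (M : Type*) [AddCommGroup M] [Module A M]

theorem mk_one_surjective : Function.Surjective (TensorProduct.mk A (A ⧸ I) M 1) := by
  intro x
  obtain ⟨y, hy⟩ := Submodule.Quotient.mk_surjective _ (TensorProduct.quotTensorEquivQuotSMul M I x)
  refine ⟨y, ?_⟩
  apply (TensorProduct.quotTensorEquivQuotSMul M I).injective
  rw [← hy]
  exact TensorProduct.quotTensorEquivQuotSMul_mk_one_tmul I y

theorem mk_one_eq_zero_iff (m : M) :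
    TensorProduct.mk A (A ⧸ I) M 1 m = 0 ↔ m ∈ I • (⊤ : Submodule A M) := by
  rw [← (TensorProduct.quotTensorEquivQuotSMul M I).map_eq_zero_iff]
  show TensorProduct.quotTensorEquivQuotSMul M I (1 ⊗ₜ m) = 0 ↔ _
  rw [TensorProduct.quotTensorEquivQuotSMul_mk_one_tmul, Submodule.Quotient.mk_eq_zero]

/-- the multiplication map `I ⊗ M → M` -/
noncomputable def μ : I ⊗[A] M →ₗ[A] M := (TensorProduct.lid A M).toLinearMap ∘ₗ I.subtype.rTensor M

theorem μ_tmul (a : I) (m : M) : μ I M (a ⊗ₜ m) = (a : A) • m := by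
  simp [μ]

theorem range_μ : LinearMap.range (μ I M) = I • (⊤ : Submodule A M) :=
  Ideal.subtype_rTensor_range M I

theorem μ_injective [Module.Flat A M] : Function.Injective (μ I M) := by
  unfold μ
  rw [LinearMap.coe_comp]
  exact (TensorProduct.lid A M).injective.comp
    (Module.Flat.rTensor_preserves_injective_linearMap _ I.subtype_injective)

end

theorem μ_natural {M N : Type*} [AddCommGroup M] [Module A M] [AddCommGroup N] [Module A N]
    (f : M →ₗ[A] N) (x : I ⊗[A] M) : μ I N (f.lTensor I x) = f (μ I M x) := by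
  induction x using TensorProduct.induction_on with
  | zero => simp
  | tmul a m => simp [μ_tmul]
  | add x y hx hy => simp only [map_add, hx, hy]

/-- if `M/K` is flat then `K ⊓ I M = I K` -/
theorem inf_smul_top_le {M N : Type*} [AddCommGroup M] [Module A M] [AddCommGroup N] [Module A N]
    [Module.Flat A N] (f : M →ₗ[A] N) (hf : Function.Surjective f) :
    LinearMap.ker f ⊓ I • (⊤ : Submodule A M) ≤ I • LinearMap.ker f := by
  rintro x ⟨hxK, hxI⟩
  rw [← range_μ] at hxI
  obtain ⟨ξ, rfl⟩ := hxI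
  have hxK' : f (μ I M ξ) = 0 := hxK
  rw [← μ_natural] at hxK'
  have h0 : f.lTensor I ξ = 0 := μ_injective I N (by rw [hxK', map_zero])
  have hex : Function.Exact (LinearMap.ker f).subtype f := LinearMap.exact_subtype_ker_map f
  have hex' := lTensor_exact I hex hf
  obtain ⟨ζ, rfl⟩ := (hex' ξ).1 h0
  rw [μ_natural]
  have h1 : μ I (LinearMap.ker f) ζ ∈ I • (⊤ : Submodule A (LinearMap.ker f)) := by
    rw [← range_μ]; exact ⟨ζ, rfl⟩
  have h2 : Submodule.map (LinearMap.ker f).subtype (I • (⊤ : Submodule A (LinearMap.ker f))) =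
      I • LinearMap.ker f := by
    rw [Submodule.map_smul'', Submodule.map_top, Submodule.range_subtype]
  rw [← h2]
  exact ⟨_, h1, rfl⟩

theorem linearEquiv_of_baseChange (hI : IsNilpotent I)
    (P P' : Type v) [AddCommGroup P] [Module A P] [Module.Projective A P]
    [AddCommGroup P'] [Module A P'] [Module.Flat A P']
    (e : (A ⧸ I) ⊗[A] P ≃ₗ[A ⧸ I] (A ⧸ I) ⊗[A] P') : Nonempty (P ≃ₗ[A] P') := by
  let π : P →ₗ[A] (A ⧸ I) ⊗[A] P := TensorProduct.mk A (A ⧸ I) P 1
  let π' : P' →ₗ[A] (A ⧸ I) ⊗[A] P' := TensorProduct.mk A (A ⧸ I) P' 1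
  let eA : (A ⧸ I) ⊗[A] P →ₗ[A] (A ⧸ I) ⊗[A] P' := e.toLinearMap.restrictScalars A
  obtain ⟨f, hf⟩ := Module.projective_lifting_property π' (eA ∘ₗ π) (mk_one_surjective I P')
  have hf' : ∀ p, π' (f p) = e (π p) := fun p => congrArg (fun g => g p) hf
  -- surjective
  have hsurj : Function.Surjective f := by
    rw [← LinearMap.range_eq_top]
    apply eq_top_of_sup_smul_top I hI
    rw [eq_top_iff]
    intro p' _
    obtain ⟨p, hp⟩ := mk_one_surjective I P (e.symm (π' p'))
    have h1 : π' (p' - f p) = 0 := by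
      rw [map_sub, hf']
      have : π p = e.symm (π' p') := hp
      rw [this, e.apply_symm_apply, sub_self]
    have h2 : p' - f p ∈ I • (⊤ : Submodule A P') := (mk_one_eq_zero_iff I P' _).1 h1
    have : p' = f p + (p' - f p) := by abel
    rw [this]
    exact Submodule.add_mem_sup ⟨p, rfl⟩ h2
  -- injective
  have hinj : Function.Injective f := by
    rw [← LinearMap.ker_eq_bot]
    apply eq_bot_of_le_smul I hI
    intro x hx
    apply inf_smul_top_le I f hsurj
    have h1 : e (π x) = 0 := by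
      rw [← hf', LinearMap.mem_ker.1 hx, map_zero]
    exact ⟨hx, (mk_one_eq_zero_iff I P x).1 (e.map_eq_zero_iff.1 h1)⟩
  exact ⟨LinearEquiv.ofBijective f ⟨hinj, hsurj⟩⟩

end Groth.Agent.H5.NilLift
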