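import Mathlib
import Groth.Agent.Lib.helper5.NilLift

/-! # Bases modulo a nilpotent ideal -/

open TensorProduct

namespace Groth.Agent.H5.NilLift

universe u v

variable {A : Type u} [CommRing A] (I : Ideal A)

/-- if `I ⊗ N → N` is injective then `K ⊓ I M ≤ I K` for `K = ker (M → N)` -/
theorem inf_smul_top_le' {M N : Type*} [AddCommGroup M] [Module A M] [AddCommGroup N] [Module A N]
    (hN : Function.Injective (μ I N)) (f : M →ₗ[A] N) (hf : Function.Surjective f) :
    LinearMap.ker f ⊓ I • (⊤ : Submodule A M) ≤ I • LinearMap.ker f := by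
  rintro x ⟨hxK, hxI⟩
  rw [← range_μ] at hxI
  obtain ⟨ξ, rfl⟩ := hxI
  have hxK' : f (μ I M ξ) = 0 := hxK
  rw [← μ_natural] at hxK'
  have h0 : f.lTensor I ξ = 0 := hN (by rw [hxK', map_zero])
  have hex : Function.Exact (LinearMap.ker f).subtype f := LinearMap.exact_subtype_ker_map f
  have hex' := lTensor_exact I hex hf
  obtain ⟨ζ, rfl⟩ := (hex' ξ).1 h0
  rw [μ_natural]
  have h1 : μ I (LinearMap.ker f) ζ ∈ I • (⊤ : Submodule A (LinearMap.ker f)) := by
    rw [← range_μ]; exact ⟨ζ, rfl⟩
  have h2 : Submodule.map (LinearMap.ker f).subtype (I • (⊤ : Submodule A (LinearMap.ker f))) =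
      I • LinearMap.ker f := by
    rw [Submodule.map_smul'', Submodule.map_top, Submodule.range_subtype]
  rw [← h2]
  exact ⟨_, h1, rfl⟩

variable {M : Type v} [AddCommGroup M] [Module A M] {X : Type*} (x : X → M)

/-- the base change of `linearCombination x` is `linearCombination (1 ⊗ x)` -/
theorem baseChange_linearCombination [DecidableEq X] (z : (A ⧸ I) ⊗[A] (X →₀ A)) :
    (Finsupp.linearCombination A x).baseChange (A ⧸ I) z =
      Finsupp.linearCombination (A ⧸ I) (fun a => (1 : A ⧸ I) ⊗ₜ[A] x a)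
        (TensorProduct.finsuppScalarRight A (A ⧸ I) (A ⧸ I) X z) := by
  induction z using TensorProduct.induction_on with
  | zero => simp
  | add a b ha hb => simp only [map_add, ha, hb]
  | tmul r f =>
    induction f using Finsupp.induction_linear with
    | zero => simp
    | add f g hf hg =>
      simp only [TensorProduct.tmul_add, map_add, hf, hg]
    | single a s =>
      simp only [LinearMap.baseChange_tmul, Finsupp.linearCombination_single]
      rw [TensorProduct.finsuppScalarRight_apply_tmul]
      simp only [Finsupp.sum_single_index, zero_smul, Finsupp.single_zero,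
        Finsupp.linearCombination_single]
      rw [TensorProduct.smul_tmul', TensorProduct.tmul_smul, TensorProduct.smul_tmul']
      congr 1
      rw [smul_eq_mul, mul_one, Algebra.smul_def, mul_comm]

theorem basis_of_basis_mod (hI : IsNilpotent I) (htor : Function.Injective (μ I M))
    (hli : LinearIndependent (A ⧸ I) (fun a => (1 : A ⧸ I) ⊗ₜ[A] x a))
    (hsp : Submodule.span (A ⧸ I) (Set.range fun a => (1 : A ⧸ I) ⊗ₜ[A] x a) = ⊤) :
    LinearIndependent A x ∧ Submodule.span A (Set.range x) = ⊤ := by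
  classical
  set φ := Finsupp.linearCombination A x with hφ
  set c := TensorProduct.finsuppScalarRight A (A ⧸ I) (A ⧸ I) X with hc
  have hbar : ∀ z, φ.baseChange (A ⧸ I) z =
      Finsupp.linearCombination (A ⧸ I) (fun a => (1 : A ⧸ I) ⊗ₜ[A] x a) (c z) :=
    baseChange_linearCombination I x
  -- `φ̄` is bijective
  have hbar_inj : Function.Injective (φ.baseChange (A ⧸ I)) := by
    intro z w hzw
    rw [hbar, hbar] at hzw
    exact c.injective (hli hzw)
  have hbar_surj : Function.Surjective (φ.baseChange (A ⧸ I)) := by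
    intro y
    have hy : y ∈ Submodule.span (A ⧸ I) (Set.range fun a => (1 : A ⧸ I) ⊗ₜ[A] x a) := by
      rw [hsp]; trivial
    rw [← Finsupp.range_linearCombination] at hy
    obtain ⟨w, rfl⟩ := hy
    exact ⟨c.symm w, by rw [hbar, c.apply_symm_apply]⟩
  -- surjectivity
  have hsurj : LinearMap.range φ = ⊤ := by
    apply eq_top_of_sup_smul_top I hI
    rw [eq_top_iff]
    intro m _
    obtain ⟨z, hz⟩ := hbar_surj ((1 : A ⧸ I) ⊗ₜ[A] m)
    obtain ⟨f, rfl⟩ := mk_one_surjective I (X →₀ A) z
    have h1 : TensorProduct.mk A (A ⧸ I) M 1 (m - φ f) = 0 := by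
      rw [map_sub]
      show (1 : A ⧸ I) ⊗ₜ[A] m - (1 : A ⧸ I) ⊗ₜ[A] φ f = 0
      rw [← hz]
      simp
    rw [mk_one_eq_zero_iff] at h1
    have : m = φ f + (m - φ f) := by abel
    rw [this]
    exact Submodule.add_mem_sup ⟨f, rfl⟩ h1
  have hsurj' : Function.Surjective φ := LinearMap.range_eq_top.mp hsurj
  refine ⟨?_, ?_⟩
  · rw [linearIndependent_iff_injective_finsuppLinearCombination, ← LinearMap.ker_eq_bot]
    apply eq_bot_of_le_smul I hI
    refine le_trans ?_ (inf_smul_top_le' I htor φ hsurj')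
    refine le_inf le_rfl ?_
    intro f hf
    rw [← mk_one_eq_zero_iff]
    apply hbar_inj
    rw [map_zero]
    show φ.baseChange (A ⧸ I) ((1 : A ⧸ I) ⊗ₜ[A] f) = 0
    rw [LinearMap.baseChange_tmul, LinearMap.mem_ker.mp hf, TensorProduct.tmul_zero]
  · rw [← Finsupp.range_linearCombination]
    exact hsurj

end Groth.Agent.H5.NilLift
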