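import Mathlib
import Groth.Agent.Lib.helper5.NilLift2

/-! # Lifting finite projective modules along a locally nilpotent ideal -/

open TensorProduct

namespace Groth.Agent.H5.NilLift

universe u v

variable {A : Type u} [CommRing A] (I : Ideal A)

theorem coord_mem_of_mem_smul_top {X : Type*} (m : X →₀ A)
    (hm : m ∈ I • (⊤ : Submodule A (X →₀ A))) (y : X) : m y ∈ I := by
  refine Submodule.smul_induction_on (p := fun m => m y ∈ I) hm ?_ ?_
  · intro r hr n _
    rw [Finsupp.smul_apply, smul_eq_mul]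
    exact I.mul_mem_right _ hr
  · intro a b ha hb
    rw [Finsupp.add_apply]
    exact I.add_mem ha hb

theorem isNilpotent_of_baseChange_eq_zero_of_finite (hI : ∀ x ∈ I, IsNilpotent x)
    {X : Type*} [Finite X] (φ : Module.End A (X →₀ A)) (hφ : φ.baseChange (A ⧸ I) = 0) :
    IsNilpotent φ := by
  classical
  have := Fintype.ofFinite X
  have h1 : LinearMap.range φ ≤ I • (⊤ : Submodule A (X →₀ A)) := by
    rintro _ ⟨y, rfl⟩
    rw [← mk_one_eq_zero_iff]
    have := congrArg (fun g => g ((1 : A ⧸ I) ⊗ₜ[A] y)) hφ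
    simpa using this
  -- the ideal generated by the matrix entries
  let I₀ : Ideal A := Ideal.span (Set.range fun p : X × X => φ (Finsupp.single p.1 1) p.2)
  have hI₀le : I₀ ≤ I := by
    rw [Ideal.span_le]
    rintro _ ⟨p, rfl⟩
    exact coord_mem_of_mem_smul_top I _ (h1 ⟨_, rfl⟩) p.2
  have hI₀fg : I₀.FG := ⟨(Finset.univ : Finset (X × X)).image
    (fun p : X × X => φ (Finsupp.single p.1 1) p.2), by simp [I₀]⟩
  have hI₀nil : IsNilpotent I₀ := by
    rw [Ideal.FG.isNilpotent_iff_le_nilradical hI₀fg]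
    intro x hx
    exact mem_nilradical.mpr (hI x (hI₀le hx))
  have h2 : LinearMap.range φ ≤ I₀ • (⊤ : Submodule A (X →₀ A)) := by
    rintro _ ⟨f, rfl⟩
    have hf : f = ∑ x, f x • Finsupp.single x (1 : A) := by
      conv_lhs => rw [← Finsupp.univ_sum_single f]
      refine Finset.sum_congr rfl fun x _ => ?_
      rw [Finsupp.smul_single, smul_eq_mul, mul_one]
    rw [hf, map_sum]
    refine Submodule.sum_mem _ fun x _ => ?_
    rw [map_smul]
    refine Submodule.smul_mem _ _ ?_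
    have hx : φ (Finsupp.single x 1) =
        ∑ y, (φ (Finsupp.single x 1) y) • Finsupp.single y (1 : A) := by
      conv_lhs => rw [← Finsupp.univ_sum_single (φ (Finsupp.single x 1))]
      refine Finset.sum_congr rfl fun y _ => ?_
      rw [Finsupp.smul_single, smul_eq_mul, mul_one]
    rw [hx]
    refine Submodule.sum_mem _ fun y _ => ?_
    exact Submodule.smul_mem_smul (Ideal.subset_span ⟨(x, y), rfl⟩) Submodule.mem_top
  obtain ⟨n, hn⟩ := hI₀nil
  refine ⟨n, ?_⟩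
  have h3 := range_pow_le I₀ φ h2 n
  rw [hn, Ideal.zero_eq_bot, Submodule.bot_smul] at h3
  apply LinearMap.ext
  intro y
  have : (φ ^ n) y ∈ (⊥ : Submodule A (X →₀ A)) := h3 ⟨y, rfl⟩
  simpa using this

theorem exists_idempotent_lift_of_finite (hI : ∀ x ∈ I, IsNilpotent x) (X : Type v) [Finite X]
    (e₀ : Module.End (A ⧸ I) ((A ⧸ I) ⊗[A] (X →₀ A))) (he₀ : IsIdempotentElem e₀) :
    ∃ e : Module.End A (X →₀ A), IsIdempotentElem e ∧ e.baseChange (A ⧸ I) = e₀ := by
  refine exists_idempotent_lift_aux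
    (R := Module.End A (X →₀ A)) (S := Module.End (A ⧸ I) ((A ⧸ I) ⊗[A] (X →₀ A)))
    (Module.End.baseChangeHom A (A ⧸ I) (X →₀ A)).toRingHom ?_ ?_ e₀ he₀
  · intro ψ
    obtain ⟨φ, hφ⟩ := exists_end_lift I X ψ
    exact ⟨φ, hφ⟩
  · intro φ hφ
    exact isNilpotent_of_baseChange_eq_zero_of_finite I hI φ hφ

theorem exists_finite_projective_lift (hI : ∀ x ∈ I, IsNilpotent x)
    (P₀ : Type v) [AddCommGroup P₀] [Module (A ⧸ I) P₀] [Module.Projective (A ⧸ I) P₀]
    [Module.Finite (A ⧸ I) P₀] :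
    ∃ (P : Type u) (_ : AddCommGroup P) (_ : Module A P),
      Module.Projective A P ∧ Module.Finite A P ∧ Nonempty ((A ⧸ I) ⊗[A] P ≃ₗ[A ⧸ I] P₀) := by
  classical
  obtain ⟨n, f₀, hf₀⟩ := Module.Finite.exists_fin' (A ⧸ I) P₀
  let t : (Fin n →₀ (A ⧸ I)) →ₗ[A ⧸ I] P₀ :=
    f₀ ∘ₗ (Finsupp.linearEquivFunOnFinite (A ⧸ I) (A ⧸ I) (Fin n)).toLinearMap
  have ht : Function.Surjective t := hf₀.comp (LinearEquiv.surjective _)
  obtain ⟨s₀, hs₀⟩ := Module.projective_lifting_property t LinearMap.id ht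
  let c : (A ⧸ I) ⊗[A] (Fin n →₀ A) ≃ₗ[A ⧸ I] (Fin n →₀ (A ⧸ I)) :=
    TensorProduct.finsuppScalarRight A (A ⧸ I) (A ⧸ I) (Fin n)
  let q : (A ⧸ I) ⊗[A] (Fin n →₀ A) →ₗ[A ⧸ I] P₀ := t ∘ₗ c.toLinearMap
  let s : P₀ →ₗ[A ⧸ I] (A ⧸ I) ⊗[A] (Fin n →₀ A) := c.symm.toLinearMap ∘ₗ s₀
  have hs : ∀ x, q (s x) = x := by
    intro x
    show t (c (c.symm (s₀ x))) = x
    rw [c.apply_symm_apply]
    exact congrArg (fun g => g x) hs₀
  let e₀ : Module.End (A ⧸ I) ((A ⧸ I) ⊗[A] (Fin n →₀ A)) := s ∘ₗ q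
  have he₀ : IsIdempotentElem e₀ := by
    apply LinearMap.ext
    intro y
    show s (q (s (q y))) = s (q y)
    rw [hs]
  obtain ⟨e, he, hee₀⟩ := exists_idempotent_lift_of_finite I hI (Fin n) e₀ he₀
  have hee : ∀ y, e (e y) = e y := fun y => congrArg (fun g => g y) he
  let P : Submodule A (Fin n →₀ A) := LinearMap.range e
  let ι : P →ₗ[A] (Fin n →₀ A) := P.subtype
  let r : (Fin n →₀ A) →ₗ[A] P := e.codRestrict P (fun y => ⟨y, rfl⟩)
  have hrι : r ∘ₗ ι = LinearMap.id := by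
    apply LinearMap.ext
    rintro ⟨_, y, rfl⟩
    apply Subtype.ext
    exact hee y
  have hιr : ι ∘ₗ r = e := by
    apply LinearMap.ext
    intro y
    rfl
  have hfin : Module.Finite A P := Module.Finite.range e
  refine ⟨P, inferInstance, inferInstance, Module.Projective.of_split ι r hrι, hfin, ?_⟩
  refine equiv_of_idempotent I q s hs ι r hrι ?_
  rw [hιr, hee₀]

end Groth.Agent.H5.NilLift
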