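import Mathlib
import Groth.Agent.Lib.helper5.NilLift2

/-! # The Picard group is insensitive to nilpotent thickenings -/

open TensorProduct

namespace Groth.Agent.H5.PicNil

open CommRing

universe u

variable {A : Type u} [CommRing A] (I : Ideal A)

theorem mapAlgebra_injective (hI : IsNilpotent I) :
    Function.Injective (Pic.mapAlgebra A (A ⧸ I)) := by
  rw [injective_iff_map_eq_one]
  intro M hM
  rw [Pic.mapAlgebra_apply, Pic.mk_eq_one_iff] at hM
  obtain ⟨e⟩ := hM
  have e' : (A ⧸ I) ⊗[A] M ≃ₗ[A ⧸ I] (A ⧸ I) ⊗[A] A :=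
    e ≪≫ₗ (AlgebraTensorModule.rid A (A ⧸ I) (A ⧸ I)).symm
  obtain ⟨f⟩ := Groth.Agent.H5.NilLift.linearEquiv_of_baseChange (A := A) (I := I) hI M A e'
  rw [← Pic.mk_eq_self (M := M), Pic.mk_eq_one_iff]
  exact ⟨f⟩

theorem mapAlgebra_surjective (hI : IsNilpotent I) :
    Function.Surjective (Pic.mapAlgebra A (A ⧸ I)) := by
  intro N
  -- lift `N` and its dual
  obtain ⟨P, _, _, hP, ⟨e⟩⟩ :=
    Groth.Agent.H5.NilLift.exists_projective_lift (A := A) (I := I) hI N
  obtain ⟨P', _, _, hP', ⟨e'⟩⟩ :=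
    Groth.Agent.H5.NilLift.exists_projective_lift (A := A) (I := I) hI (Module.Dual (A ⧸ I) N)
  -- `P' ⊗ P` is trivial modulo `I`
  have e1 : (A ⧸ I) ⊗[A] (P' ⊗[A] P) ≃ₗ[A ⧸ I] (A ⧸ I) ⊗[A] A :=
    AlgebraTensorModule.distribBaseChange A (A ⧸ I) P' P ≪≫ₗ
      TensorProduct.congr e' e ≪≫ₗ Module.Invertible.linearEquiv (A ⧸ I) N ≪≫ₗ
      (AlgebraTensorModule.rid A (A ⧸ I) (A ⧸ I)).symm
  obtain ⟨f⟩ := Groth.Agent.H5.NilLift.linearEquiv_of_baseChange (A := A) (I := I) hI
    (P' ⊗[A] P) A e1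
  have hinv : Module.Invertible A P := Module.Invertible.right f
  refine ⟨Pic.mk A P, ?_⟩
  rw [Pic.mapAlgebra_apply, Pic.mk_eq_iff]
  exact ⟨AlgebraTensorModule.congr (LinearEquiv.refl _ _) (Pic.mk.linearEquiv A P) ≪≫ₗ e⟩

theorem mapAlgebra_bijective (hI : IsNilpotent I) :
    Function.Bijective (Pic.mapAlgebra A (A ⧸ I)) :=
  ⟨mapAlgebra_injective I hI, mapAlgebra_surjective I hI⟩

/-- A ring isomorphism induces a bijection on Picard groups. -/
theorem mapRingHom_bijective_of_ringEquiv {R S : Type u} [CommRing R] [CommRing S] (e : R ≃+* S) :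
    Function.Bijective (Pic.mapRingHom (e : R →+* S)) := by
  refine Function.bijective_iff_has_inverse.mpr ⟨Pic.mapRingHom (e.symm : S →+* R), ?_, ?_⟩
  · intro M
    rw [Pic.mapRingHom_mapRingHom]
    have : (e.symm : S →+* R).comp (e : R →+* S) = RingHom.id R := by ext; simp
    rw [this, Pic.mapRingHom_id_apply]
  · intro M
    rw [Pic.mapRingHom_mapRingHom]
    have : (e : R →+* S).comp (e.symm : S →+* R) = RingHom.id S := by ext; simp
    rw [this, Pic.mapRingHom_id_apply]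

theorem mapRingHom_bijective {A' B : Type u} [CommRing A'] [CommRing B]
    (f : A' →+* B) (hf : Function.Surjective f) (hker : IsNilpotent (RingHom.ker f)) :
    Function.Bijective (Pic.mapRingHom f) := by
  let e : (A' ⧸ RingHom.ker f) ≃+* B := RingHom.quotientKerEquivOfSurjective hf
  have hfe : f = (e : (A' ⧸ RingHom.ker f) →+* B).comp (Ideal.Quotient.mk (RingHom.ker f)) := by
    ext x; rfl
  rw [hfe, ← Pic.mapRingHom_comp_mapRingHom]
  have h1 : Function.Bijective (Pic.mapRingHom (Ideal.Quotient.mk (RingHom.ker f))) := by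
    have : Ideal.Quotient.mk (RingHom.ker f) = algebraMap A' (A' ⧸ RingHom.ker f) := rfl
    rw [this, Pic.mapRingHom_algebraMap]
    exact mapAlgebra_bijective _ hker
  exact (mapRingHom_bijective_of_ringEquiv e).comp h1

end Groth.Agent.H5.PicNil
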