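import Mathlib

/-! # The Eilenberg swindle -/

namespace Groth.Agent.H5.Swindle

open Cardinal

universe u v w v'

/-- `ι ≃ ℕ × ι` for infinite `ι`. -/
theorem nonempty_equiv_nat_prod (ι : Type u) [Infinite ι] : Nonempty (ℕ × ι ≃ ι) := by
  have h : #(ℕ × ι) = #ι := by
    rw [Cardinal.mk_prod]
    simp
  exact Cardinal.eq.mp h

variable (R : Type u) [CommRing R]

section
variable (α : Type w) (M : Type v) (N : Type v') [AddCommGroup M] [Module R M]
  [AddCommGroup N] [Module R N]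

/-- `(M × N)^(α) ≃ M^(α) × N^(α)`. -/
noncomputable def finsuppProd : (α →₀ M × N) ≃ₗ[R] (α →₀ M) × (α →₀ N) where
  toFun f := (f.mapRange Prod.fst rfl, f.mapRange Prod.snd rfl)
  invFun gh := Finsupp.zipWith Prod.mk rfl gh.1 gh.2
  map_add' f g := by
    ext <;> simp
  map_smul' r f := by
    ext <;> simp
  left_inv f := by
    ext <;> simp
  right_inv gh := by
    ext <;> simp

/-- `M^(ℕ) ≃ M × M^(ℕ)`. -/
noncomputable def shift : (ℕ →₀ M) ≃ₗ[R] M × (ℕ →₀ M) :=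
  Finsupp.domLCongr (Equiv.natSumPUnitEquivNat.{0}).symm ≪≫ₗ
    Finsupp.sumFinsuppLEquivProdFinsupp R ≪≫ₗ
    LinearEquiv.prodCongr (LinearEquiv.refl R _) (Finsupp.uniqueLinearEquiv R M PUnit.unit) ≪≫ₗ
    LinearEquiv.prodComm R _ _

end

/-- **Eilenberg swindle**: if `P ⊕ Q` is free of infinite rank `ι` then `P ⊕ R^(ι) ≃ R^(ι)`. -/
theorem swindle (P : Type v) (Q : Type v') [AddCommGroup P] [Module R P]
    [AddCommGroup Q] [Module R Q] (ι : Type w) [Infinite ι] (e : (P × Q) ≃ₗ[R] (ι →₀ R)) :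
    Nonempty ((P × (ι →₀ R)) ≃ₗ[R] (ι →₀ R)) := by
  obtain ⟨σ⟩ := nonempty_equiv_nat_prod ι
  -- `F ≃ (P × Q)^(ℕ)`
  let eG : (ι →₀ R) ≃ₗ[R] (ℕ →₀ P) × (ℕ →₀ Q) :=
    Finsupp.domLCongr σ.symm ≪≫ₗ Finsupp.curryLinearEquiv R ≪≫ₗ
      Finsupp.mapRange.linearEquiv e.symm ≪≫ₗ finsuppProd R ℕ P Q
  refine ⟨LinearEquiv.prodCongr (LinearEquiv.refl R P) eG ≪≫ₗ
    (LinearEquiv.prodAssoc R P (ℕ →₀ P) (ℕ →₀ Q)).symm ≪≫ₗ
    LinearEquiv.prodCongr (shift R P).symm (LinearEquiv.refl R _) ≪≫ₗ eG.symm⟩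

end Groth.Agent.H5.Swindle

namespace Groth.Agent.H5.Swindle

universe u v w

variable (R : Type u) [CommRing R]

/-- A retract of `F` is a direct summand. -/
noncomputable def prodKerEquiv {P : Type v} {F : Type w} [AddCommGroup P] [Module R P]
    [AddCommGroup F] [Module R F] (s : P →ₗ[R] F) (π : F →ₗ[R] P) (hs : π ∘ₗ s = LinearMap.id) :
    (P × LinearMap.ker π) ≃ₗ[R] F where
  toFun pq := s pq.1 + pq.2.1
  map_add' a b := by simp only [Prod.fst_add, Prod.snd_add, map_add, Submodule.coe_add]; abel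
  map_smul' r a := by simp [smul_add]
  invFun x := (π x, ⟨x - s (π x), by
    have := LinearMap.congr_fun hs (π x)
    simp only [LinearMap.comp_apply, LinearMap.id_apply] at this
    simp [this]⟩)
  left_inv := by
    rintro ⟨p, ⟨q, hq⟩⟩
    have := LinearMap.congr_fun hs p
    simp only [LinearMap.comp_apply, LinearMap.id_apply] at this
    have hq' : π q = 0 := hq
    ext <;> simp [this, hq']
  right_inv x := by simp

/-- A projective module becomes free after adding a free module. -/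
theorem exists_free_prod (P : Type v) [AddCommGroup P] [Module R P] [Module.Projective R P] :
    Module.Free R (P × ((ℕ × P) →₀ R)) := by
  classical
  obtain ⟨s, hs⟩ := (Module.projective_def' (R := R) (P := P)).1 inferInstance
  let Q := LinearMap.ker (Finsupp.linearCombination R (id : P → P))
  let e0 : (P × Q) ≃ₗ[R] (P →₀ R) := prodKerEquiv R s _ hs
  let G := (ℕ × P) →₀ R
  let eG : G ≃ₗ[R] (ℕ →₀ (P →₀ R)) := Finsupp.curryLinearEquiv R
  let e : (P × (Q × G)) ≃ₗ[R] G :=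
    (LinearEquiv.prodAssoc R P Q G).symm ≪≫ₗ LinearEquiv.prodCongr e0 eG ≪≫ₗ
      (shift R (P →₀ R)).symm ≪≫ₗ eG.symm
  obtain ⟨f⟩ := swindle R P (Q × G) (ℕ × P) e
  exact Module.Free.of_equiv f.symm

end Groth.Agent.H5.Swindle
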